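import Cfsg.Agent.Omega.NatPair.Semi
import Cfsg.Agent.MinSimple.Basic
import Cfsg.Agent.Mrg.Omega.SQ1.BauL
import Cfsg.Agent.PLocal.OffenderStep
import Cfsg.Agent.ZN.ChoiceSit
import Cfsg.Agent.ZN.ChoiceBase
import Cfsg.Agent.PLocal.ElemAbSup
import Cfsg.Agent.Lib.ProductSet
import Cfsg.Agent.Classification.TitsFin.Defs_m3
import Cfsg.Agent.FastGrp
import Cfsg.Agent.Prune
set_option linter.all false

section
prune_inst 0x7ffcfef9afbcaddfdfff7fffffd5dffdfdf8ffffefdffdcbffe8cbef5fff4b8cede52ba58febd0fe5ee36294b4f87b13f97ec23fea6bdc7ffffd5df45ffbff8fedf6bd8071d68c3e0fbe0fff03f07fce7f3fffffffffffffffffffffffffffbeffffffffffff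

-- part: Omega/NO3S/Fld/DEight
section
prune_inst 0x4001122020000000002a000000010000102002000006201000001002100884181000000101140022000000c002812dc0040400000000020000000010100100010001000000006000e000000000000000000000000000000000000000000000000000
set_option linter.all false
open scoped Cfsg.Agent.FastGrp

/-!
# Fld, `q = 4`: the module `F₄²` for `D₈` (#15515, NOTATION)

`S` acts on `V = F²`, `|F| = 4`, as the Sylow 2-subgroup `D₈` of `ΓL₂(4)`.

* `Crd F S V z` : coordinates: `s ∈ S` acts as `(x₀, x₁) ↦ (σ x₀ + c σ x₁, σ x₁)`, all `c` occur with `σ = 1`,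
  some `σ ≠ 1` occurs, `z = e (1, 0)`;
* `Mod S V R V3 z` : the facts which are used (`R = {x₁ = 0}`, `V3 = {x₁ ∈ F₂}`);
* `Crd.mod` : `Crd` gives `Mod`.
-/

set_option autoImplicit false
set_option linter.unusedSectionVars false

namespace Cfsg.Agent.Omega.NO3S.Fld.DEight

open Subgroup Cfsg
open Cfsg.Agent.Omega.NatPair (ext2)

universe u

variable {G : Type u} [Group G]

/-- `D` acts on `V` as an elementary abelian 2-group. -/
structure ElemOn (V D : Subgroup G) : Prop where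
  sq : ∀ a ∈ D, a ^ 2 ∈ centralizer (V : Set G)
  comm : ∀ a ∈ D, ∀ b ∈ D, a * b * a⁻¹ * b⁻¹ ∈ centralizer (V : Set G)

/-- The facts about the action of `S` on the natural module `V` of `SL₂(4)`, `S` inducing a field automorphism. -/
structure Mod (S V R V3 : Subgroup G) (z : G) : Prop where
  comm : V ≤ centralizer (V : Set G)
  sq : ∀ v ∈ V, v ^ 2 = 1
  card : Nat.card V = 16
  cardR : Nat.card R = 4
  cardV3 : Nat.card V3 = 8
  R_le : R ≤ V3
  V3_le : V3 ≤ V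
  z_mem : z ∈ R
  z_ne : z ≠ 1
  S_z : ∀ s ∈ S, s * z = z * s
  S_V : S ≤ normalizer (V : Set G)
  S_V3 : S ≤ normalizer (V3 : Set G)
  S_R : S ≤ normalizer (R : Set G)
  /-- the `S`-invariant subgroups of `V` form a chain -/
  uni : ∀ I : Subgroup G, I ≤ V → S ≤ normalizer (I : Set G) →
    I = ⊥ ∨ I = zpowers z ∨ I = R ∨ I = V3 ∨ I = V
  /-- `|D : C_D(V)| ≤ |V : C_V(D)|` -/
  ind : ∀ D : Subgroup G, D ≤ S → ElemOn V D →
    (centralizer (V : Set G)).relIndex D ≤ (centralizer (D : Set G)).relIndex V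
  le4 : ∀ D : Subgroup G, D ≤ S → ElemOn V D → (centralizer (V : Set G)).relIndex D ≤ 4
  small : ∀ b ∈ S, (∀ v ∈ V, b * v * b⁻¹ * v⁻¹ ∈ zpowers z) → b ∈ centralizer (V : Set G)
  out : ∀ D : Subgroup G, D ≤ S → ElemOn V D → ¬ D ≤ centralizer (R : Set G) →
    ∀ b ∈ D, ∀ v ∈ V3, b * v * b⁻¹ * v⁻¹ ∈ zpowers z
  faith : ∀ b ∈ S, b ∈ centralizer (V3 : Set G) → b ∈ centralizer (V : Set G)
  centR : ∀ b ∈ S, b ∈ centralizer (R : Set G) → ∀ v ∈ V, b * v * b⁻¹ * v⁻¹ ∈ R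
  nCentR : ∀ b ∈ S, b ∉ centralizer (R : Set G) → ∀ v ∈ V, b * v * b⁻¹ * v⁻¹ ∈ R → v ∈ V3
  /-- some element of `S` acts nontrivially on `R` -/
  fld : ¬ S ≤ centralizer (R : Set G)

/-- Coordinates for the action of `S` on `V = F²`. -/
structure Crd (F : Type*) [Field F] (S V : Subgroup G) (z : G) where
  e : (Fin 2 → F) → G
  e_add : ∀ x y, e (x + y) = e x * e y
  e_inj : Function.Injective e
  mem_iff : ∀ g, g ∈ V ↔ ∃ x, e x = g
  z_eq : z = e ![1, 0]
  act : ∀ s ∈ S, ∃ (σ : F ≃+* F) (c : F), ∀ x : Fin 2 → F,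
    s * e x * s⁻¹ = e ![σ (x 0) + c * σ (x 1), σ (x 1)]
  full : ∀ c : F, ∃ s ∈ S, ∀ x : Fin 2 → F, s * e x * s⁻¹ = e ![x 0 + c * x 1, x 1]
  fld : ∃ s ∈ S, ∃ (σ : F ≃+* F) (c : F), σ ≠ RingEquiv.refl F ∧ ∀ x : Fin 2 → F,
    s * e x * s⁻¹ = e ![σ (x 0) + c * σ (x 1), σ (x 1)]

/-! ### The field of order 4 -/

section field

variable {F : Type*} [Field F] [CharP F 2]

theorem exists_omega (hF : Nat.card F = 4) :
    ∃ w : F, w * w = w + 1 ∧ ∀ x : F, x = 0 ∨ x = 1 ∨ x = w ∨ x = w + 1 := by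
  classical
  have hfin : Finite F := Nat.finite_of_card_ne_zero (by rw [hF]; decide)
  have : Fintype F := Fintype.ofFinite F
  have hc : Fintype.card F = 4 := by rw [← Nat.card_eq_fintype_card, hF]
  obtain ⟨w, hw⟩ : ∃ w : F, w ∉ ({0, 1} : Finset F) := by
    by_contra h
    push Not at h
    have h1 : Fintype.card F ≤ ({0, 1} : Finset F).card := by
      rw [← Finset.card_univ]
      exact Finset.card_le_card fun x _ => h x
    have h2 : ({0, 1} : Finset F).card ≤ 2 := Finset.card_le_two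
    omega
  simp only [Finset.mem_insert, Finset.mem_singleton, not_or] at hw
  obtain ⟨h0, h1⟩ := hw
  have h4 : w ^ 4 = w := by
    have := FiniteField.pow_card w
    rwa [hc] at this
  have h3 : w * (w - 1) * (w * w + w + 1) = 0 := by
    have : w * (w - 1) * (w * w + w + 1) = w ^ 4 - w := by ring
    rw [this, h4, sub_self]
  have h5 : w * w + w + 1 = 0 := by
    rcases mul_eq_zero.1 h3 with h | h
    · rcases mul_eq_zero.1 h with h | h
      · exact absurd h h0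
      · exact absurd (sub_eq_zero.1 h) h1
    · exact h
  have h2F : (2 : F) = 0 := CharTwo.two_eq_zero
  have h6 : w * w = w + 1 := by
    have : w * w = w + 1 + (w * w + w + 1) - (2 : F) * (w + 1) := by ring
    rw [this, h5, h2F]; ring
  refine ⟨w, h6, ?_⟩
  have hne : w + 1 ≠ 0 := fun h => h1 (by
    have : w = (w + 1) + (2 : F) * w - (w + w) - 1 + (2 : F) * 0 := by ring
    have h8 : w = 1 := by
      have h9 : w + 1 + 1 = 0 + 1 := by rw [h]
      rw [add_assoc, CharTwo.add_self_eq_zero, add_zero, zero_add] at h9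
      exact h9
    exact h8)
  have hcard : ({0, 1, w, w + 1} : Finset F).card = 4 := by
    rw [Finset.card_insert_of_notMem, Finset.card_insert_of_notMem, Finset.card_insert_of_notMem,
      Finset.card_singleton]
    · simp
    · simp only [Finset.mem_insert, Finset.mem_singleton, not_or]
      refine ⟨Ne.symm h1, fun h => h0 ?_⟩
      exact (left_eq_add.1 ((add_comm w 1) ▸ h))
    · simp only [Finset.mem_insert, Finset.mem_singleton, not_or]
      exact ⟨zero_ne_one, Ne.symm h0, Ne.symm hne⟩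
  intro x
  have hx : x ∈ ({0, 1, w, w + 1} : Finset F) := by
    have : ({0, 1, w, w + 1} : Finset F) = Finset.univ := by
      apply Finset.eq_univ_of_card
      rw [hcard, hc]
    rw [this]
    exact Finset.mem_univ x
  simpa only [_root_.Finset.mem_insert, _root_.Finset.mem_singleton] using hx

/-- A nontrivial automorphism of `F₄`: `σ x + x = 1` unless `x ∈ F₂`. -/
theorem sig_add (hF : Nat.card F = 4) {σ : F ≃+* F} (hσ : σ ≠ RingEquiv.refl F) {x : F} (h0 : x ≠ 0)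
    (h1 : x ≠ 1) : σ x + x = 1 := by
  obtain ⟨w, hw, hall⟩ := exists_omega hF
  have hσw : σ w = w + 1 := by
    have h2 : σ w * σ w = σ w + 1 := by rw [← map_mul, hw, map_add, map_one]
    rcases hall (σ w) with h | h | h | h
    · rw [h] at h2; simp at h2
    · rw [h, mul_one, CharTwo.add_self_eq_zero] at h2; exact absurd h2 one_ne_zero
    · exfalso
      apply hσ
      ext y
      rcases hall y with hy | hy | hy | hy <;> rw [hy] <;> simp only [h, _root_.map_zero, _root_.RingEquiv.refl_apply, _root_.map_one, _root_.map_add]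
    · exact h
  rcases hall x with h | h | h | h
  · exact absurd h h0
  · exact absurd h h1
  · rw [h, hσw]
    have : w + 1 + w = (w + w) + 1 := by ring
    rw [this, CharTwo.add_self_eq_zero, zero_add]
  · rw [h, map_add, map_one, hσw]
    have : w + 1 + 1 + (w + 1) = (w + w) + (1 + 1) + 1 := by ring
    rw [this, CharTwo.add_self_eq_zero, CharTwo.add_self_eq_zero, zero_add, zero_add]

theorem sig_add_cases (hF : Nat.card F = 4) (σ : F ≃+* F) (x : F) : σ x + x = 0 ∨ σ x + x = 1 := by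
  by_cases hσ : σ = RingEquiv.refl F
  · left; rw [hσ]; exact CharTwo.add_self_eq_zero x
  by_cases h0 : x = 0
  · left; rw [h0, map_zero, add_zero]
  by_cases h1 : x = 1
  · left; rw [h1, map_one]; exact CharTwo.add_self_eq_zero 1
  right
  exact sig_add hF hσ h0 h1

theorem of_sig_eq (hF : Nat.card F = 4) {σ : F ≃+* F} (hσ : σ ≠ RingEquiv.refl F) {x : F} (h : σ x = x) :
    x = 0 ∨ x = 1 := by
  by_contra hcon
  push Not at hcon
  have h1 := sig_add hF hσ hcon.1 hcon.2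
  rw [h, CharTwo.add_self_eq_zero] at h1
  exact zero_ne_one h1

theorem exists_ne (hF : Nat.card F = 4) : ∃ w : F, w ≠ 0 ∧ w ≠ 1 := by
  obtain ⟨w, hw, -⟩ := exists_omega hF
  refine ⟨w, fun h => ?_, fun h => ?_⟩
  · rw [h] at hw; simp at hw
  · rw [h, mul_one, CharTwo.add_self_eq_zero] at hw; exact one_ne_zero hw

/-- an additive subgroup with an element outside `F₂` and `1` is everything -/
theorem mem_of_two (hF : Nat.card F = 4) {p : F → Prop} (h0 : p 0) (hadd : ∀ x y, p x → p y → p (x + y))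
    {a : F} (ha0 : a ≠ 0) (ha1 : a ≠ 1) (ha : p a) (h1 : p 1) (x : F) : p x := by
  obtain ⟨w, hw, hall⟩ := exists_omega hF
  have e1 : w + 1 + 1 = w := by rw [add_assoc, CharTwo.add_self_eq_zero, add_zero]
  rcases hall a with h | h | h | h
  · exact absurd h ha0
  · exact absurd h ha1
  · rw [h] at ha
    rcases hall x with hx | hx | hx | hx <;> rw [hx]
    · exact h0
    · exact h1
    · exact ha
    · exact hadd _ _ ha h1
  · rw [h] at ha
    rcases hall x with hx | hx | hx | hx <;> rw [hx]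
    · exact h0
    · exact h1
    · rw [← e1]; exact hadd _ _ ha h1
    · exact ha

end field

/-! ### The subgroups -/

namespace Crd

variable {F : Type*} [Field F] {S V : Subgroup G} {z : G} (M : Crd F S V z)
include M

theorem e_zero : M.e 0 = 1 := by
  have := M.e_add 0 0
  rw [add_zero] at this
  exact left_eq_mul.1 this

theorem e_neg (x : Fin 2 → F) : M.e (-x) = (M.e x)⁻¹ := by
  rw [eq_inv_iff_mul_eq_one, ← M.e_add, neg_add_cancel, M.e_zero]

theorem e_eq_one {x : Fin 2 → F} : M.e x = 1 ↔ x = 0 := by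
  rw [← M.e_zero]
  exact M.e_inj.eq_iff

theorem e_mem (x : Fin 2 → F) : M.e x ∈ V := (M.mem_iff _).2 ⟨x, rfl⟩

theorem mul_comm' (x y : Fin 2 → F) : M.e x * M.e y = M.e y * M.e x := by
  rw [← M.e_add, ← M.e_add, add_comm]

variable [CharP F 2]

theorem e_inv (x : Fin 2 → F) : (M.e x)⁻¹ = M.e x := by
  rw [← M.e_neg]
  congr 1
  funext i
  exact CharTwo.neg_eq (x i)

theorem comm_eq {s : G} {x y : Fin 2 → F} (h : s * M.e x * s⁻¹ = M.e y) :
    s * M.e x * s⁻¹ * (M.e x)⁻¹ = M.e (y + x) := by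
  rw [h, M.e_inv, ← M.e_add]

/-- `R = {x₁ = 0}` -/
def R : Subgroup G where
  carrier := {g | ∃ x, M.e x = g ∧ x 1 = 0}
  one_mem' := ⟨0, M.e_zero, rfl⟩
  mul_mem' := by
    rintro _ _ ⟨x, rfl, hx⟩ ⟨y, rfl, hy⟩
    exact ⟨x + y, M.e_add x y, by rw [Pi.add_apply, hx, hy, add_zero]⟩
  inv_mem' := by
    rintro _ ⟨x, rfl, hx⟩
    exact ⟨x, (M.e_inv x).symm, hx⟩

/-- `V3 = {x₁ ∈ F₂}` -/
def V3 : Subgroup G where
  carrier := {g | ∃ x, M.e x = g ∧ (x 1 = 0 ∨ x 1 = 1)}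
  one_mem' := ⟨0, M.e_zero, Or.inl rfl⟩
  mul_mem' := by
    rintro _ _ ⟨x, rfl, hx⟩ ⟨y, rfl, hy⟩
    refine ⟨x + y, M.e_add x y, ?_⟩
    rw [Pi.add_apply]
    rcases hx with hx | hx <;> rcases hy with hy | hy <;> rw [hx, hy]
    · left; exact add_zero 0
    · right; exact zero_add 1
    · right; exact add_zero 1
    · left; exact CharTwo.add_self_eq_zero 1
  inv_mem' := by
    rintro _ ⟨x, rfl, hx⟩
    exact ⟨x, (M.e_inv x).symm, hx⟩

theorem mem_R {x : Fin 2 → F} : M.e x ∈ M.R ↔ x 1 = 0 := by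
  constructor
  · rintro ⟨y, hy, h⟩
    rwa [← M.e_inj hy]
  · intro h
    exact ⟨x, rfl, h⟩

theorem mem_V3 {x : Fin 2 → F} : M.e x ∈ M.V3 ↔ (x 1 = 0 ∨ x 1 = 1) := by
  constructor
  · rintro ⟨y, hy, h⟩
    rwa [← M.e_inj hy]
  · intro h
    exact ⟨x, rfl, h⟩

theorem R_le : M.R ≤ M.V3 := by
  rintro _ ⟨x, rfl, hx⟩
  exact ⟨x, rfl, Or.inl hx⟩

theorem V3_le : M.V3 ≤ V := by
  rintro _ ⟨x, rfl, -⟩
  exact M.e_mem x

theorem card_V (hF : Nat.card F = 4) : Nat.card V = 16 := by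
  have h1 : Nat.card (Fin 2 → F) = Nat.card V := by
    refine Nat.card_congr (Equiv.ofBijective (fun x => ⟨M.e x, M.e_mem x⟩) ⟨?_, ?_⟩)
    · intro x y h
      exact M.e_inj (congrArg Subtype.val h)
    · rintro ⟨v, hv⟩
      obtain ⟨x, rfl⟩ := (M.mem_iff v).1 hv
      exact ⟨x, rfl⟩
  rw [← h1]
  simp only [Nat.card_fun, hF, _root_.Nat.card_eq_fintype_card, _root_.Fintype.card_fin, _root_.Nat.reducePow]

theorem card_R (hF : Nat.card F = 4) : Nat.card M.R = 4 := by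
  rw [← hF]
  refine (Nat.card_congr (Equiv.ofBijective (fun a : F => (⟨M.e ![a, 0], M.mem_R.2 rfl⟩ : M.R)) ⟨?_, ?_⟩)).symm
  · intro x y h
    have := M.e_inj (congrArg Subtype.val h)
    simpa using congrFun this 0
  · rintro ⟨_, x, rfl, hx⟩
    refine ⟨x 0, Subtype.ext ?_⟩
    show M.e ![x 0, 0] = M.e x
    congr 1
    exact ext2 rfl hx.symm

theorem card_V3 (hF : Nat.card F = 4) : Nat.card M.V3 = 8 := by
  have h8 : Nat.card (F × Bool) = 8 := by
    rw [Nat.card_prod, hF]; simp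
  rw [← h8]
  refine (Nat.card_congr (Equiv.ofBijective
    (fun a : F × Bool => (⟨M.e ![a.1, if a.2 then 1 else 0], M.mem_V3.2 (by
      rcases a with ⟨a, b⟩; cases b <;> simp)⟩ : M.V3)) ⟨?_, ?_⟩)).symm
  · rintro ⟨x, b⟩ ⟨y, c⟩ h
    have h1 := M.e_inj (congrArg Subtype.val h)
    have h2 := congrFun h1 0
    have h3 := congrFun h1 1
    simp only [Matrix.cons_val_zero, Matrix.cons_val_one] at h2 h3
    refine Prod.ext h2 ?_
    cases b <;> cases c <;> simp at h3 ⊢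
  · rintro ⟨_, x, rfl, hx⟩
    rcases hx with hx | hx
    · refine ⟨(x 0, false), Subtype.ext ?_⟩
      show M.e ![x 0, _] = M.e x
      congr 1
      exact ext2 rfl (by simp [hx])
    · refine ⟨(x 0, true), Subtype.ext ?_⟩
      show M.e ![x 0, _] = M.e x
      congr 1
      exact ext2 rfl (by simp [hx])

theorem z_sq : z * z = 1 := by
  rw [M.z_eq, ← M.e_add, M.e_eq_one]
  apply ext2
  · show (1 : F) + 1 = 0
    exact CharTwo.add_self_eq_zero 1
  · show (0 : F) + 0 = 0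
    exact add_zero 0

theorem mem_zpowers {g : G} : g ∈ zpowers z ↔ g = 1 ∨ g = z := by
  constructor
  · rintro ⟨n, rfl⟩
    obtain ⟨k, hk | hk⟩ := Int.even_or_odd' n
    · left
      show z ^ n = 1
      rw [hk, zpow_mul, show z ^ (2 : ℤ) = 1 by rw [zpow_two]; exact M.z_sq, one_zpow]
    · right
      show z ^ n = z
      rw [hk, zpow_add, zpow_mul, show z ^ (2 : ℤ) = 1 by rw [zpow_two]; exact M.z_sq, one_zpow, one_mul, zpow_one]
  · rintro (rfl | rfl)
    · exact one_mem _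
    · exact Subgroup.mem_zpowers _

theorem e_mem_zpowers {x : Fin 2 → F} : M.e x ∈ zpowers z ↔ x 1 = 0 ∧ (x 0 = 0 ∨ x 0 = 1) := by
  rw [M.mem_zpowers]
  constructor
  · rintro (h | h)
    · rw [M.e_eq_one] at h
      rw [h]; exact ⟨rfl, Or.inl rfl⟩
    · rw [M.e_inj (h.trans M.z_eq)]; exact ⟨rfl, Or.inr rfl⟩
  · rintro ⟨h1, h0 | h0⟩
    · left
      rw [M.e_eq_one]
      exact ext2 h0 h1
    · right
      exact (congrArg M.e (ext2 h0 h1)).trans M.z_eq.symm

/-! ### The action -/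

theorem comm_mem {s : G} {I : Subgroup G} (hs : s ∈ normalizer (I : Set G)) {v : G} (hv : v ∈ I) :
    s * v * s⁻¹ * v⁻¹ ∈ I :=
  mul_mem ((mem_normalizer_iff.1 hs v).1 hv) (inv_mem hv)

/-- the commutator of `s = (σ, c)` with `e x` -/
theorem comm_act {s : G} {σ : F ≃+* F} {c : F}
    (h : ∀ x : Fin 2 → F, s * M.e x * s⁻¹ = M.e ![σ (x 0) + c * σ (x 1), σ (x 1)]) (x : Fin 2 → F) :
    s * M.e x * s⁻¹ * (M.e x)⁻¹ = M.e ![σ (x 0) + x 0 + c * σ (x 1), σ (x 1) + x 1] := by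
  rw [M.comm_eq (h x)]
  congr 1
  apply ext2
  · simp only [Pi.add_apply, Matrix.cons_val_zero]
    ring
  · rfl

theorem S_V : S ≤ normalizer (V : Set G) := by
  intro s hs
  have key : ∀ s ∈ S, ∀ v ∈ V, s * v * s⁻¹ ∈ V := by
    intro s hs v hv
    obtain ⟨x, rfl⟩ := (M.mem_iff v).1 hv
    obtain ⟨σ, c, h⟩ := M.act s hs
    rw [h]
    exact M.e_mem _
  rw [mem_normalizer_iff]
  intro v
  refine ⟨key s hs v, fun hv => ?_⟩
  have := key s⁻¹ (S.inv_mem hs) _ hv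
  simpa [mul_assoc] using this

theorem S_R : S ≤ normalizer (M.R : Set G) := by
  intro s hs
  have key : ∀ s ∈ S, ∀ v ∈ M.R, s * v * s⁻¹ ∈ M.R := by
    rintro s hs _ ⟨x, rfl, hx⟩
    obtain ⟨σ, c, h⟩ := M.act s hs
    rw [h, M.mem_R]
    simp [hx]
  rw [mem_normalizer_iff]
  intro v
  refine ⟨key s hs v, fun hv => ?_⟩
  have := key s⁻¹ (S.inv_mem hs) _ hv
  simpa [mul_assoc] using this

theorem S_V3 : S ≤ normalizer (M.V3 : Set G) := by
  intro s hs
  have key : ∀ s ∈ S, ∀ v ∈ M.V3, s * v * s⁻¹ ∈ M.V3 := by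
    rintro s hs _ ⟨x, rfl, hx⟩
    obtain ⟨σ, c, h⟩ := M.act s hs
    rw [h, M.mem_V3]
    rcases hx with hx | hx <;> simp [hx]
  rw [mem_normalizer_iff]
  intro v
  refine ⟨key s hs v, fun hv => ?_⟩
  have := key s⁻¹ (S.inv_mem hs) _ hv
  simpa [mul_assoc] using this

theorem cent_iff {s : G} {σ : F ≃+* F} {c : F}
    (h : ∀ x : Fin 2 → F, s * M.e x * s⁻¹ = M.e ![σ (x 0) + c * σ (x 1), σ (x 1)]) :
    s ∈ centralizer (V : Set G) ↔ σ = RingEquiv.refl F ∧ c = 0 := by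
  constructor
  · intro hs
    have h1 : ∀ x : Fin 2 → F, (![σ (x 0) + c * σ (x 1), σ (x 1)] : Fin 2 → F) = x := by
      intro x
      apply M.e_inj
      rw [← h, mul_inv_eq_iff_eq_mul]
      exact (mem_centralizer_iff.1 hs _ (M.e_mem x)).symm
    constructor
    · ext a
      have := congrFun (h1 ![a, 0]) 0
      simpa using this
    · have := congrFun (h1 ![0, 1]) 0
      simpa using this
  · rintro ⟨rfl, rfl⟩
    rw [mem_centralizer_iff]
    intro v hv
    obtain ⟨x, rfl⟩ := (M.mem_iff v).1 hv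
    have h1 := h x
    have h2 : (![(RingEquiv.refl F) (x 0) + 0 * (RingEquiv.refl F) (x 1), (RingEquiv.refl F) (x 1)] : Fin 2 → F) = x := by
      apply ext2 <;> simp
    rw [h2, mul_inv_eq_iff_eq_mul] at h1
    exact h1.symm

theorem centR_iff {s : G} {σ : F ≃+* F} {c : F}
    (h : ∀ x : Fin 2 → F, s * M.e x * s⁻¹ = M.e ![σ (x 0) + c * σ (x 1), σ (x 1)]) :
    s ∈ centralizer (M.R : Set G) ↔ σ = RingEquiv.refl F := by
  constructor
  · intro hs
    ext a
    have h1 : (![σ a + c * σ 0, σ 0] : Fin 2 → F) = ![a, 0] := by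
      apply M.e_inj
      have := h ![a, 0]
      simp only [Matrix.cons_val_zero, Matrix.cons_val_one] at this
      rw [← this, mul_inv_eq_iff_eq_mul]
      exact (mem_centralizer_iff.1 hs _ (M.mem_R.2 rfl)).symm
    have := congrFun h1 0
    simpa using this
  · rintro rfl
    rw [mem_centralizer_iff]
    rintro _ ⟨x, rfl, hx⟩
    have h1 := h x
    have h2 : (![(RingEquiv.refl F) (x 0) + c * (RingEquiv.refl F) (x 1), (RingEquiv.refl F) (x 1)] : Fin 2 → F) = x := by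
      apply ext2 <;> simp [hx]
    rw [h2, mul_inv_eq_iff_eq_mul] at h1
    exact h1.symm

theorem uni (hF : Nat.card F = 4) (I : Subgroup G) (hI : I ≤ V) (hS : S ≤ normalizer (I : Set G)) :
    I = ⊥ ∨ I = zpowers z ∨ I = M.R ∨ I = M.V3 ∨ I = V := by
  have hful : ∀ (c : F) (x : Fin 2 → F), M.e x ∈ I → M.e ![c * x 1, 0] ∈ I := by
    intro c x hx
    obtain ⟨s, hs, h⟩ := M.full c
    have h1 := M.comm_mem (hS hs) hx
    rw [M.comm_eq (h x)] at h1
    convert h1 using 2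
    apply ext2
    · simp only [Pi.add_apply, Matrix.cons_val_zero]
      rw [add_right_comm, CharTwo.add_self_eq_zero, zero_add]
    · show (0 : F) = x 1 + x 1
      rw [CharTwo.add_self_eq_zero]
  obtain ⟨s0, hs0, σ, c, hσ, h0⟩ := M.fld
  have hfld : ∀ x : Fin 2 → F, M.e x ∈ I → M.e ![σ (x 0) + x 0 + c * σ (x 1), σ (x 1) + x 1] ∈ I := by
    intro x hx
    rw [← M.comm_act h0 x]
    exact M.comm_mem (hS hs0) hx
  -- `x₁ ≠ 0` gives `R ≤ I`
  have hR : ∀ x : Fin 2 → F, M.e x ∈ I → x 1 ≠ 0 → M.R ≤ I := by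
    rintro x hx hx1 _ ⟨y, rfl, hy⟩
    have := hful (y 0 * (x 1)⁻¹) x hx
    convert this using 2
    apply ext2
    · simp [hx1]
    · simpa using hy
  by_cases hA : ∃ x : Fin 2 → F, M.e x ∈ I ∧ x 1 ≠ 0 ∧ x 1 ≠ 1
  · right; right; right; right
    obtain ⟨x, hx, hx0, hx1⟩ := hA
    have hRI := hR x hx hx0
    have h01 : ∀ y : Fin 2 → F, M.e y ∈ I → M.e ![0, y 1] ∈ I := by
      intro y hy
      have h2 : M.e ![y 0, 0] ∈ I := hRI (M.mem_R.2 rfl)
      have h3 := mul_mem hy h2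
      rw [← M.e_add] at h3
      convert h3 using 2
      apply ext2
      · simp [CharTwo.add_self_eq_zero]
      · simp
    have h1 := h01 _ (hfld x hx)
    simp only [Matrix.cons_val_one] at h1
    rw [sig_add hF hσ hx0 hx1] at h1
    have h2 := h01 x hx
    have hall : ∀ a : F, M.e ![0, a] ∈ I := by
      intro a
      refine mem_of_two hF (p := fun a => M.e ![0, a] ∈ I) ?_ ?_ hx0 hx1 h2 h1 a
      · have : M.e ![0, 0] = 1 := by
          rw [M.e_eq_one]; exact ext2 rfl rfl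
        rw [this]; exact one_mem _
      · intro a b ha hb
        have := mul_mem ha hb
        rw [← M.e_add] at this
        convert this using 2
        apply ext2 <;> simp
    refine le_antisymm hI fun v hv => ?_
    obtain ⟨y, rfl⟩ := (M.mem_iff v).1 hv
    have h3 : M.e ![y 0, 0] ∈ I := hRI (M.mem_R.2 rfl)
    have := mul_mem h3 (hall (y 1))
    rw [← M.e_add] at this
    convert this using 2
    apply ext2 <;> simp
  push Not at hA
  have hIV3 : I ≤ M.V3 := by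
    intro v hv
    obtain ⟨x, rfl⟩ := (M.mem_iff v).1 (hI hv)
    rw [M.mem_V3]
    by_cases h : x 1 = 0
    · exact Or.inl h
    · exact Or.inr (hA x hv h)
  by_cases hB : ∃ x : Fin 2 → F, M.e x ∈ I ∧ x 1 ≠ 0
  · right; right; right; left
    obtain ⟨x, hx, hx0⟩ := hB
    have hRI := hR x hx hx0
    have hx1 := hA x hx hx0
    refine le_antisymm hIV3 ?_
    rintro _ ⟨y, rfl, hy⟩
    rcases hy with hy | hy
    · exact hRI (M.mem_R.2 hy)
    · have h3 : M.e ![y 0 + x 0, 0] ∈ I := hRI (M.mem_R.2 rfl)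
      have := mul_mem h3 hx
      rw [← M.e_add] at this
      convert this using 2
      apply ext2
      · simp only [Pi.add_apply, Matrix.cons_val_zero]
        rw [add_assoc, CharTwo.add_self_eq_zero, add_zero]
      · simp [hx1, hy]
  push Not at hB
  have hIR : I ≤ M.R := by
    intro v hv
    obtain ⟨x, rfl⟩ := (M.mem_iff v).1 (hI hv)
    exact M.mem_R.2 (hB x hv)
  by_cases hC : ∃ x : Fin 2 → F, M.e x ∈ I ∧ x 0 ≠ 0 ∧ x 0 ≠ 1
  · right; right; left
    obtain ⟨x, hx, hx0, hx1⟩ := hC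
    refine le_antisymm hIR ?_
    have h1 := hfld x hx
    rw [hB x hx, map_zero, mul_zero, add_zero, sig_add hF hσ hx0 hx1, add_zero] at h1
    have h2 : M.e ![x 0, 0] ∈ I := by
      convert hx using 2
      exact ext2 rfl (hB x hx).symm
    have hall : ∀ a : F, M.e ![a, 0] ∈ I := by
      intro a
      refine mem_of_two hF (p := fun a => M.e ![a, 0] ∈ I) ?_ ?_ hx0 hx1 h2 h1 a
      · have : M.e ![0, 0] = 1 := by
          rw [M.e_eq_one]; exact ext2 rfl rfl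
        rw [this]; exact one_mem _
      · intro a b ha hb
        have := mul_mem ha hb
        rw [← M.e_add] at this
        convert this using 2
        apply ext2 <;> simp
    rintro _ ⟨y, rfl, hy⟩
    convert hall (y 0) using 2
    exact ext2 rfl hy
  push Not at hC
  have hIz : ∀ v ∈ I, v = 1 ∨ v = z := by
    intro v hv
    obtain ⟨x, rfl⟩ := (M.mem_iff v).1 (hI hv)
    rw [← M.mem_zpowers, M.e_mem_zpowers]
    refine ⟨hB x hv, ?_⟩
    by_cases h : x 0 = 0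
    · exact Or.inl h
    · exact Or.inr (hC x hv h)
  by_cases hz : z ∈ I
  · right; left
    refine le_antisymm (fun v hv => ?_) ?_
    · rcases hIz v hv with rfl | rfl
      · exact one_mem _
      · exact Subgroup.mem_zpowers _
    · rwa [zpowers_le]
  · left
    rw [eq_bot_iff]
    intro v hv
    rcases hIz v hv with rfl | rfl
    · exact one_mem _
    · exact absurd hv hz

/-- the pairs `(σ, c)` of an elementary abelian `D` -/
theorem outer_F2 (hF : Nat.card F = 4) {s : G} {σ : F ≃+* F} {c : F} (hσ : σ ≠ RingEquiv.refl F)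
    (h : ∀ x : Fin 2 → F, s * M.e x * s⁻¹ = M.e ![σ (x 0) + c * σ (x 1), σ (x 1)])
    (hs : s ^ 2 ∈ centralizer (V : Set G)) : c = 0 ∨ c = 1 := by
  apply of_sig_eq hF hσ
  have h1 : s ^ 2 * M.e ![0, 1] * (s ^ 2)⁻¹ = M.e ![σ c + c, 1] := by
    have e1 : s ^ 2 * M.e ![0, 1] * (s ^ 2)⁻¹ = s * (s * M.e ![0, 1] * s⁻¹) * s⁻¹ := by
      simp only [pow_two, mul_inv_rev, mul_assoc]
    rw [e1, h, h]
    congr 1
    apply ext2 <;> simp only [_root_.Fin.isValue, _root_.Matrix.cons_val_zero, _root_.map_zero, _root_.Matrix.cons_val_one, _root_.Matrix.cons_val_fin_one, _root_.map_one, _root_.mul_one, _root_.zero_add]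
  have h2 : M.e ![σ c + c, 1] = M.e ![0, 1] := by
    rw [← h1, mul_inv_eq_iff_eq_mul]
    exact (mem_centralizer_iff.1 hs _ (M.e_mem _)).symm
  have h3 := congrFun (M.e_inj h2) 0
  simp only [Matrix.cons_val_zero] at h3
  have h4 : σ c = σ c + c + c := by rw [add_assoc, CharTwo.add_self_eq_zero, add_zero]
  rw [h4, h3, zero_add]

theorem inner_F2 (hF : Nat.card F = 4) {s b : G} {σ : F ≃+* F} {c d : F} (hσ : σ ≠ RingEquiv.refl F)
    (h : ∀ x : Fin 2 → F, s * M.e x * s⁻¹ = M.e ![σ (x 0) + c * σ (x 1), σ (x 1)])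
    (hb : ∀ x : Fin 2 → F, b * M.e x * b⁻¹ = M.e ![x 0 + d * x 1, x 1])
    (hc : s * b * s⁻¹ * b⁻¹ ∈ centralizer (V : Set G)) : d = 0 ∨ d = 1 := by
  apply of_sig_eq hF hσ
  have e1 : s * (b * M.e ![0, 1] * b⁻¹) * s⁻¹ = b * (s * M.e ![0, 1] * s⁻¹) * b⁻¹ := by
    have h1 := mem_centralizer_iff.1 hc (b * (s * M.e ![0, 1] * s⁻¹) * b⁻¹) (by
      rw [h, hb]; exact M.e_mem _)
    have h2 : s * b * s⁻¹ * b⁻¹ * (b * (s * M.e ![0, 1] * s⁻¹) * b⁻¹) * (s * b * s⁻¹ * b⁻¹)⁻¹ =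
        s * (b * M.e ![0, 1] * b⁻¹) * s⁻¹ := by group
    rw [← h2, ← h1]
    group
  rw [hb, h, h, hb] at e1
  have h3 := congrFun (M.e_inj e1) 0
  simp only [Matrix.cons_val_zero, Matrix.cons_val_one, map_zero, map_one, mul_one, zero_add] at h3
  rw [add_comm] at h3
  exact add_left_cancel h3

theorem act_refl {b : G} {c : F}
    (h : ∀ x : Fin 2 → F, b * M.e x * b⁻¹ =
      M.e ![(RingEquiv.refl F) (x 0) + c * (RingEquiv.refl F) (x 1), (RingEquiv.refl F) (x 1)]) :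
    ∀ x : Fin 2 → F, b * M.e x * b⁻¹ = M.e ![x 0 + c * x 1, x 1] := h

/-- if `D` moves `R` then all `c` are in `F₂` -/
theorem out_F2 (hF : Nat.card F = 4) {D : Subgroup G} (hDS : D ≤ S) (hD : ElemOn V D)
    (hR : ¬ D ≤ centralizer (M.R : Set G)) {b : G} (hb : b ∈ D) :
    ∃ (σ : F ≃+* F) (c : F), (c = 0 ∨ c = 1) ∧
      ∀ x : Fin 2 → F, b * M.e x * b⁻¹ = M.e ![σ (x 0) + c * σ (x 1), σ (x 1)] := by
  obtain ⟨σ, c, h⟩ := M.act b (hDS hb)
  refine ⟨σ, c, ?_, h⟩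
  by_cases hσ : σ = RingEquiv.refl F
  · subst hσ
    obtain ⟨s, hs, hsR⟩ := SetLike.not_le_iff_exists.1 hR
    obtain ⟨τ, d, h'⟩ := M.act s (hDS hs)
    have hτ : τ ≠ RingEquiv.refl F := fun h0 => hsR ((M.centR_iff h').2 h0)
    exact M.inner_F2 hF hτ h' (M.act_refl h) (hD.comm s hs b hb)
  · exact M.outer_F2 hF hσ h (hD.sq b hb)

theorem out (hF : Nat.card F = 4) (D : Subgroup G) (hDS : D ≤ S) (hD : ElemOn V D)
    (hR : ¬ D ≤ centralizer (M.R : Set G)) (b : G) (hb : b ∈ D) (v : G) (hv : v ∈ M.V3) :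
    b * v * b⁻¹ * v⁻¹ ∈ zpowers z := by
  obtain ⟨σ, c, hc, h⟩ := M.out_F2 hF hDS hD hR hb
  obtain ⟨x, rfl, hx⟩ := hv
  rw [M.comm_act h, M.e_mem_zpowers]
  have h1 : σ (x 1) = x 1 := by rcases hx with hx | hx <;> rw [hx] <;> simp
  constructor
  · show σ (x 1) + x 1 = 0
    rw [h1, CharTwo.add_self_eq_zero]
  · simp only [Matrix.cons_val_zero]
    rw [h1]
    rcases sig_add_cases hF σ (x 0) with h2 | h2 <;> rcases hc with hc | hc <;> rcases hx with hx | hx <;>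
      rw [h2, hc, hx] <;> simp [CharTwo.add_self_eq_zero]

theorem small (hF : Nat.card F = 4) (b : G) (hb : b ∈ S)
    (h : ∀ v ∈ V, b * v * b⁻¹ * v⁻¹ ∈ zpowers z) : b ∈ centralizer (V : Set G) := by
  obtain ⟨σ, c, hσ⟩ := M.act b hb
  rw [M.cent_iff hσ]
  obtain ⟨w, hw0, hw1⟩ := exists_ne hF
  have h1 := h _ (M.e_mem ![0, w])
  rw [M.comm_act hσ, M.e_mem_zpowers] at h1
  simp only [Matrix.cons_val_zero, Matrix.cons_val_one, map_zero, add_zero, zero_add] at h1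
  have hr : σ = RingEquiv.refl F := by
    by_contra hne
    have := sig_add hF hne hw0 hw1
    rw [h1.1] at this
    exact zero_ne_one this
  refine ⟨hr, ?_⟩
  subst hr
  have h2 := h _ (M.e_mem ![0, 1])
  rw [M.comm_act hσ, M.e_mem_zpowers] at h2
  simp only [Matrix.cons_val_zero, Matrix.cons_val_one, map_zero, add_zero, zero_add, RingEquiv.refl_apply,
    mul_one] at h1 h2
  rcases h2.2 with h2 | h2
  · exact h2
  · rw [h2, one_mul] at h1
    rcases h1.2 with h1 | h1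
    · exact absurd h1 hw0
    · exact absurd h1 hw1

theorem faith (b : G) (hb : b ∈ S) (h : b ∈ centralizer (M.V3 : Set G)) :
    b ∈ centralizer (V : Set G) := by
  obtain ⟨σ, c, hσ⟩ := M.act b hb
  have hr : σ = RingEquiv.refl F := (M.centR_iff hσ).1 (fun v hv => h v (M.R_le hv))
  rw [M.cent_iff hσ]
  refine ⟨hr, ?_⟩
  subst hr
  have h1 := mem_centralizer_iff.1 h (M.e ![0, 1]) (M.mem_V3.2 (Or.inr rfl))
  have h2 := M.act_refl hσ ![0, 1]
  rw [← h1, mul_assoc, mul_inv_cancel, mul_one] at h2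
  have := congrFun (M.e_inj h2) 0
  simpa using this.symm

theorem centR (b : G) (hb : b ∈ S) (h : b ∈ centralizer (M.R : Set G)) (v : G) (hv : v ∈ V) :
    b * v * b⁻¹ * v⁻¹ ∈ M.R := by
  obtain ⟨σ, c, hσ⟩ := M.act b hb
  have hr : σ = RingEquiv.refl F := (M.centR_iff hσ).1 h
  subst hr
  obtain ⟨x, rfl⟩ := (M.mem_iff v).1 hv
  rw [M.comm_act hσ, M.mem_R]
  simp [CharTwo.add_self_eq_zero]

theorem nCentR (hF : Nat.card F = 4) (b : G) (hb : b ∈ S) (h : b ∉ centralizer (M.R : Set G)) (v : G)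
    (hv : v ∈ V) (hc : b * v * b⁻¹ * v⁻¹ ∈ M.R) : v ∈ M.V3 := by
  obtain ⟨σ, c, hσ⟩ := M.act b hb
  have hr : σ ≠ RingEquiv.refl F := fun h0 => h ((M.centR_iff hσ).2 h0)
  obtain ⟨x, rfl⟩ := (M.mem_iff v).1 hv
  rw [M.comm_act hσ, M.mem_R] at hc
  change σ (x 1) + x 1 = 0 at hc
  rw [M.mem_V3]
  apply of_sig_eq hF hr
  have : σ (x 1) = σ (x 1) + x 1 + x 1 := by rw [add_assoc, CharTwo.add_self_eq_zero, add_zero]
  rw [this, hc, zero_add]

theorem nfld : ¬ S ≤ centralizer (M.R : Set G) := by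
  obtain ⟨s, hs, σ, c, hσ, h⟩ := M.fld
  intro h0
  exact hσ ((M.centR_iff h).1 (h0 hs))

theorem S_z : ∀ s ∈ S, s * z = z * s := by
  intro s hs
  obtain ⟨σ, c, h⟩ := M.act s hs
  have h1 := h ![1, 0]
  have h2 : (![σ ((![1, 0] : Fin 2 → F) 0) + c * σ ((![1, 0] : Fin 2 → F) 1), σ ((![1, 0] : Fin 2 → F) 1)] :
      Fin 2 → F) = ![1, 0] := by
    apply ext2 <;> simp only [_root_.Fin.isValue, _root_.Matrix.cons_val_zero, _root_.map_one, _root_.Matrix.cons_val_one, _root_.Matrix.cons_val_fin_one, _root_.map_zero, _root_.MulZeroClass.mul_zero, _root_.add_zero, _root_.Nat.succ_eq_add_one, _root_.Nat.reduceAdd]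
  rw [h2, mul_inv_eq_iff_eq_mul] at h1
  calc s * z = s * M.e ![1, 0] := by rw [← M.z_eq]
    _ = M.e ![1, 0] * s := h1
    _ = z * s := by rw [← M.z_eq]

/-- `C_V(b)` has order at most 4 for `b ∉ C(V)` -/
theorem card_fix_le (hF : Nat.card F = 4) {b : G} (hb : b ∈ S) (h : b ∉ centralizer (V : Set G)) :
    Nat.card ↥(V ⊓ centralizer ({b} : Set G)) ≤ 4 := by
  obtain ⟨σ, c, hσ⟩ := M.act b hb
  have hfinR : Finite M.R := Nat.finite_of_card_ne_zero (by rw [M.card_R hF]; decide)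
  have hfin3 : Finite M.V3 := Nat.finite_of_card_ne_zero (by rw [M.card_V3 hF]; decide)
  have hcm : ∀ x : Fin 2 → F, M.e x ∈ centralizer ({b} : Set G) →
      (![σ (x 0) + x 0 + c * σ (x 1), σ (x 1) + x 1] : Fin 2 → F) = 0 := by
    intro x hx
    rw [← M.e_eq_one, ← M.comm_act hσ]
    rw [mem_centralizer_singleton_iff] at hx
    rw [← hx, mul_assoc (M.e x), mul_inv_cancel, mul_one, mul_inv_cancel]
  by_cases hr : σ = RingEquiv.refl F
  · have hc : c ≠ 0 := fun h0 => h ((M.cent_iff hσ).2 ⟨hr, h0⟩)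
    have hle : V ⊓ centralizer ({b} : Set G) ≤ M.R := by
      rintro v ⟨hv, hvb⟩
      obtain ⟨x, rfl⟩ := (M.mem_iff v).1 hv
      have h0 := congrFun (hcm x hvb) 0
      subst hr
      simp only [Matrix.cons_val_zero, RingEquiv.refl_apply, CharTwo.add_self_eq_zero, zero_add,
        Pi.zero_apply, mul_eq_zero] at h0
      exact M.mem_R.2 (h0.resolve_left hc)
    rw [← M.card_R hF]
    exact Subgroup.card_le_of_le hle
  · have hle : V ⊓ centralizer ({b} : Set G) ≤ M.V3 := by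
      rintro v ⟨hv, hvb⟩
      obtain ⟨x, rfl⟩ := (M.mem_iff v).1 hv
      have h1 : σ (x 1) + x 1 = 0 := congrFun (hcm x hvb) 1
      rw [M.mem_V3]
      apply of_sig_eq hF hr
      have : σ (x 1) = σ (x 1) + x 1 + x 1 := by rw [add_assoc, CharTwo.add_self_eq_zero, add_zero]
      rw [this, h1, zero_add]
    have hne : V ⊓ centralizer ({b} : Set G) ≠ M.V3 := by
      intro he
      apply hr
      apply (M.centR_iff hσ).1
      rw [mem_centralizer_iff]
      intro v hv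
      have h1 : v ∈ V ⊓ centralizer ({b} : Set G) := he ▸ M.R_le hv
      exact mem_centralizer_singleton_iff.1 h1.2
    have hd : Nat.card ↥(V ⊓ centralizer ({b} : Set G)) ∣ 8 := by
      rw [← M.card_V3 hF]
      exact Subgroup.card_dvd_of_le hle
    have hlt : Nat.card ↥(V ⊓ centralizer ({b} : Set G)) ≠ 8 := by
      intro h8
      exact hne (Subgroup.eq_of_le_of_card_ge hle (by rw [h8, M.card_V3 hF]))
    have hle8 := Nat.le_of_dvd (by decide) hd
    interval_cases Nat.card ↥(V ⊓ centralizer ({b} : Set G)) <;> simp_all only [_root_.Fin.isValue, _root_.Nat.succ_eq_add_one, _root_.Nat.reduceAdd, _root_.Matrix.cons_eq_zero_iff, _root_.Matrix.zero_empty, _root_.and_true, _root_.ne_eq, _root_.zero_dvd_iff, _root_.OfNat.ofNat_ne_zero, _root_.isUnit_iff_eq_one, _root_.IsUnit.dvd, _root_.OfNat.one_ne_ofNat, _root_.not_false_eq_true, _root_.Nat.one_le_ofNat, _root_.Nat.reduceDvd, _root_.Nat.reduceEqDiff, _root_.Nat.reduceLeDiff,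 _root_.Std.le_refl, _root_.dvd_refl, _root_.not_true_eq_false]

theorem le4 (hF : Nat.card F = 4) (D : Subgroup G) (hDS : D ≤ S) (hD : ElemOn V D) :
    (centralizer (V : Set G)).relIndex D ≤ 4 := by
  classical
  have hfin : Finite F := Nat.finite_of_card_ne_zero (by rw [hF]; decide)
  choose σ c h using fun d : D => M.act d (hDS d.2)
  have key : ∀ d d' : D, σ d = σ d' → c d = c d' → (d : G)⁻¹ * d' ∈ centralizer (V : Set G) := by
    intro d d' h1 h2
    rw [mem_centralizer_iff]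
    intro v hv
    obtain ⟨x, rfl⟩ := (M.mem_iff v).1 hv
    have e1 := h d x
    have e2 := h d' x
    rw [h1, h2, ← e2] at e1
    have : (d : G)⁻¹ * (d * M.e x * (d : G)⁻¹) * d' = (d : G)⁻¹ * (d' * M.e x * (d' : G)⁻¹) * d' := by rw [e1]
    calc M.e x * ((d : G)⁻¹ * d') = (d : G)⁻¹ * (d * M.e x * (d : G)⁻¹) * d' := by group
      _ = (d : G)⁻¹ * (d' * M.e x * (d' : G)⁻¹) * d' := this
      _ = (d : G)⁻¹ * d' * M.e x := by group
  have hcard : ∀ {T : Type} [Finite T] (f : D → T),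
      (∀ d d' : D, f d = f d' → (d : G)⁻¹ * d' ∈ centralizer (V : Set G)) →
      (centralizer (V : Set G)).relIndex D ≤ Nat.card T := by
    intro T _ f hf
    show Nat.card (D ⧸ (centralizer (V : Set G)).subgroupOf D) ≤ Nat.card T
    refine Nat.card_le_card_of_injective (fun q => f q.out) ?_
    intro q q' hq
    rw [← Quotient.out_eq' q, ← Quotient.out_eq' q']
    apply Quotient.sound'
    rw [QuotientGroup.leftRel_apply, mem_subgroupOf]
    exact hf _ _ hq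
  by_cases hR : D ≤ centralizer (M.R : Set G)
  · obtain ⟨w, -, hall⟩ := exists_omega hF
    have e4 : Nat.card (Fin 4) = 4 := by simp
    let f : F → Fin 4 := fun x => if x = 0 then 0 else if x = 1 then 1 else if x = w then 2 else 3
    have hf : Function.Injective f := by
      have hbij : Function.Surjective (fun i : Fin 4 => (![0, 1, w, w + 1] : Fin 4 → F) i) := by
        intro x
        rcases hall x with hx | hx | hx | hx
        · exact ⟨0, hx.symm⟩
        · exact ⟨1, hx.symm⟩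
        · exact ⟨2, hx.symm⟩
        · exact ⟨3, hx.symm⟩
      have hcf : Nat.card (Fin 4) = Nat.card F := by rw [hF, e4]
      have hinj : Function.Injective (fun i : Fin 4 => (![0, 1, w, w + 1] : Fin 4 → F) i) :=
        ((Nat.bijective_iff_surjective_and_card _).2 ⟨hbij, hcf⟩).1
      have d01 : (0 : F) ≠ 1 := zero_ne_one
      have d02 : (0 : F) ≠ w := fun h => by
        have := @hinj 0 2 h
        exact absurd this (by decide)
      have d03 : (0 : F) ≠ w + 1 := fun h => by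
        have := @hinj 0 3 h
        exact absurd this (by decide)
      have d12 : (1 : F) ≠ w := fun h => by
        have := @hinj 1 2 h
        exact absurd this (by decide)
      have d13 : (1 : F) ≠ w + 1 := fun h => by
        have := @hinj 1 3 h
        exact absurd this (by decide)
      have d23 : (w : F) ≠ w + 1 := fun h => by
        have := @hinj 2 3 h
        exact absurd this (by decide)
      intro x y hxy
      rcases hall x with hx | hx | hx | hx <;> rcases hall y with hy | hy | hy | hy <;>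
        simp only [f, hx, hy, if_true, d01, d02, d03, d12, d13, d23, d01.symm, d02.symm, d03.symm, d12.symm,
          d13.symm, d23.symm, if_false] at hxy ⊢ <;> exact absurd hxy (by decide)
    rw [← e4]
    refine hcard (fun d => f (c d)) ?_
    intro d d' hdd
    refine key d d' ?_ (hf hdd)
    rw [(M.centR_iff (h d)).1 (hR d.2), (M.centR_iff (h d')).1 (hR d'.2)]
  · have e4 : Nat.card (Bool × Bool) = 4 := by simp
    rw [← e4]
    refine hcard (fun d => (decide (σ d = RingEquiv.refl F), decide (c d = 0))) ?_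
    intro d d' hdd
    have hc : ∀ d : D, c d = 0 ∨ c d = 1 := by
      intro d
      obtain ⟨τ, e, he, h'⟩ := M.out_F2 hF hDS hD hR d.2
      have e1 := h d ![0, 1]
      rw [h' ![0, 1]] at e1
      have := congrFun (M.e_inj e1) 0
      simp only [Matrix.cons_val_zero, Matrix.cons_val_one, map_zero, map_one, mul_one, zero_add] at this
      rwa [← this]
    have hσ : ∀ d d' : D, (σ d = RingEquiv.refl F ↔ σ d' = RingEquiv.refl F) → σ d = σ d' := by
      intro d d' hiff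
      by_cases h1 : σ d = RingEquiv.refl F
      · rw [h1, hiff.1 h1]
      · have h2 : σ d' ≠ RingEquiv.refl F := fun h2 => h1 (hiff.2 h2)
        ext x
        by_cases h0 : x = 0
        · rw [h0, map_zero, map_zero]
        by_cases h1' : x = 1
        · rw [h1', map_one, map_one]
        have e1 := sig_add hF h1 h0 h1'
        have e2 := sig_add hF h2 h0 h1'
        exact add_right_cancel (e1.trans e2.symm)
    have h1 := congrArg Prod.fst hdd
    have h2 := congrArg Prod.snd hdd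
    simp only [decide_eq_decide] at h1 h2
    refine key d d' (hσ d d' h1) ?_
    rcases hc d with hc1 | hc1 <;> rcases hc d' with hc2 | hc2
    · rw [hc1, hc2]
    · exact absurd (hc2.symm.trans (h2.1 hc1)) one_ne_zero
    · exact absurd (hc1.symm.trans (h2.2 hc2)) one_ne_zero
    · rw [hc1, hc2]

theorem ind (hF : Nat.card F = 4) (D : Subgroup G) (hDS : D ≤ S) (hD : ElemOn V D) :
    (centralizer (V : Set G)).relIndex D ≤ (centralizer (D : Set G)).relIndex V := by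
  have hfinV : Finite V := Nat.finite_of_card_ne_zero (by rw [M.card_V hF]; decide)
  have hpos : (centralizer (D : Set G)).relIndex V ≠ 0 := by
    have : Finite (V ⧸ (centralizer (D : Set G)).subgroupOf V) := inferInstance
    exact Nat.card_pos.ne'
  by_cases hDV : D ≤ centralizer (V : Set G)
  · rw [relIndex_eq_one.2 hDV]
    omega
  · obtain ⟨b, hb, hbV⟩ := SetLike.not_le_iff_exists.1 hDV
    refine (M.le4 hF D hDS hD).trans ?_
    have h1 := M.card_fix_le hF (hDS hb) hbV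
    have h2 : Nat.card ↥(V ⊓ centralizer (D : Set G)) ≤ 4 := by
      have hfin4 : Finite ↥(V ⊓ centralizer ({b} : Set G)) := Finite.of_injective
        (Subgroup.inclusion (inf_le_left : V ⊓ centralizer ({b} : Set G) ≤ V)) (Subgroup.inclusion_injective _)
      refine le_trans (Subgroup.card_le_of_le ?_) h1
      exact inf_le_inf_left _ (centralizer_le (Set.singleton_subset_iff.2 hb))
    have h3 : (centralizer (D : Set G)).relIndex V * Nat.card ↥(V ⊓ centralizer (D : Set G)) = 16 := by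
      rw [← M.card_V hF]
      have e := relIndex_inf_mul_relIndex (⊥ : Subgroup G) (centralizer (D : Set G)) V
      rw [relIndex_bot_left, bot_inf_eq, relIndex_bot_left, mul_comm, inf_comm] at e
      exact e
    by_contra hcon
    push Not at hcon
    have : (centralizer (D : Set G)).relIndex V * Nat.card ↥(V ⊓ centralizer (D : Set G)) ≤ 3 * 4 :=
      Nat.mul_le_mul (by omega) h2
    omega

/-- **The facts from the coordinates.** -/
theorem mod (hF : Nat.card F = 4) : Mod S V M.R M.V3 z where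
  comm := by
    intro v hv
    rw [mem_centralizer_iff]
    intro w hw
    obtain ⟨x, rfl⟩ := (M.mem_iff v).1 hv
    obtain ⟨y, rfl⟩ := (M.mem_iff w).1 hw
    exact M.mul_comm' _ _
  sq := by
    intro v hv
    obtain ⟨x, rfl⟩ := (M.mem_iff v).1 hv
    rw [pow_two]
    nth_rewrite 1 [← M.e_inv x]
    rw [inv_mul_cancel]
  card := M.card_V hF
  cardR := M.card_R hF
  cardV3 := M.card_V3 hF
  R_le := M.R_le
  V3_le := M.V3_le
  z_mem := ⟨![1, 0], M.z_eq.symm, rfl⟩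
  z_ne := by
    intro h
    have h1 : M.e ![1, 0] = 1 := M.z_eq.symm.trans h
    rw [M.e_eq_one] at h1
    exact one_ne_zero (congrFun h1 0)
  S_z := M.S_z
  S_V := M.S_V
  S_V3 := M.S_V3
  S_R := M.S_R
  uni := M.uni hF
  ind := M.ind hF
  le4 := M.le4 hF
  small := M.small hF
  out := M.out hF
  faith := M.faith
  centR := M.centR
  nCentR := M.nCentR hF
  fld := M.nfld

end Crd

end Cfsg.Agent.Omega.NO3S.Fld.DEight

private theorem dce_7a2947893bc2 : _root_.True := by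
  try have : _root_.True := by simp only [_root_.Cfsg.Agent.Omega.NO3S.Fld.DEight.Crd.V3.congr_simp]
  try have : _root_.True := by simp only [_root_.Cfsg.Agent.Omega.NO3S.Fld.DEight.Crd.R.congr_simp]
  exact _root_.True.intro
end

-- part: Mrg/Omega/NO3b/FPB/Main
section
set_option linter.all false
open scoped Cfsg.Agent.FastGrp


/-!
# THEOREM FPB (OMEGA #16134, helper526)

`Bk.exists_fix`: a Baumann block `(L,V)` over `B = bau S` with `V ≤ Y ≤ S`, `Y` elementary abelian and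
normalised by `S` and `L`: `C_{Y ⊓ Z_J}(S)` is not centralised by `L`.
-/

set_option autoImplicit false

namespace Cfsg.Agent.Omega.NO3b.FPB.Main

open Subgroup Cfsg Cfsg.Agent.PLocal.ThompsonJ Cfsg.Agent.ZN Cfsg.Agent.ZN.ChoiceBase
open Cfsg.Agent.PLocal.ElemAbSup
open Cfsg.Agent.Omega.SQ1.Bau (mem_AA_of_comm zj_le_AA elem_comm elem_sq mem_sup_comm card_sup_comm
  mem_sup_norm Mv not_mv_iff mv_inv exists_min)
open Cfsg.Agent.Omega.SQ1.BauK.InK (QL mem_QL not_QL)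
open Cfsg.Agent.Omega.NO3b.FPB.Base Cfsg.Agent.Omega.NO3b.FPB.Claim
open Cfsg.Agent.Omega.NO3b.FPB.CaseTwo
open scoped Pointwise

universe u

variable {G : Type u} [Group G] {S Y L V : Subgroup G}

/-- A `2`-group `S₁` normalising `P < B ≤ S₁` fixes a nontrivial coset of `B / P`. -/
theorem exists_fixed_coset [Finite G] {S₁ B P : Subgroup G} (h2 : IsPGroup 2 S₁) (hBS : B ≤ S₁)
    (hB : S₁ ≤ normalizer (B : Set G)) (hP : S₁ ≤ normalizer (P : Set G)) (hPB : P ≤ B)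
    (hne : ¬ B ≤ P) : ∃ b ∈ B, b ∉ P ∧ ∀ s ∈ S₁, b⁻¹ * (s * b * s⁻¹) ∈ P := by
  haveI : Fact (Nat.Prime 2) := ⟨Nat.prime_two⟩
  have hPS : P ≤ S₁ := hPB.trans hBS
  haveI hPn : (P.subgroupOf S₁).Normal := by
    rw [normal_subgroupOf_iff_le_normalizer hPS]; exact hP
  haveI hBn : (B.subgroupOf S₁).Normal := by
    rw [normal_subgroupOf_iff_le_normalizer hBS]; exact hB
  let π := QuotientGroup.mk' (P.subgroupOf S₁)
  haveI : ((B.subgroupOf S₁).map π).Normal := hBn.map π (QuotientGroup.mk'_surjective _)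
  have hQ : IsPGroup 2 (S₁ ⧸ P.subgroupOf S₁) := h2.to_quotient _
  have hQ' : IsPGroup 2 (⊤ : Subgroup (S₁ ⧸ P.subgroupOf S₁)) := hQ.to_subgroup _
  have hne' : (B.subgroupOf S₁).map π ≠ ⊥ := by
    intro h0
    apply hne
    intro b hb
    have h1 : π ⟨b, hBS hb⟩ ∈ (B.subgroupOf S₁).map π := ⟨⟨b, hBS hb⟩, mem_subgroupOf.2 hb, rfl⟩
    rw [h0, mem_bot] at h1
    exact mem_subgroupOf.1 ((QuotientGroup.eq_one_iff _).1 h1)
  have h3 := Cfsg.Agent.PLocal.OffenderStep.inf_centralizer_ne_bot ((B.subgroupOf S₁).map π)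
    (⊤ : Subgroup (S₁ ⧸ P.subgroupOf S₁)) (hQ.to_subgroup _) hQ' (by
      rw [normalizer_eq_top]) hne'
  obtain ⟨y, hy, hy1⟩ := (Subgroup.bot_or_exists_ne_one _).resolve_left h3
  obtain ⟨hyB, hyc⟩ := mem_inf.1 hy
  obtain ⟨b, hb, rfl⟩ := hyB
  refine ⟨b, mem_subgroupOf.1 hb, fun h4 => hy1 ((QuotientGroup.eq_one_iff _).2
    (mem_subgroupOf.2 h4)), fun s hs => ?_⟩
  have h5 := mem_centralizer_iff.1 hyc (π ⟨s, hs⟩) trivial
  have h6 : π (b⁻¹ * (⟨s, hs⟩ * b * ⟨s, hs⟩⁻¹)) = 1 := by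
    rw [map_mul, map_mul, map_mul, map_inv, map_inv, h5]
    group
  exact mem_subgroupOf.1 ((QuotientGroup.eq_one_iff _).1 h6)

/-- The product of the conjugates of a vector over the cosets of its stabiliser. -/
theorem exists_prod [Finite G] {S₁ C : Subgroup G} (hY : IsElementaryAbelian 2 Y)
    (hSY : S ≤ normalizer (Y : Set G)) {x : G} (hx : x ∈ Y)
    (h1 : ∀ s ∈ S₁, s * x = x * s) (hC : ∀ s ∈ S, s ∉ S₁ → s * x * s⁻¹ ∈ C)
    {D : Subgroup G} (hD : ∀ s ∈ S, s * x * s⁻¹ ∈ D) :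
    ∃ y ∈ Y, y ∈ D ∧ (∀ s ∈ S, s * y = y * s) ∧ y * x⁻¹ ∈ C := by
  classical
  letI : CommGroup Y := { (inferInstance : Group Y) with
    mul_comm := fun a b => Subtype.ext (elem_comm hY a a.2 b b.2) }
  let T := S₁.subgroupOf S
  let f : S ⧸ T → Y := Quotient.lift (fun s : S => (⟨(s : G) * x * (s : G)⁻¹,
    (mem_normalizer_iff.1 (hSY s.2) x).1 hx⟩ : Y)) (by
      intro a b hab
      have h2 : a⁻¹ * b ∈ T := QuotientGroup.leftRel_apply.1 hab
      have h3 := h1 _ (mem_subgroupOf.1 h2)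
      apply Subtype.ext
      show (a : G) * x * (a : G)⁻¹ = b * x * (b : G)⁻¹
      have h4 : ((a⁻¹ * b : S) : G) = (a : G)⁻¹ * b := by simp
      rw [h4] at h3
      calc (a : G) * x * (a : G)⁻¹ = a * (x * ((a : G)⁻¹ * b)) * (b : G)⁻¹ := by group
        _ = a * ((a : G)⁻¹ * b * x) * (b : G)⁻¹ := by rw [h3]
        _ = _ := by group)
  have hf : ∀ s : S, ((f (QuotientGroup.mk s) : Y) : G) = (s : G) * x * (s : G)⁻¹ := fun s => rfl
  haveI : Fintype (S ⧸ T) := Fintype.ofFinite _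
  let y : Y := ∏ q : S ⧸ T, f q
  have hYD : ∀ q : S ⧸ T, ((f q : Y) : G) ∈ D := by
    intro q
    obtain ⟨s, rfl⟩ := QuotientGroup.mk_surjective q
    rw [hf]; exact hD s s.2
  refine ⟨y, y.2, ?_, ?_, ?_⟩
  · have : y ∈ D.subgroupOf Y := Subgroup.prod_mem _ fun q _ => mem_subgroupOf.2 (hYD q)
    exact mem_subgroupOf.1 this
  · intro s hs
    let φ : Y →* Y := MonoidHom.mk' (fun v => ⟨s * v * s⁻¹, (mem_normalizer_iff.1 (hSY hs) v).1 v.2⟩)
      (by
        intro a b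
        apply Subtype.ext
        show s * (a * b) * s⁻¹ = s * a * s⁻¹ * (s * b * s⁻¹)
        group)
    have h2 : φ y = y := by
      show φ (∏ q : S ⧸ T, f q) = ∏ q : S ⧸ T, f q
      rw [map_prod]
      have h3 : ∀ q : S ⧸ T, φ (f q) = f ((⟨s, hs⟩ : S) • q) := by
        intro q
        obtain ⟨t, rfl⟩ := QuotientGroup.mk_surjective q
        apply Subtype.ext
        show s * (t * x * (t : G)⁻¹) * s⁻¹ = (s * t) * x * (s * (t : G))⁻¹
        group
      rw [Finset.prod_congr rfl fun q _ => h3 q]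
      exact Fintype.prod_equiv (MulAction.toPerm (⟨s, hs⟩ : S)) _ _ fun q => rfl
    have h4 : s * (y : G) * s⁻¹ = y := congrArg Subtype.val h2
    calc s * (y : G) = (s * y * s⁻¹) * s := by group
      _ = y * s := by rw [h4]
  · have h2 : y = f (QuotientGroup.mk 1) * ∏ q ∈ Finset.univ.erase (QuotientGroup.mk 1), f q :=
      (Finset.mul_prod_erase _ _ (Finset.mem_univ _)).symm
    have h3 : (∏ q ∈ Finset.univ.erase (QuotientGroup.mk 1), f q) ∈ C.subgroupOf Y := by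
      refine Subgroup.prod_mem _ fun q hq => mem_subgroupOf.2 ?_
      obtain ⟨t, rfl⟩ := QuotientGroup.mk_surjective q
      rw [hf]
      refine hC t t.2 fun ht => (Finset.mem_erase.1 hq).1 ?_
      rw [QuotientGroup.eq]
      exact mem_subgroupOf.2 (by simpa using inv_mem ht)
    have h4 : (f (QuotientGroup.mk 1) : G) = x := by rw [hf]; simp
    have h5 : (y : G) * x⁻¹ = ((∏ q ∈ Finset.univ.erase (QuotientGroup.mk 1), f q : Y) : G) := by
      rw [h2, mul_comm, Subgroup.coe_mul, h4, mul_inv_cancel_right]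
    rw [h5]
    exact mem_subgroupOf.1 h3

/-- **THEOREM FPB.** -/
theorem exists_fix [Finite G] (h2S : IsPGroup 2 S) (hY : IsElementaryAbelian 2 Y) (hYS : Y ≤ S)
    (hSY : S ≤ normalizer (Y : Set G)) (k : Bk S Y L V) :
    ∃ y ∈ Y, y ∈ zj S ∧ (∀ s ∈ S, s * y = y * s) ∧ ∃ l ∈ L, l * y ≠ y * l := by
  set P := QL S V with hPdef
  have hPB : P ≤ bau S := Bk.PB
  set S₁ := S ⊓ normalizer (P : Set G) with hS₁
  have hSB : S ≤ normalizer (bau S : Set G) :=
    Subgroup.le_normalizer.trans (normalizer_le_bau S)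
  have hBS₁ : bau S ≤ S₁ := le_inf (bau_le S) (k.BL.trans k.LP)
  obtain ⟨A, hA, hAP⟩ := k.off
  have hBP : ¬ bau S ≤ P := fun h => hAP (((le_jj hA).trans (jj_le_bau S)).trans h)
  obtain ⟨b, hb, hbP, hbS⟩ := exists_fixed_coset (h2S.to_le inf_le_left) hBS₁
    (inf_le_left.trans hSB) inf_le_right hPB hBP
  -- `C_Y(P) = V C_Y(B)`
  obtain ⟨-, h2, h3, -⟩ := k.order hY hYS k.VY le_rfl ((BB.self Y A).star hA hYS hY) hAP
  have hCY : ∀ v ∈ cW Y P, ∃ v1 ∈ V, ∃ c ∈ cW Y (bau S), v = v1 * c := by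
    intro v hv
    have h4 : v ∈ V ⊔ cW Y A := by
      rw [← h3]; exact cW_anti Y inf_le_right hv
    obtain ⟨v1, hv1, c, hc, rfl⟩ := mem_sup_comm
      (fun a ha b hb => elem_comm hY a (k.VY ha) b (cW_le Y A hb)) h4
    refine ⟨v1, hv1, c, mem_cW.2 ⟨cW_le Y A hc, fun e he => ?_⟩, rfl⟩
    obtain ⟨a, ha, p, hp, rfl⟩ := h2 e he
    have hpc : p * c = c * p := by
      have h5 := (mem_cW.1 hv).2 p hp
      have h6 : p * v1 = v1 * p := Bk.P_cent hp hv1
      have h7 : p * (v1 * c) = v1 * (p * c) := by rw [← mul_assoc, h6]; group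
      rw [h7, mul_assoc v1 c p] at h5
      exact mul_left_cancel h5
    have hac := (mem_cW.1 hc).2 a ha
    calc a * p * c = a * (p * c) := by group
      _ = (a * c) * p := by rw [hpc]; group
      _ = c * (a * p) := by rw [hac]; group
  -- the group `X_b`
  have hCPn : S₁ ≤ normalizer ((cW Y P : Subgroup G) : Set G) := by
    intro s hs
    rw [mem_normalizer_iff_cj]
    unfold cW
    rw [cj_inf, cj_centralizer, cj_eq_of_mem_normalizer (hSY hs.1), cj_eq_of_mem_normalizer hs.2]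
  have hbCP : ∀ v ∈ cW Y P, b * v * b⁻¹ ∈ cW Y P := fun v hv =>
    conj_mem_of_norm hCPn (hBS₁ hb) hv
  have hVC : V ≤ cW Y P := fun v hv => mem_cW.2 ⟨k.VY hv, fun p hp => Bk.P_cent hp hv⟩
  let φ : ↥(cW Y P) →* G := MonoidHom.mk' (fun v => b * v * b⁻¹ * (v : G)⁻¹) (by
    intro v w
    have h5 : (v : G) * w = w * v := elem_comm hY v (cW_le Y P v.2) w (cW_le Y P w.2)
    have h6 : (v : G)⁻¹ * (b * w * b⁻¹ * (w : G)⁻¹) = (b * w * b⁻¹ * (w : G)⁻¹) * (v : G)⁻¹ :=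
      elem_comm hY _ (inv_mem (cW_le Y P v.2)) _
        (mul_mem (cW_le Y P (hbCP w w.2)) (inv_mem (cW_le Y P w.2)))
    show b * ((v : G) * w) * b⁻¹ * ((v : G) * w)⁻¹ =
      b * v * b⁻¹ * (v : G)⁻¹ * (b * w * b⁻¹ * (w : G)⁻¹)
    calc b * ((v : G) * w) * b⁻¹ * ((v : G) * w)⁻¹
        = b * v * b⁻¹ * ((b * w * b⁻¹ * (w : G)⁻¹) * (v : G)⁻¹) := by group
      _ = b * v * b⁻¹ * ((v : G)⁻¹ * (b * w * b⁻¹ * (w : G)⁻¹)) := by rw [h6]
      _ = _ := by group)
  have hφ : ∀ x : G, x ∈ φ.range ↔ ∃ v ∈ cW Y P, x = b * v * b⁻¹ * v⁻¹ := by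
    intro x
    constructor
    · rintro ⟨v, rfl⟩
      exact ⟨v, v.2, rfl⟩
    · rintro ⟨v, hv, rfl⟩
      exact ⟨⟨v, hv⟩, rfl⟩
  have hφV : ∀ x : G, x ∈ φ.range ↔ ∃ v ∈ V, x = b * v * b⁻¹ * v⁻¹ := by
    intro x
    rw [hφ]
    constructor
    · rintro ⟨v, hv, rfl⟩
      obtain ⟨v1, hv1, c, hc, rfl⟩ := hCY v hv
      exact ⟨v1, hv1, comm_drop ((mem_cW.1 hc).2 b hb)⟩
    · rintro ⟨v, hv, rfl⟩
      exact ⟨v, hVC hv, rfl⟩
  have hbL : b ∈ L := k.BL hb
  have hφY : φ.range ≤ Y := by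
    intro x hx
    obtain ⟨v, hv, rfl⟩ := (hφV x).1 hx
    exact k.VY (mul_mem (conj_mem_of_norm k.LV hbL hv) (inv_mem hv))
  have hφn : S₁ ≤ normalizer (φ.range : Set G) := by
    intro s hs
    refine norm_of_conj fun x hx => ?_
    obtain ⟨v, hv, rfl⟩ := (hφ x).1 hx
    rw [hφ]
    refine ⟨s * v * s⁻¹, conj_mem_of_norm hCPn hs hv, ?_⟩
    have h5 := hbS s hs
    have h6 := (mem_cW.1 (conj_mem_of_norm hCPn hs hv)).2 _ h5
    have e1 : s * (b * v * b⁻¹ * v⁻¹) * s⁻¹ =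
        (b * (b⁻¹ * (s * b * s⁻¹))) * (s * v * s⁻¹) * (b * (b⁻¹ * (s * b * s⁻¹)))⁻¹ *
          (s * v * s⁻¹)⁻¹ := by group
    rw [e1, comm_drop' h6]
  have hφne : φ.range ≠ ⊥ := by
    intro h0
    apply hbP
    refine mem_QL.2 ⟨hb, fun v hv => ?_⟩
    have h5 := (hφV (b * v * b⁻¹ * v⁻¹)).2 ⟨v, hv, rfl⟩
    rw [h0, mem_bot] at h5
    exact comm_iff.2 h5
  haveI : Fact (Nat.Prime 2) := ⟨Nat.prime_two⟩
  have h6 := Cfsg.Agent.PLocal.OffenderStep.inf_centralizer_ne_bot φ.range S₁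
    (h2S.to_le (hφY.trans hYS)) (h2S.to_le inf_le_left) hφn hφne
  obtain ⟨x, hx, hx1⟩ := (Subgroup.bot_or_exists_ne_one _).resolve_left h6
  obtain ⟨hxr, hxc⟩ := mem_inf.1 hx
  obtain ⟨v, hv, e⟩ := (hφV x).1 hxr
  have hxL : x ∉ centralizer (L : Set G) := by
    intro h7
    apply hx1
    rw [e] at h7 ⊢
    exact comm_iff.1 (k.faith v hv b hb fun l hl => mem_centralizer_iff.1 h7 l hl)
  have hzjn : ∀ s ∈ S, ∀ z ∈ zj S, s * z * s⁻¹ ∈ zj S := fun s hs z hz =>
    (mem_normalizer_iff.1 (normalizer_le_of_cj (F := zj) zj_cj S (Subgroup.le_normalizer hs)) z).1 hz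
  obtain ⟨y, hyY, hyD, hys, hyx⟩ := exists_prod (S := S) (S₁ := S₁) (C := centralizer (L : Set G))
    (D := zj S) hY hSY (hφY hxr) (fun s hs => mem_centralizer_iff.1 hxc s hs) (by
      intro s hs hns
      have hne : QL S V ≠ QL S (cj s V) := by
        intro h7
        apply hns
        refine mem_inf.2 ⟨hs, ?_⟩
        rw [mem_normalizer_iff_cj]
        have h8 := QL_cj s S V
        rw [cj_eq_of_mem_normalizer (Subgroup.le_normalizer hs), ← h7] at h8
        exact h8.symm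
      have k' := Bk.conj k (g := s) (cj_eq_of_mem_normalizer (hSY hs))
      rw [cj_eq_of_mem_normalizer (Subgroup.le_normalizer hs)] at k'
      have h8 := claim hY hYS k k' hne (s * b * s⁻¹) (conj_mem_of_norm hSB hs hb) (s * v * s⁻¹)
        (conj_mem_cj hv)
      rw [comm_el, ← e] at h8
      exact h8) (fun s hs => hzjn s hs x (by rw [e]; exact k.quad b hb v hv))
  refine ⟨y, hyY, hyD, hys, ?_⟩
  by_contra hcon
  push Not at hcon
  apply hxL
  have h9 : y ∈ centralizer (L : Set G) := mem_centralizer_iff.2 hcon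
  have h10 := mul_mem (inv_mem hyx) h9
  have e2 : (y * x⁻¹)⁻¹ * y = x := by group
  rwa [e2] at h10

/-- `L` does not centralise `Ω₁ Z(S)`. -/
theorem not_le_centralizer [Finite G] (h2S : IsPGroup 2 S) (hY : IsElementaryAbelian 2 Y)
    (hYS : Y ≤ S) (hSY : S ≤ normalizer (Y : Set G)) (k : Bk S Y L V) :
    ¬ L ≤ centralizer (zc S : Set G) := by
  intro hL
  obtain ⟨y, hy, -, hys, l, hl, hne⟩ := exists_fix h2S hY hYS hSY k
  refine hne (mem_centralizer_iff.1 (hL hl) y ?_).symm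
  exact mem_zc.2 ⟨hYS hy, elem_sq hY y hy, hys⟩

end Cfsg.Agent.Omega.NO3b.FPB.Main
end

-- part: Mrg/Omega/OM/YThm/Def
section
prune_inst 0x200401000000000000002000000000000002000000002000000000000000a0000001000000100002800000040000001000000000000000000000000001000000800000000000000000000000000000000000000000000000000000000000000000000
set_option linter.all false
open scoped Cfsg.Agent.FastGrp

section


/-!
# THEOREM Y (NO-3S, `V_P` natural `SL₂(q)^k`, `k ≥ 2`, `q ≥ 4`): the abstract situation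

helper743 #16998, helper350 #19419.  A finite group `H` acts on a finite elementary abelian 2-group `M` (written
additively); in the application `H = C_G(Z) / C(W)`, `M = W = ⟨V^{C_G(Z)}⟩`, `𝒜` = images of the members of `𝒜(S^c)`,
`Z = Z_J = ⊕ Z i`, `V = V_P`.

* `fx X A = C_X(A)`, `ct A X = C_A(X)`, `El M A` : `A` is a 2-group acting as an elementary abelian group;
* `YS0 𝒜 S Zi Z`, `YS 𝒜 S Zi Z V` : the situation (`YS` extends `YS0` by `four`, `ZV`, `SV`, `lemV`);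
* `YX 𝒜 S Zi Z ZJ V` : the companion for the case `(4F)`;
* `LD 𝒜 S Z A J₀ L Z₁` : the minimal subgroup `L`, points are the `l • Z₁`, `l ∈ L`.
-/

set_option autoImplicit false

namespace Cfsg.Agent.Omega.OM.YThm

open Subgroup Cfsg.Agent.ZN Cfsg.Agent.ZN.ChoiceBase Cfsg.Agent.ZN.ChoiceSit
open scoped Pointwise

variable {H : Type*} [Group H] {M : Type*} [AddCommGroup M] [DistribMulAction H M]

/-- `C_X(A)` -/
def fx (X : AddSubgroup M) (A : Subgroup H) : AddSubgroup M where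
  carrier := {x | x ∈ X ∧ ∀ a ∈ A, a • x = x}
  zero_mem' := ⟨X.zero_mem, fun a _ => smul_zero a⟩
  add_mem' := fun {x y} hx hy => ⟨X.add_mem hx.1 hy.1, fun a ha => by rw [smul_add, hx.2 a ha, hy.2 a ha]⟩
  neg_mem' := fun {x} hx => ⟨X.neg_mem hx.1, fun a ha => by rw [smul_neg, hx.2 a ha]⟩

/-- `C_A(X)` -/
def ct (A : Subgroup H) (X : AddSubgroup M) : Subgroup H where
  carrier := {a | a ∈ A ∧ ∀ x ∈ X, a • x = x}
  one_mem' := ⟨A.one_mem, fun x _ => one_smul H x⟩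
  mul_mem' := fun {a b} ha hb => ⟨A.mul_mem ha.1 hb.1, fun x hx => by rw [mul_smul, hb.2 x hx, ha.2 x hx]⟩
  inv_mem' := fun {a} ha => ⟨A.inv_mem ha.1, fun x hx => by rw [inv_smul_eq_iff, ha.2 x hx]⟩

theorem mem_fx {X : AddSubgroup M} {A : Subgroup H} {x : M} : x ∈ fx X A ↔ x ∈ X ∧ ∀ a ∈ A, a • x = x := Iff.rfl

theorem mem_ct {X : AddSubgroup M} {A : Subgroup H} {a : H} : a ∈ ct A X ↔ a ∈ A ∧ ∀ x ∈ X, a • x = x := Iff.rfl

variable (M) in
/-- `A` is a 2-group which acts on `M` as an elementary abelian group. -/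
structure El (A : Subgroup H) : Prop where
  pg : IsPGroup 2 A
  comm : ∀ a ∈ A, ∀ b ∈ A, ∀ x : M, a • b • x = b • a • x
  sq : ∀ a ∈ A, ∀ x : M, a • a • x = x

/-- the elements of `A` which fix all points `l • Z₁`, `l ∈ L` -/
def kA (A L : Subgroup H) (Z₁ : AddSubgroup M) : Subgroup H where
  carrier := {a | a ∈ A ∧ ∀ l ∈ L, a • l • Z₁ = l • Z₁}
  one_mem' := ⟨A.one_mem, fun l _ => one_smul H _⟩
  mul_mem' := fun {a b} ha hb => ⟨A.mul_mem ha.1 hb.1, fun l hl => by rw [mul_smul, hb.2 l hl, ha.2 l hl]⟩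
  inv_mem' := fun {a} ha => ⟨A.inv_mem ha.1, fun l hl => by rw [inv_smul_eq_iff, ha.2 l hl]⟩

/-- The common part of the situation of THEOREM Y and of its `(4F)` companion (there `Z i = ⟨z i⟩`, `Z = η = ∏ ⟨z i⟩`). -/
structure YS0 (𝒜 : Set (Subgroup H)) (S : Subgroup H) {ι : Type*} [Fintype ι] (Zi : ι → AddSubgroup M)
    (Z : AddSubgroup M) : Prop where
  two : ∀ x : M, x + x = 0
  cjA : ∀ A ∈ 𝒜, ∀ g : H, cj g A ∈ 𝒜
  el : ∀ A ∈ 𝒜, El M A
  /-- `|X : C_X(A)| ≤ |A : C_A(X)|` -/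
  ff : ∀ A ∈ 𝒜, ∀ X : AddSubgroup M, (∀ a ∈ A, ∀ x ∈ X, a • x ∈ X) →
    Nat.card X * Nat.card (ct A X) ≤ Nat.card A * Nat.card (fx X A)
  /-- Timmesfeld replacement -/
  rep : ∀ A ∈ 𝒜, ∀ X : AddSubgroup M, (∀ a ∈ A, ∀ x ∈ X, a • x ∈ X) → (∃ a ∈ A, ∃ x ∈ X, a • x ≠ x) →
    ∃ A' ∈ 𝒜, A' ≤ A ∧ (∃ a ∈ A', ∃ x ∈ X, a • x ≠ x) ∧
      ∀ a ∈ A', ∀ b ∈ A', ∀ x ∈ X, a • (b • x - x) = b • x - x
  syl : Syl S ⊤
  /-- `Z` is determined by the members in `S` -/
  det : ∀ g : H, (∀ A ∈ 𝒜, A ≤ S → A ≤ cj g S) → g • Z = Z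
  cen : ∀ A ∈ 𝒜, A ≤ S → ∀ a ∈ A, ∀ z ∈ Z, a • z = z
  /-- `Z = ⊕ Zi` -/
  ZiZ : ∀ i, Zi i ≤ Z
  dec : ∀ z ∈ Z, ∃ f : ι → M, (∀ i, f i ∈ Zi i) ∧ z = ∑ i, f i
  uni : ∀ f : ι → M, (∀ i, f i ∈ Zi i) → ∑ i, f i = 0 → ∀ i, f i = 0
  /-- the stabiliser of `Z` permutes the `Zi` -/
  prm : ∀ g : H, g • Z = Z → ∀ i, ∃ j, g • Zi i = Zi j
  odd : ∀ g : H, g • Z = Z → Odd (orderOf g) → ∀ i, g • Zi i = Zi i → ∀ z ∈ Zi i, g • z = z

/-- The situation of THEOREM Y. -/
structure YS (𝒜 : Set (Subgroup H)) (S : Subgroup H) {ι : Type*} [Fintype ι] (Zi : ι → AddSubgroup M)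
    (Z V : AddSubgroup M) : Prop extends YS0 𝒜 S Zi Z where
  four : ∀ i, 4 ≤ Nat.card (Zi i)
  ZV : Z ≤ V
  SV : ∀ s ∈ S, s • V = V
  /-- LEMMA V: `|E : C_E(V)| |Z : C_Z(E)| ≤ |V : C_V(E)|` -/
  lemV : ∀ E : Subgroup H, E ≤ S → El M E →
    Nat.card E * Nat.card Z * Nat.card (fx V E) ≤ Nat.card (ct E V) * Nat.card (fx Z E) * Nat.card V

/-- The situation of the companion for the case `(4F)`: `Z = η = ∏ ⟨z i⟩`, `ZJ = ∏ (Z_J) i`. -/
structure YX (𝒜 : Set (Subgroup H)) (S : Subgroup H) {ι : Type*} [Fintype ι] (Zi : ι → AddSubgroup M)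
    (Z ZJ V : AddSubgroup M) : Prop extends YS0 𝒜 S Zi Z where
  twoi : ∀ i, Nat.card (Zi i) = 2
  ZZJ : Z ≤ ZJ
  ZV : ZJ ≤ V
  cenJ : ∀ A ∈ 𝒜, A ≤ S → ∀ a ∈ A, ∀ z ∈ ZJ, a • z = z
  SV : ∀ s ∈ S, s • V = V
  /-- an element which normalises `Z` and `ZJ` and moves some `Z i` has a big commutator on `ZJ` -/
  big : ∀ g : H, g • Z = Z → g • ZJ = ZJ → Odd (orderOf g) → (∃ i, g • Zi i ≠ Zi i) →
    4 * Nat.card (fx ZJ (zpowers g)) < Nat.card ZJ
  lemV : ∀ E : Subgroup H, E ≤ S → El M E →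
    Nat.card E * Nat.card ZJ * Nat.card (fx V E) ≤ Nat.card (ct E V) * Nat.card (fx ZJ E) * Nat.card V

/-- The minimal subgroup `L` (steps (1), (2)).  Its points are the `l • Z₁`, `l ∈ L`; `L₀` is the stabiliser of `Z₁`. -/
structure LD (𝒜 : Set (Subgroup H)) (S : Subgroup H) (Z : AddSubgroup M) (A J₀ L : Subgroup H)
    (Z₁ : AddSubgroup M) : Prop where
  mem : A ∈ 𝒜
  AL : A ≤ L
  JL : J₀ ≤ L
  JN : ∀ l ∈ L, cj l J₀ = J₀
  ne : ∃ l ∈ L, l • Z₁ ≠ Z₁
  /-- `L = ⟨A, A^x⟩ J₀` for all `x` outside `L₀` -/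
  gen : ∀ x ∈ L, x • Z₁ ≠ Z₁ → A ⊔ cj x A ⊔ J₀ = L
  /-- `L₀` is the only maximal subgroup of `L` over `A J₀` -/
  max : ∀ X : Subgroup H, A ≤ X → J₀ ≤ X → X < L → ∀ x ∈ X, x • Z₁ = Z₁
  cen : ∀ a ∈ A, ∀ z ∈ Z₁, a • z = z
  cenJ : ∀ j ∈ J₀, ∀ l ∈ L, ∀ z ∈ Z₁, j • l • z = l • z
  quad : ∀ a ∈ A, ∀ b ∈ A, ∀ l ∈ L, ∀ z ∈ Z₁, a • (b • l • z - l • z) = b • l • z - l • z
  /-- 2-subgroups of `L` over `A J₀` -/
  syl : ∀ T : Subgroup H, A ≤ T → J₀ ≤ T → T ≤ L → IsPGroup 2 T → ∃ g : H, T ≤ cj g S ∧ g • Z = Z₁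
  J2 : IsPGroup 2 J₀

end Cfsg.Agent.Omega.OM.YThm

end

section


/-!
# Coordinates for THEOREM Y (input of LEMMA V and of `YS0.odd`)

* `Cd F B V ZJ k e` : coordinates `e : G → Fin k → Fin 2 → F` on `V = ⊕ W i`, `ZJ = {v | v i 1 = 0}`, `B` acts as
  `∏ {up b}` (`NatK` gives this);
* `Co F S V Z k e` : the same in a module `M`; `S` acts on `V / Z` and on `Z` by permutations of the indices and field
  automorphisms without scalars.
-/

set_option autoImplicit false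

namespace Cfsg.Agent.Omega.OM.YThm

open Subgroup Cfsg.Agent.ZN Cfsg.Agent.ZN.ChoiceBase Cfsg.Agent.ZN.ChoiceSit
open scoped Pointwise

/-- Coordinates on `V ≤ G`. -/
structure Cd {G : Type*} [Group G] (F : Type) [Field F] (B V ZJ : Subgroup G) (k : ℕ) (e : G → Fin k → Fin 2 → F) :
    Prop where
  VV : ∀ v ∈ V, ∀ w ∈ V, v * w = w * v
  mul : ∀ v ∈ V, ∀ w ∈ V, e (v * w) = e v + e w
  surj : ∀ x : Fin k → Fin 2 → F, ∃ v ∈ V, e v = x
  inj : ∀ v ∈ V, e v = 0 → v = 1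
  ZV : ZJ ≤ V
  memZ : ∀ v ∈ V, v ∈ ZJ ↔ ∀ i, e v i 1 = 0
  nB : ∀ b ∈ B, ∀ v ∈ V, b * v * b⁻¹ ∈ V
  act : ∀ b ∈ B, ∃ c : Fin k → F, ∀ v ∈ V, ∀ i,
    e (b * v * b⁻¹) i 0 = e v i 0 + c i * e v i 1 ∧ e (b * v * b⁻¹) i 1 = e v i 1
  full : ∀ c : Fin k → F, ∃ b ∈ B, ∀ v ∈ V, ∀ i,
    e (b * v * b⁻¹) i 0 = e v i 0 + c i * e v i 1 ∧ e (b * v * b⁻¹) i 1 = e v i 1

/-- Coordinates on `V ≤ M` without scalars. -/
structure Co {H : Type*} [Group H] {M : Type*} [AddCommGroup M] [DistribMulAction H M] (F : Type) [Field F]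
    (S : Subgroup H) (V Z : AddSubgroup M) (k : ℕ) (e : M → Fin k → Fin 2 → F) : Prop where
  add : ∀ v ∈ V, ∀ w ∈ V, e (v + w) = e v + e w
  surj : ∀ x : Fin k → Fin 2 → F, ∃ v ∈ V, e v = x
  inj : ∀ v ∈ V, e v = 0 → v = 0
  ZV : Z ≤ V
  memZ : ∀ v ∈ V, v ∈ Z ↔ ∀ i, e v i 1 = 0
  SV : ∀ s ∈ S, ∀ v ∈ V, s • v ∈ V
  act : ∀ s ∈ S, ∃ (π : Equiv.Perm (Fin k)) (σ : Fin k → F ≃+* F),
    (∀ v ∈ V, ∀ i, e (s • v) (π i) 1 = σ i (e v i 1)) ∧ ∀ z ∈ Z, ∀ i, e (s • z) (π i) 0 = σ i (e z i 0)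
  up : ∀ s ∈ S, (∀ z ∈ Z, s • z = z) → ∃ b : Fin k → F, ∀ v ∈ V, ∀ i,
    e (s • v) i 0 = e v i 0 + b i * e v i 1 ∧ e (s • v) i 1 = e v i 1

end Cfsg.Agent.Omega.OM.YThm

end

section


/-!
# Semilinearity on `V` (THEOREM Y, #14470 (V))

`semi_abs` : an injective additive map `T` of `(F²)^k` which normalises `∏ {up c}` and permutes the subspaces `Z i`, and the
subspaces `W i + Z`, is semilinear on `Z` and modulo `Z`, with the same field automorphisms.
-/

set_option autoImplicit false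

namespace Cfsg.Agent.Omega.OM.YThm

open Subgroup Cfsg.Agent.ZN Cfsg.Agent.ZN.ChoiceBase Cfsg.Agent.ZN.ChoiceSit
open scoped Pointwise

section abs

variable {F : Type} [Field F] {k : ℕ}

/-- the action of `up (c i)` on the coordinates -/
def UCo (c : Fin k → F) (x : Fin k → Fin 2 → F) : Fin k → Fin 2 → F := fun i => ![x i 0 + c i * x i 1, x i 1]

/-- the vector with coordinates `(a, b)` at the place `i` -/
def sg (i : Fin k) (a b : F) : Fin k → Fin 2 → F := Pi.single i ![a, b]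

theorem sg_same (i : Fin k) (a b : F) : sg i a b i = ![a, b] := Pi.single_eq_same _ _

theorem sg_ne {i l : Fin k} (h : l ≠ i) (a b : F) : sg i a b l = 0 := Pi.single_eq_of_ne h _

theorem sg_add (i : Fin k) (a b a' b' : F) : sg i (a + a') (b + b') = sg i a b + sg i a' b' := by
  rw [sg, sg, sg, ← Pi.single_add]
  congr 1
  funext l
  fin_cases l <;> simp

theorem sum_sg (x : Fin k → Fin 2 → F) : x = ∑ l, sg l (x l 0) (x l 1) := by
  funext i
  rw [Finset.sum_apply, Finset.sum_eq_single i]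
  · rw [sg_same]
    funext l
    fin_cases l <;> simp
  · intro l _ hl
    exact sg_ne hl.symm _ _
  · intro h
    exact absurd (Finset.mem_univ i) h

theorem semi_abs [Finite F] (T : (Fin k → Fin 2 → F) →+ (Fin k → Fin 2 → F)) (hT : Function.Injective T)
    (hU : ∀ c : Fin k → F, ∃ c' : Fin k → F, ∀ x, T (UCo c x) = UCo c' (T x))
    (hZ : ∀ i, ∃ j, (∀ a, ∀ l, l ≠ j → T (sg i a 0) l = 0) ∧ (∀ a, T (sg i a 0) j 1 = 0) ∧
      ∀ a b, ∀ l, l ≠ j → T (sg i a b) l 1 = 0) :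
    ∃ (π : Equiv.Perm (Fin k)) (σ : Fin k → F ≃+* F) (c d : Fin k → F), (∀ i, c i ≠ 0) ∧ (∀ i, d i ≠ 0) ∧
      (∀ x i, T x (π i) 1 = d i * σ i (x i 1)) ∧
      (∀ x, (∀ i, x i 1 = 0) → ∀ i, T x (π i) 0 = c i * σ i (x i 0)) ∧
      ∀ i, (∀ a, ∀ l, l ≠ π i → T (sg i a 0) l = 0) := by
  classical
  choose p hp1 hp2 hp3 using hZ
  -- the maps `φ`, `ψ`
  let φ : Fin k → F → F := fun i a => T (sg i a 0) (p i) 0
  let ψ : Fin k → F → F := fun i a => T (sg i 0 a) (p i) 1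
  have hφadd : ∀ i a b, φ i (a + b) = φ i a + φ i b := by
    intro i a b
    show T (sg i (a + b) 0) (p i) 0 = _
    have e : sg i (a + b) 0 = sg i a 0 + sg i b 0 := by rw [← sg_add, add_zero]
    rw [e, map_add]; rfl
  have hφ0 : ∀ i a, φ i a = 0 → a = 0 := by
    intro i a ha
    have h1 : T (sg i a 0) = 0 := by
      funext l m
      by_cases hl : l = p i
      · subst hl
        fin_cases m
        · exact ha
        · exact hp2 i a
      · rw [hp1 i a l hl]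
        rfl
    have h2 : sg i a 0 = 0 := hT (by rw [h1, map_zero])
    have h3 := congrFun (congrFun h2 i) 0
    rw [sg_same] at h3
    simpa using h3
  have hφinj : ∀ i, Function.Injective (φ i) := by
    intro i a b hab
    have h1 : φ i (a - b) = 0 := by
      have h2 := hφadd i (a - b) b
      rw [sub_add_cancel, hab] at h2
      exact left_eq_add.1 (by rw [add_comm] at h2; exact h2)
    exact sub_eq_zero.1 (hφ0 i _ h1)
  have hφsurj : ∀ i, Function.Surjective (φ i) := fun i => Finite.injective_iff_surjective.1 (hφinj i)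
  -- `φ (t a) = χ t ψ a`
  have hχ : ∀ i, ∃ χ : F → F, ∀ t a, φ i (t * a) = χ t * ψ i a := by
    intro i
    have h1 : ∀ t : F, ∃ c' : F, ∀ a, φ i (t * a) = c' * ψ i a := by
      intro t
      obtain ⟨c', hc'⟩ := hU (Pi.single i t)
      refine ⟨c' (p i), fun a => ?_⟩
      have h2 := hc' (sg i 0 a)
      have e : UCo (Pi.single i t) (sg i 0 a) = sg i (t * a) 0 + sg i 0 a := by
        rw [← sg_add, add_zero, zero_add]
        funext l m
        by_cases hl : l = i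
        · subst hl
          fin_cases m <;> simp [UCo, sg]
        · fin_cases m <;> simp [UCo, sg, hl]
      rw [e, map_add] at h2
      have h3 := congrFun (congrFun h2 (p i)) 0
      simp only [UCo, Pi.add_apply, Matrix.cons_val_zero] at h3
      have h4 : T (sg i (t * a) 0) (p i) 0 = c' (p i) * T (sg i 0 a) (p i) 1 := by
        have := add_right_cancel (h3.trans (add_comm _ _))
        exact this
      exact h4
    choose χ hχ using h1
    exact ⟨χ, fun t a => hχ t a⟩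
  choose χ hχ using hχ
  have hmul : ∀ i t a, φ i (t * a) * φ i 1 = φ i t * φ i a := by
    intro i t a
    have h1 := hχ i t a
    have h2 := hχ i t 1
    have h3 := hχ i 1 a
    have h4 := hχ i 1 1
    rw [mul_one] at h2 h4
    rw [one_mul] at h3
    rw [h1, h2, h3, h4]; ring
  have hφ1 : ∀ i, φ i 1 ≠ 0 := fun i h => one_ne_zero (hφ0 i 1 h)
  have hψ1 : ∀ i, ψ i 1 ≠ 0 := by
    intro i h
    have h4 := hχ i 1 1
    rw [mul_one, h, mul_zero] at h4
    exact hφ1 i h4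
  have hχ1 : ∀ i, χ i 1 ≠ 0 := by
    intro i h
    have h4 := hχ i 1 1
    rw [mul_one, h, zero_mul] at h4
    exact hφ1 i h4
  -- the field automorphisms
  let s : Fin k → F →+* F := fun i =>
    { toFun := fun a => φ i a / φ i 1
      map_one' := div_self (hφ1 i)
      map_mul' := fun a b => by
        show φ i (a * b) / φ i 1 = φ i a / φ i 1 * (φ i b / φ i 1)
        rw [div_mul_div_comm, ← hmul i a b, mul_div_mul_right _ _ (hφ1 i)]
      map_zero' := by
        show φ i 0 / φ i 1 = 0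
        have h1 := hφadd i 0 0
        rw [add_zero] at h1
        rw [left_eq_add.1 h1, zero_div]
      map_add' := fun a b => by
        show φ i (a + b) / φ i 1 = φ i a / φ i 1 + φ i b / φ i 1
        rw [hφadd, add_div] }
  have hsb : ∀ i, Function.Bijective (s i) := fun i => Finite.injective_iff_bijective.1 (s i).injective
  let σ : Fin k → F ≃+* F := fun i => RingEquiv.ofBijective (s i) (hsb i)
  have hσ : ∀ i a, φ i 1 * σ i a = φ i a := fun i a => mul_div_cancel₀ _ (hφ1 i)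
  have hψσ : ∀ i a, ψ i 1 * σ i a = ψ i a := by
    intro i a
    have h1 := hχ i 1 a
    have h2 := hχ i 1 1
    rw [one_mul] at h1
    rw [mul_one] at h2
    refine mul_left_cancel₀ (hχ1 i) ?_
    rw [← h1, ← hσ i a, h2]; ring
  -- `p` is a permutation
  have hpinj : Function.Injective p := by
    intro i i' hii
    by_contra hne
    obtain ⟨a', ha'⟩ := hφsurj i' (-(φ i 1))
    have h1 : T (sg i 1 0 + sg i' a' 0) = 0 := by
      funext l m
      rw [map_add]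
      by_cases hl : l = p i
      · have hl' : l = p i' := hl.trans hii
        fin_cases m
        · show T (sg i 1 0) l 0 + T (sg i' a' 0) l 0 = 0
          have h2 : T (sg i' a' 0) l 0 = -(φ i 1) := by rw [hl']; exact ha'
          rw [h2, hl]
          exact add_neg_cancel _
        · show T (sg i 1 0) l 1 + T (sg i' a' 0) l 1 = 0
          have h2 : T (sg i' a' 0) l 1 = 0 := by rw [hl']; exact hp2 i' a'
          have h3 : T (sg i 1 0) l 1 = 0 := by rw [hl]; exact hp2 i 1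
          rw [h2, h3, add_zero]
      · have hl' : l ≠ p i' := fun h => hl (h.trans hii.symm)
        rw [Pi.add_apply, hp1 i 1 l hl, hp1 i' a' l hl', add_zero]
        rfl
    have h2 : sg i 1 0 + sg i' a' 0 = 0 := hT (by rw [h1, map_zero])
    have h3 := congrFun (congrFun h2 i) 0
    rw [Pi.add_apply, sg_same, sg_ne hne] at h3
    simp at h3
  let π : Equiv.Perm (Fin k) := Equiv.ofBijective p (Finite.injective_iff_bijective.1 hpinj)
  have hπ : ∀ i, π i = p i := fun i => rfl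
  refine ⟨π, σ, fun i => φ i 1, fun i => ψ i 1, hφ1, hψ1, ?_, ?_, fun i => hp1 i⟩
  · intro x i
    have e : T x = ∑ l, T (sg l (x l 0) (x l 1)) := by
      conv_lhs => rw [sum_sg x]
      rw [map_sum]
    rw [e, Finset.sum_apply, Finset.sum_apply, Finset.sum_eq_single i]
    · rw [hψσ, hπ]
      have e2 : sg i (x i 0) (x i 1) = sg i (x i 0) 0 + sg i 0 (x i 1) := by rw [← sg_add, add_zero, zero_add]
      rw [e2, map_add]
      show T (sg i (x i 0) 0) (p i) 1 + T (sg i 0 (x i 1)) (p i) 1 = _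
      rw [hp2 i, zero_add]
    · intro l _ hl
      exact hp3 l _ _ _ fun h => hl (hpinj h.symm)
    · intro h
      exact absurd (Finset.mem_univ i) h
  · intro x hx i
    have e : T x = ∑ l, T (sg l (x l 0) 0) := by
      conv_lhs => rw [sum_sg x]
      rw [map_sum]
      exact Finset.sum_congr rfl fun l _ => by rw [hx l]
    rw [e, Finset.sum_apply, Finset.sum_apply, Finset.sum_eq_single i]
    · rw [hσ]; rfl
    · intro l _ hl
      have h1 := hp1 l (x l 0) (π i) fun h => hl (hpinj h.symm)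
      rw [h1]
      rfl
    · intro h
      exact absurd (Finset.mem_univ i) h

end abs

section grp

variable {G : Type*} [Group G] {F : Type} [Field F] {B V ZJ : Subgroup G} {k : ℕ} {e : G → Fin k → Fin 2 → F}

/-- `g` normalises `V` and `B`, permutes the `Z i` and the `W i ZJ`. -/
structure Nm (B V : Subgroup G) {k : ℕ} (e : G → Fin k → Fin 2 → F) (g : G) : Prop where
  nV : ∀ v ∈ V, g * v * g⁻¹ ∈ V
  nB : ∀ b ∈ B, g * b * g⁻¹ ∈ B
  nW : ∀ i, ∃ j, (∀ z ∈ V, (∀ l, l ≠ i → e z l = 0) → e z i 1 = 0 →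
      (∀ l, l ≠ j → e (g * z * g⁻¹) l = 0) ∧ e (g * z * g⁻¹) j 1 = 0) ∧
    ∀ w ∈ V, (∀ l, l ≠ i → e w l = 0) → ∀ l, l ≠ j → e (g * w * g⁻¹) l 1 = 0

/-- `g` acts semilinearly on `ZJ` and on `V / ZJ`. -/
structure Sm (V ZJ : Subgroup G) {k : ℕ} (e : G → Fin k → Fin 2 → F) (g : G) (π : Equiv.Perm (Fin k))
    (σ : Fin k → F ≃+* F) (c d : Fin k → F) : Prop where
  c0 : ∀ i, c i ≠ 0
  d0 : ∀ i, d i ≠ 0
  one : ∀ v ∈ V, ∀ i, e (g * v * g⁻¹) (π i) 1 = d i * σ i (e v i 1)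
  zero : ∀ z ∈ ZJ, ∀ i, e (g * z * g⁻¹) (π i) 0 = c i * σ i (e z i 0)

theorem Cd.map_one (h : Cd F B V ZJ k e) : e 1 = 0 := by
  have h1 := h.mul 1 (one_mem V) 1 (one_mem V)
  rw [one_mul] at h1
  exact left_eq_add.1 h1

theorem Cd.eq_of (h : Cd F B V ZJ k e) {v w : G} (hv : v ∈ V) (hw : w ∈ V) (hvw : e v = e w) : v = w := by
  have h1 : e (w⁻¹) = -e w := by
    have h2 := h.mul w hw w⁻¹ (inv_mem hw)
    rw [mul_inv_cancel, h.map_one] at h2
    exact (neg_eq_of_add_eq_zero_right h2.symm).symm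
  have h2 : e (v * w⁻¹) = 0 := by
    rw [h.mul v hv _ (inv_mem hw), h1, hvw, add_neg_cancel]
  exact mul_inv_eq_one.1 (h.inj _ (mul_mem hv (inv_mem hw)) h2)

/-- **Semilinearity** -/
theorem Cd.semi [Finite F] (h : Cd F B V ZJ k e) {g : G} (hg : Nm B V e g) :
    ∃ (π : Equiv.Perm (Fin k)) (σ : Fin k → F ≃+* F) (c d : Fin k → F), Sm V ZJ e g π σ c d ∧
      ∀ i, ∀ z ∈ V, (∀ l, l ≠ i → e z l = 0) → e z i 1 = 0 → ∀ l, l ≠ π i → e (g * z * g⁻¹) l = 0 := by
  classical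
  choose f hfV hf using h.surj
  have hfe : ∀ v ∈ V, f (e v) = v := fun v hv => h.eq_of (hfV _) hv (hf _)
  let T : (Fin k → Fin 2 → F) →+ (Fin k → Fin 2 → F) :=
    { toFun := fun x => e (g * f x * g⁻¹)
      map_zero' := by
        have h1 : f 0 = 1 := h.inj _ (hfV 0) (hf 0)
        rw [h1, mul_one, mul_inv_cancel, h.map_one]
      map_add' := fun x y => by
        have h1 : f (x + y) = f x * f y := h.eq_of (hfV _) (mul_mem (hfV _) (hfV _)) (by
          rw [hf, h.mul _ (hfV x) _ (hfV y), hf, hf])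
        rw [h1, ← h.mul _ (hg.nV _ (hfV x)) _ (hg.nV _ (hfV y))]
        congr 1
        group }
  have hTe : ∀ v ∈ V, T (e v) = e (g * v * g⁻¹) := fun v hv => by
    show e (g * f (e v) * g⁻¹) = _
    rw [hfe v hv]
  have hTf : ∀ x, T x = e (g * f x * g⁻¹) := fun x => rfl
  have hT : Function.Injective T := by
    intro x y hxy
    rw [hTf, hTf] at hxy
    have h1 := h.eq_of (hg.nV _ (hfV x)) (hg.nV _ (hfV y)) hxy
    have h2 : f x = f y := by simpa using h1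
    rw [← hf x, ← hf y, h2]
  have hUe : ∀ (c : Fin k → F) (b : G), (∀ v ∈ V, ∀ i,
      e (b * v * b⁻¹) i 0 = e v i 0 + c i * e v i 1 ∧ e (b * v * b⁻¹) i 1 = e v i 1) →
      ∀ v ∈ V, e (b * v * b⁻¹) = UCo c (e v) := by
    intro c b hb v hv
    funext i m
    fin_cases m
    · exact (hb v hv i).1
    · exact (hb v hv i).2
  have hU : ∀ c, ∃ c', ∀ x, T (UCo c x) = UCo c' (T x) := by
    intro c
    obtain ⟨b, hb, hbc⟩ := h.full c
    obtain ⟨c', hc'⟩ := h.act (g * b * g⁻¹) (hg.nB b hb)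
    refine ⟨c', fun x => ?_⟩
    have e1 : UCo c x = e (b * f x * b⁻¹) := by rw [hUe c b hbc _ (hfV x), hf]
    rw [e1, hTe _ (h.nB b hb _ (hfV x)), hTf, ← hUe c' _ hc' _ (hg.nV _ (hfV x))]
    congr 1
    group
  have hZ : ∀ i, ∃ j, (∀ a, ∀ l, l ≠ j → T (sg i a 0) l = 0) ∧ (∀ a, T (sg i a 0) j 1 = 0) ∧
      ∀ a b, ∀ l, l ≠ j → T (sg i a b) l 1 = 0 := by
    intro i
    obtain ⟨j, hj1, hj2⟩ := hg.nW i
    refine ⟨j, fun a l hl => ?_, fun a => ?_, fun a b l hl => ?_⟩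
    · rw [hTf]
      refine (hj1 _ (hfV _) (fun l hl => ?_) ?_).1 l hl
      · rw [hf, sg_ne hl]
      · rw [hf, sg_same]; rfl
    · rw [hTf]
      refine (hj1 _ (hfV _) (fun l hl => ?_) ?_).2
      · rw [hf, sg_ne hl]
      · rw [hf, sg_same]; rfl
    · rw [hTf]
      refine hj2 _ (hfV _) (fun l hl => ?_) l hl
      rw [hf, sg_ne hl]
  obtain ⟨π, σ, c, d, h1, h2, h3, h4, h5⟩ := semi_abs T hT hU hZ
  refine ⟨π, σ, c, d, ⟨h1, h2, fun v hv i => ?_, fun z hz i => ?_⟩, fun i z hz hzi hz1 l hl => ?_⟩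
  · rw [← hTe v hv]; exact h3 _ _
  · rw [← hTe z (h.ZV hz)]; exact h4 _ ((h.memZ z (h.ZV hz)).1 hz) _
  · rw [← hTe z hz]
    have e1 : e z = sg i (e z i 0) 0 := by
      funext m n
      by_cases hm : m = i
      · subst hm
        rw [sg_same]
        fin_cases n
        · rfl
        · exact hz1
      · rw [hzi m hm, sg_ne hm]
    rw [e1]
    exact h5 i _ l hl

end grp

end Cfsg.Agent.Omega.OM.YThm

end

section


/-!
# Coordinates without scalars

`Cd.exists_cn` : a 2-group `S₀` which is transitive on the indices acts without scalars in suitable coordinates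
`rs z₀ f₀ e`.
-/

set_option autoImplicit false

namespace Cfsg.Agent.Omega.OM.YThm

open Subgroup Cfsg.Agent.ZN Cfsg.Agent.ZN.ChoiceBase Cfsg.Agent.ZN.ChoiceSit
open scoped Pointwise

variable {G : Type*} [Group G] {F : Type} [Field F] {S₀ B V ZJ : Subgroup G} {k : ℕ} {e : G → Fin k → Fin 2 → F}

/-- rescaled coordinates -/
def rs (z₀ f₀ : Fin k → F) (e : G → Fin k → Fin 2 → F) : G → Fin k → Fin 2 → F :=
  fun v i => ![(z₀ i)⁻¹ * e v i 0, (f₀ i)⁻¹ * e v i 1]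

theorem rs_zero (z₀ f₀ : Fin k → F) (v : G) (i : Fin k) : rs z₀ f₀ e v i 0 = (z₀ i)⁻¹ * e v i 0 := rfl

theorem rs_one (z₀ f₀ : Fin k → F) (v : G) (i : Fin k) : rs z₀ f₀ e v i 1 = (f₀ i)⁻¹ * e v i 1 := rfl

theorem rs_eq_zero {z₀ f₀ : Fin k → F} (hz : ∀ i, z₀ i ≠ 0) (hf : ∀ i, f₀ i ≠ 0) (v : G) (i : Fin k) :
    rs z₀ f₀ e v i = 0 ↔ e v i = 0 := by
  constructor
  · intro h
    have h0 := congrFun h 0
    have h1 := congrFun h 1
    rw [rs_zero] at h0
    rw [rs_one] at h1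
    funext m
    fin_cases m
    · exact (mul_eq_zero.1 h0).resolve_left (inv_ne_zero (hz i))
    · exact (mul_eq_zero.1 h1).resolve_left (inv_ne_zero (hf i))
  · intro h
    funext m
    fin_cases m
    · show (z₀ i)⁻¹ * e v i 0 = 0
      rw [h]; simp
    · show (f₀ i)⁻¹ * e v i 1 = 0
      rw [h]; simp

theorem rs_one_eq_zero {z₀ f₀ : Fin k → F} (hf : ∀ i, f₀ i ≠ 0) (v : G) (i : Fin k) :
    rs z₀ f₀ e v i 1 = 0 ↔ e v i 1 = 0 := by
  rw [rs_one]
  constructor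
  · exact fun h => (mul_eq_zero.1 h).resolve_left (inv_ne_zero (hf i))
  · exact fun h => by rw [h, mul_zero]

/-- `S₀` acts without scalars. -/
structure Cn (F : Type) [Field F] (S₀ B V ZJ : Subgroup G) (k : ℕ) (e : G → Fin k → Fin 2 → F) : Prop
    extends Cd F B V ZJ k e where
  sn : ∀ s ∈ S₀, Nm B V e s
  sact : ∀ s ∈ S₀, ∃ (π : Equiv.Perm (Fin k)) (σ : Fin k → F ≃+* F), Sm V ZJ e s π σ 1 1
  tr : ∀ i j, ∃ s ∈ S₀, ∀ v ∈ V, e (s * v * s⁻¹) j = 0 ↔ e v i = 0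

theorem Nm.rsc {g : G} (h : Nm B V e g) {z₀ f₀ : Fin k → F} (hz : ∀ i, z₀ i ≠ 0) (hf : ∀ i, f₀ i ≠ 0) :
    Nm B V (rs z₀ f₀ e) g where
  nV := h.nV
  nB := h.nB
  nW := fun i => by
    obtain ⟨j, h1, h2⟩ := h.nW i
    refine ⟨j, fun z hz' h3 h4 => ?_, fun w hw h3 l hl => ?_⟩
    · obtain ⟨h5, h6⟩ := h1 z hz' (fun l hl => (rs_eq_zero hz hf z l).1 (h3 l hl)) ((rs_one_eq_zero hf z i).1 h4)
      exact ⟨fun l hl => (rs_eq_zero hz hf _ l).2 (h5 l hl), (rs_one_eq_zero hf _ j).2 h6⟩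
    · exact (rs_one_eq_zero hf _ l).2 (h2 w hw (fun l hl => (rs_eq_zero hz hf w l).1 (h3 l hl)) l hl)

theorem Cd.rsc (h : Cd F B V ZJ k e) {z₀ f₀ : Fin k → F} (hz : ∀ i, z₀ i ≠ 0) (hf : ∀ i, f₀ i ≠ 0) :
    Cd F B V ZJ k (rs z₀ f₀ e) where
  VV := h.VV
  mul := fun v hv w hw => by
    funext i m
    fin_cases m
    · show (z₀ i)⁻¹ * e (v * w) i 0 = (z₀ i)⁻¹ * e v i 0 + (z₀ i)⁻¹ * e w i 0
      rw [h.mul v hv w hw, ← mul_add]; rfl
    · show (f₀ i)⁻¹ * e (v * w) i 1 = (f₀ i)⁻¹ * e v i 1 + (f₀ i)⁻¹ * e w i 1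
      rw [h.mul v hv w hw, ← mul_add]; rfl
  surj := fun x => by
    obtain ⟨v, hv, h1⟩ := h.surj fun i => ![z₀ i * x i 0, f₀ i * x i 1]
    refine ⟨v, hv, ?_⟩
    funext i m
    fin_cases m
    · show (z₀ i)⁻¹ * e v i 0 = x i 0
      rw [h1]
      exact inv_mul_cancel_left₀ (hz i) _
    · show (f₀ i)⁻¹ * e v i 1 = x i 1
      rw [h1]
      exact inv_mul_cancel_left₀ (hf i) _
  inj := fun v hv h1 => h.inj v hv (by
    funext i
    exact (rs_eq_zero hz hf v i).1 (congrFun h1 i))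
  ZV := h.ZV
  memZ := fun v hv => by
    rw [h.memZ v hv]
    exact forall_congr' fun i => (rs_one_eq_zero hf v i).symm
  nB := h.nB
  act := fun b hb => by
    obtain ⟨c, hc⟩ := h.act b hb
    refine ⟨fun i => (z₀ i)⁻¹ * c i * f₀ i, fun v hv i => ?_⟩
    obtain ⟨h1, h2⟩ := hc v hv i
    refine ⟨?_, ?_⟩
    · rw [rs_zero, rs_zero, rs_one, h1]
      have := hf i
      field_simp
    · rw [rs_one, rs_one, h2]
  full := fun c => by
    obtain ⟨b, hb, hc⟩ := h.full fun i => z₀ i * c i * (f₀ i)⁻¹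
    refine ⟨b, hb, fun v hv i => ?_⟩
    obtain ⟨h1, h2⟩ := hc v hv i
    refine ⟨?_, ?_⟩
    · rw [rs_zero, rs_zero, rs_one, h1]
      have := hz i
      field_simp
    · rw [rs_one, rs_one, h2]

theorem exists_fix_vec [Finite F] [CharP F 2] (hk : 0 < k) (hS : IsPGroup 2 S₀)
    (f : S₀ → (Fin k → F) → (Fin k → F)) (h1 : ∀ y, f 1 y = y) (hm : ∀ s t y, f (s * t) y = f s (f t y))
    (h0 : ∀ s, f s 0 = 0) : ∃ y, y ≠ 0 ∧ ∀ s, f s y = y := by
  classical
  letI : MulAction S₀ (Fin k → F) := { smul := f, one_smul := h1, mul_smul := hm }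
  have hd : 2 ∣ Nat.card (Fin k → F) := by
    rw [Nat.card_fun, Nat.card_fin]
    refine dvd_pow ?_ hk.ne'
    have := Fintype.ofFinite F
    rw [Nat.card_eq_fintype_card]
    exact (CharP.cast_eq_zero_iff F 2 _).1 (by
      have := Nat.cast_card_eq_zero F
      simpa using this)
  obtain ⟨b, hb, hne⟩ := hS.exists_fixed_point_of_prime_dvd_card_of_fixed_point (Fin k → F) hd
    (a := 0) (fun s => h0 s)
  exact ⟨b, hne.symm, fun s => hb s⟩

/-- the indices are permuted as the support tells -/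
theorem Sm.pi_eq (h : Cd F B V ZJ k e) {g : G} {π : Equiv.Perm (Fin k)} {σ : Fin k → F ≃+* F} {c d : Fin k → F}
    (hg : Sm V ZJ e g π σ c d) {i j : Fin k} (hij : ∀ v ∈ V, e (g * v * g⁻¹) j = 0 ↔ e v i = 0) : π i = j := by
  by_contra hne
  obtain ⟨v, hv, hve⟩ := h.surj (sg (π.symm j) 0 1)
  have h1 := hg.one v hv (π.symm j)
  have h2 : i ≠ π.symm j := fun h => hne (by rw [h, Equiv.apply_symm_apply])
  have h3 : e (g * v * g⁻¹) j = 0 := (hij v hv).2 (by rw [hve, sg_ne h2])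
  rw [Equiv.apply_symm_apply, h3, hve, sg_same] at h1
  have h4 : d (π.symm j) * σ (π.symm j) (1 : F) = 0 := by
    simpa using h1.symm
  rw [_root_.map_one, mul_one] at h4
  exact hg.d0 _ h4

theorem Cd.exists_cn [Finite F] [CharP F 2] (h : Cd F B V ZJ k e) (hk : 0 < k) (hS : IsPGroup 2 S₀)
    (hn : ∀ s ∈ S₀, Nm B V e s) (tr : ∀ i j, ∃ s ∈ S₀, ∀ v ∈ V, e (s * v * s⁻¹) j = 0 ↔ e v i = 0) :
    ∃ z₀ f₀ : Fin k → F, (∀ i, z₀ i ≠ 0) ∧ (∀ i, f₀ i ≠ 0) ∧ Cn F S₀ B V ZJ k (rs z₀ f₀ e) := by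
  classical
  choose f hfV hf using h.surj
  have hs : ∀ s : S₀, ∃ (π : Equiv.Perm (Fin k)) (σ : Fin k → F ≃+* F) (c d : Fin k → F), Sm V ZJ e s π σ c d :=
    fun s => by
      obtain ⟨π, σ, c, d, h1, -⟩ := h.semi (hn s s.2)
      exact ⟨π, σ, c, d, h1⟩
  choose π σ c d hs using hs
  -- the two actions
  have key1 : ∃ y : Fin k → F, y ≠ 0 ∧ ∀ s : S₀, ∀ i, d s i * σ s i (y i) = y (π s i) := by
    let a : S₀ → (Fin k → F) → (Fin k → F) := fun s y j => e (s * f (fun i => ![0, y i]) * (s : G)⁻¹) j 1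
    have a1 : ∀ y, a 1 y = y := by
      intro y
      funext j
      show e (((1 : S₀) : G) * f (fun i => ![0, y i]) * ((1 : S₀) : G)⁻¹) j 1 = y j
      rw [OneMemClass.coe_one, one_mul, inv_one, mul_one, hf]
      rfl
    have a2 : ∀ s t y, a (s * t) y = a s (a t y) := by
      intro s t y
      funext j
      obtain ⟨i, rfl⟩ := (π s).surjective j
      show e (((s * t : S₀) : G) * f (fun i => ![0, y i]) * ((s * t : S₀) : G)⁻¹) (π s i) 1 =
        e ((s : G) * f (fun i => ![0, e (t * f (fun i => ![0, y i]) * (t : G)⁻¹) i 1]) * (s : G)⁻¹) (π s i) 1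
      have hw := (hn t t.2).nV _ (hfV fun i => ![0, y i])
      have e1 : ((s * t : S₀) : G) * f (fun i => ![0, y i]) * ((s * t : S₀) : G)⁻¹ =
          (s : G) * ((t : G) * f (fun i => ![0, y i]) * (t : G)⁻¹) * (s : G)⁻¹ := by
        rw [Subgroup.coe_mul]; group
      rw [e1, (hs s).one _ hw, (hs s).one _ (hfV _), hf]
      rfl
    have a3 : ∀ s, a s 0 = 0 := by
      intro s
      funext j
      obtain ⟨i, rfl⟩ := (π s).surjective j
      show e ((s : G) * f (fun i => ![0, (0 : Fin k → F) i]) * (s : G)⁻¹) (π s i) 1 = 0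
      rw [(hs s).one _ (hfV _), hf]
      simp
    obtain ⟨y, hy, hfix⟩ := exists_fix_vec (k := k) (F := F) hk hS a a1 a2 a3
    refine ⟨y, hy, fun s i => ?_⟩
    have h1 : e (s * f (fun i => ![0, y i]) * (s : G)⁻¹) (π s i) 1 = y (π s i) := congrFun (hfix s) (π s i)
    have h2 := (hs s).one _ (hfV fun i => ![0, y i]) i
    rw [hf] at h2
    exact h2.symm.trans h1
  have key0 : ∃ y : Fin k → F, y ≠ 0 ∧ ∀ s : S₀, ∀ i, c s i * σ s i (y i) = y (π s i) := by
    have hZ : ∀ y : Fin k → F, f (fun i => ![y i, 0]) ∈ ZJ := fun y => (h.memZ _ (hfV _)).2 fun i => by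
      rw [hf]; rfl
    have hZn : ∀ s : S₀, ∀ z ∈ ZJ, (s : G) * z * (s : G)⁻¹ ∈ ZJ := by
      intro s z hz
      refine (h.memZ _ ((hn s s.2).nV z (h.ZV hz))).2 fun j => ?_
      obtain ⟨i, rfl⟩ := (π s).surjective j
      rw [(hs s).one z (h.ZV hz), (h.memZ z (h.ZV hz)).1 hz i, map_zero, mul_zero]
    let a : S₀ → (Fin k → F) → (Fin k → F) := fun s y j => e (s * f (fun i => ![y i, 0]) * (s : G)⁻¹) j 0
    have a1 : ∀ y, a 1 y = y := by
      intro y
      funext j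
      show e (((1 : S₀) : G) * f (fun i => ![y i, 0]) * ((1 : S₀) : G)⁻¹) j 0 = y j
      rw [OneMemClass.coe_one, one_mul, inv_one, mul_one, hf]
      rfl
    have a2 : ∀ s t y, a (s * t) y = a s (a t y) := by
      intro s t y
      funext j
      obtain ⟨i, rfl⟩ := (π s).surjective j
      show e (((s * t : S₀) : G) * f (fun i => ![y i, 0]) * ((s * t : S₀) : G)⁻¹) (π s i) 0 =
        e ((s : G) * f (fun i => ![e (t * f (fun i => ![y i, 0]) * (t : G)⁻¹) i 0, 0]) * (s : G)⁻¹) (π s i) 0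
      have hw := hZn t _ (hZ y)
      have e1 : ((s * t : S₀) : G) * f (fun i => ![y i, 0]) * ((s * t : S₀) : G)⁻¹ =
          (s : G) * ((t : G) * f (fun i => ![y i, 0]) * (t : G)⁻¹) * (s : G)⁻¹ := by
        rw [Subgroup.coe_mul]; group
      rw [e1, (hs s).zero _ hw, (hs s).zero _ (hZ _), hf]
      rfl
    have a3 : ∀ s, a s 0 = 0 := by
      intro s
      funext j
      obtain ⟨i, rfl⟩ := (π s).surjective j
      show e ((s : G) * f (fun i => ![(0 : Fin k → F) i, 0]) * (s : G)⁻¹) (π s i) 0 = 0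
      rw [(hs s).zero _ (hZ _), hf]
      simp
    obtain ⟨y, hy, hfix⟩ := exists_fix_vec (k := k) (F := F) hk hS a a1 a2 a3
    refine ⟨y, hy, fun s i => ?_⟩
    have h1 : e (s * f (fun i => ![y i, 0]) * (s : G)⁻¹) (π s i) 0 = y (π s i) := congrFun (hfix s) (π s i)
    have h2 := (hs s).zero _ (hZ y) i
    rw [hf] at h2
    exact h2.symm.trans h1
  obtain ⟨f₀, hf0, hfs⟩ := key1
  obtain ⟨z₀, hz0, hzs⟩ := key0
  -- full support
  have full : ∀ (y : Fin k → F) (r : S₀ → Fin k → F), (∀ s i, r s i ≠ 0) → y ≠ 0 →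
      (∀ s : S₀, ∀ i, r s i * σ s i (y i) = y (π s i)) → ∀ j, y j ≠ 0 := by
    intro y r hr hy hys j
    obtain ⟨i, hi⟩ := Function.ne_iff.1 hy
    obtain ⟨s, hsS, hsij⟩ := tr i j
    have h1 := Sm.pi_eq h (hs ⟨s, hsS⟩) hsij
    have h2 := hys ⟨s, hsS⟩ i
    rw [h1] at h2
    rw [← h2]
    exact mul_ne_zero (hr _ _) ((map_ne_zero _).2 hi)
  have hf' := full f₀ d (fun s i => (hs s).d0 i) hf0 hfs
  have hz' := full z₀ c (fun s i => (hs s).c0 i) hz0 hzs
  refine ⟨z₀, f₀, hz', hf', h.rsc hz' hf', fun s hs' => (hn s hs').rsc hz' hf', fun s hs' => ?_, fun i j => ?_⟩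
  · refine ⟨π ⟨s, hs'⟩, σ ⟨s, hs'⟩, fun i => one_ne_zero, fun i => one_ne_zero, fun v hv i => ?_, fun z hz i => ?_⟩
    · rw [rs_one, rs_one, (hs ⟨s, hs'⟩).one v hv i, ← hfs ⟨s, hs'⟩ i, Pi.one_apply, one_mul, map_mul, map_inv₀]
      have h1 := (hs ⟨s, hs'⟩).d0 i
      have h2 : σ ⟨s, hs'⟩ i (f₀ i) ≠ 0 := (map_ne_zero _).2 (hf' i)
      field_simp
    · rw [rs_zero, rs_zero, (hs ⟨s, hs'⟩).zero z hz i, ← hzs ⟨s, hs'⟩ i, Pi.one_apply, one_mul, map_mul, map_inv₀]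
      have h1 := (hs ⟨s, hs'⟩).c0 i
      have h2 : σ ⟨s, hs'⟩ i (z₀ i) ≠ 0 := (map_ne_zero _).2 (hz' i)
      field_simp
  · obtain ⟨s, hsS, hsij⟩ := tr i j
    exact ⟨s, hsS, fun v hv => by rw [rs_eq_zero hz' hf', rs_eq_zero hz' hf', hsij v hv]⟩

end Cfsg.Agent.Omega.OM.YThm

end

section


/-!
# (K) of LEMMA V (TCARD 5, D1)

An elementary abelian 2-group `E` acting by ring automorphisms on a finite reduced commutative ring `R` of
characteristic 2 satisfies `|E / C_E(R)| ≤ |R / C_R(E)|`.  (No orbits, no Galois theory: take `E₁` maximal in `E` with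
`C_R(E₁) ≠ C_R(E)`; if `a, b, ab ∉ E₁`, then for `x ∈ C_R(E₁)` and `t_c := x + c x` one gets
`x (x + t_a + t_b) = x (ab x) = (a x) (b x) = (x + t_a) (x + t_b)`, so `t_a t_b = 0`, similarly `t_a t_{ab} = 0`,
so `t_a² = 0`, `t_a = 0`.)
-/

set_option autoImplicit false

namespace Cfsg.Agent.Omega.OM.YThm.LemK

open Subgroup

variable {H : Type*} [Group H] {R : Type*} [CommRing R]

/-- `f` is an action of the subgroup `E` on the ring `R` by automorphisms of order at most 2 which commute. -/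
structure RA (f : H → R → R) (E : Subgroup H) : Prop where
  two : ∀ x : R, x + x = 0
  one : ∀ x, f 1 x = x
  mul : ∀ a ∈ E, ∀ b ∈ E, ∀ x, f (a * b) x = f a (f b x)
  add : ∀ a ∈ E, ∀ x y, f a (x + y) = f a x + f a y
  tim : ∀ a ∈ E, ∀ x y, f a (x * y) = f a x * f a y
  sq : ∀ a ∈ E, ∀ x, f a (f a x) = x
  comm : ∀ a ∈ E, ∀ b ∈ E, ∀ x, f a (f b x) = f b (f a x)

variable {f : H → R → R} {E : Subgroup H}

theorem RA.mono (h : RA f E) {X : Subgroup H} (hX : X ≤ E) : RA f X where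
  two := h.two
  one := h.one
  mul a ha b hb := h.mul a (hX ha) b (hX hb)
  add a ha := h.add a (hX ha)
  tim a ha := h.tim a (hX ha)
  sq a ha := h.sq a (hX ha)
  comm a ha b hb := h.comm a (hX ha) b (hX hb)

theorem RA.zero (h : RA f E) {a : H} (ha : a ∈ E) : f a 0 = 0 := by
  have := h.add a ha 0 0
  rw [add_zero] at this
  exact left_eq_add.1 this

/-- fixed elements -/
def fxR (h : RA f E) : AddSubgroup R where
  carrier := {x | ∀ a ∈ E, f a x = x}
  zero_mem' := fun a ha => h.zero ha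
  add_mem' := fun {x y} hx hy a ha => by rw [h.add a ha, hx a ha, hy a ha]
  neg_mem' := fun {x} hx a ha => by
    have e : -x = x := neg_eq_of_add_eq_zero_left (h.two x)
    rw [e]; exact hx a ha

/-- the kernel -/
def kr (h : RA f E) : Subgroup H where
  carrier := {a | a ∈ E ∧ ∀ x, f a x = x}
  one_mem' := ⟨E.one_mem, h.one⟩
  mul_mem' := fun {a b} ha hb => ⟨E.mul_mem ha.1 hb.1, fun x => by rw [h.mul a ha.1 b hb.1, hb.2, ha.2]⟩
  inv_mem' := fun {a} ha => ⟨E.inv_mem ha.1, fun x => by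
    have := h.mul a ha.1 a⁻¹ (E.inv_mem ha.1) x
    rw [mul_inv_cancel, h.one, ha.2] at this
    exact this.symm⟩

theorem RA.inv (h : RA f E) {a : H} (ha : a ∈ E) (x : R) : f a⁻¹ x = f a x := by
  have := h.mul a⁻¹ (E.inv_mem ha) a ha (f a x)
  rw [inv_mul_cancel, h.one, h.sq a ha] at this
  exact this.symm

/-- the four-group argument -/
theorem RA.four (h : RA f E) (red : ∀ x : R, x * x = 0 → x = 0) {X : Subgroup H} (hX : X ≤ E)
    (hmax : ∀ a ∈ E, a ∉ X → ∀ x, (∀ c ∈ X, f c x = x) → f a x = x → ∀ c ∈ E, f c x = x)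
    {a b : H} (ha : a ∈ E) (hb : b ∈ E) (hbX : b ∉ X) (habX : a * b ∉ X) {x : R}
    (hx : ∀ c ∈ X, f c x = x) : f a x = x := by
  have hab := E.mul_mem ha hb
  have hneg : ∀ y : R, -y = y := fun y => neg_eq_of_add_eq_zero_left (h.two y)
  -- traces and norms are fixed by `E`
  have tr : ∀ c ∈ E, c ∉ X → ∀ d ∈ E, f d (x + f c x) = x + f c x := by
    intro c hc hcX
    refine hmax c hc hcX _ (fun d hd => ?_) ?_
    · rw [h.add d (hX hd), hx d hd, h.comm d (hX hd) c hc, hx d hd]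
    · rw [h.add c hc, h.sq c hc, add_comm]
  have nm : ∀ c ∈ E, c ∉ X → ∀ d ∈ E, f d (x * f c x) = x * f c x := by
    intro c hc hcX
    refine hmax c hc hcX _ (fun d hd => ?_) ?_
    · rw [h.tim d (hX hd), hx d hd, h.comm d (hX hd) c hc, hx d hd]
    · rw [h.tim c hc, h.sq c hc, mul_comm]
  set s := x + f a x with hs
  set t := x + f b x with ht
  have ea : f a x = x + s := by rw [hs, ← add_assoc, h.two, zero_add]
  have eb : f b x = x + t := by rw [ht, ← add_assoc, h.two, zero_add]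
  have eab : f (a * b) x = x + s + t := by
    rw [h.mul a ha b hb, eb, h.add a ha, ea, tr b hb hbX a ha]
  -- `x (ab x) = (a x) (b x)`
  have e1 : x * (x + s + t) = (x + s) * (x + t) := by
    have := nm _ hab habX a ha
    rw [h.tim a ha, h.mul a ha b hb, h.sq a ha, ← h.mul a ha b hb, eab, ea, eb] at this
    exact this.symm
  -- `x (b x) = (a x) (ab x)`
  have e2 : x * (x + t) = (x + s) * (x + s + t) := by
    have := nm _ hb hbX a ha
    rw [h.tim a ha, ← h.mul a ha b hb, eab, ea, eb] at this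
    exact this.symm
  have e3 : s * t = 0 := by
    have : (x + s) * (x + t) = x * (x + s + t) + s * t := by ring
    rw [← e1] at this
    exact left_eq_add.1 this
  have e4 : s * s = 0 := by
    have : (x + s) * (x + s + t) = x * (x + t) + (x * s + x * s) + s * s + s * t := by ring
    rw [h.two, e3, add_zero, add_zero, ← e2] at this
    exact left_eq_add.1 this
  rw [ea, red s e4, add_zero]

variable [Finite H] [Finite R]

/-- (K) -/
theorem RA.main (red : ∀ x : R, x * x = 0 → x = 0) : ∀ (n : ℕ) (E : Subgroup H) (h : RA f E), Nat.card E ≤ n →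
    Nat.card E * Nat.card (fxR h) ≤ Nat.card (kr h) * Nat.card R := by
  intro n
  induction n with
  | zero =>
    intro E h hn
    have : 0 < Nat.card E := Nat.card_pos
    omega
  | succ n ih =>
    intro E h hn
    classical
    by_cases htriv : ∀ a ∈ E, ∀ x, f a x = x
    · have e1 : kr h = E := le_antisymm (fun a ha => ha.1) (fun a ha => ⟨ha, htriv a ha⟩)
      rw [e1]
      exact Nat.mul_le_mul_left _ (Nat.card_le_card_of_injective _ Subtype.val_injective)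
    · push Not at htriv
      -- the subgroups with more fixed elements than `E`
      let S : Set (Subgroup H) := {X | X ≤ E ∧ ∃ x, (∀ c ∈ X, f c x = x) ∧ ∃ c ∈ E, f c x ≠ x}
      have hS : S.Nonempty := by
        obtain ⟨a, ha, x, hx⟩ := htriv
        exact ⟨kr h, fun a ha => ha.1, x, fun c hc => hc.2 x, a, ha, hx⟩
      obtain ⟨X, hXmax⟩ := (Set.toFinite S).exists_maximal hS
      obtain ⟨hXE, x₀, hx₀, c₀, hc₀, hne⟩ := hXmax.prop
      have hmax : ∀ a ∈ E, a ∉ X → ∀ x, (∀ c ∈ X, f c x = x) → f a x = x → ∀ c ∈ E, f c x = x := by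
        intro a ha haX x hx hax
        by_contra hc
        push Not at hc
        let Y : Subgroup H :=
          { carrier := {c | c ∈ E ∧ f c x = x}
            one_mem' := ⟨E.one_mem, h.one x⟩
            mul_mem' := fun {c d} hc hd => ⟨E.mul_mem hc.1 hd.1, by rw [h.mul c hc.1 d hd.1, hd.2, hc.2]⟩
            inv_mem' := fun {c} hc => ⟨E.inv_mem hc.1, by rw [h.inv hc.1, hc.2]⟩ }
        have hYS : Y ∈ S := ⟨fun c hc => hc.1, x, fun c hc => hc.2, hc⟩
        have hXY : X ≤ Y := fun c hc => ⟨hXE hc, hx c hc⟩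
        have := hXmax.le_of_ge hYS hXY
        exact haX (this ⟨ha, hax⟩)
      have hXne : X ≠ E := by
        rintro rfl
        exact hne (hx₀ c₀ hc₀)
      obtain ⟨a, ha, haX⟩ := SetLike.exists_of_lt (lt_of_le_of_ne hXE hXne)
      -- E = X ∪ a X
      have hcov : ∀ b ∈ E, b ∉ X → a * b ∈ X := by
        intro b hb hbX
        by_contra habX
        have h1 := h.four red hXE hmax ha hb hbX habX hx₀
        exact hne (hmax a ha haX x₀ hx₀ h1 c₀ hc₀)
      have hcardE : Nat.card E ≤ 2 * Nat.card X := by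
        have hsub : (E : Set H) ⊆ (X : Set H) ∪ (fun k => a⁻¹ * k) '' (X : Set H) := by
          intro b hb
          by_cases hbX : b ∈ X
          · exact Or.inl hbX
          · exact Or.inr ⟨a * b, hcov b hb hbX, by group⟩
        have h1 := Set.ncard_le_ncard hsub (Set.toFinite _)
        have h2 := Set.ncard_union_le (X : Set H) ((fun k => a⁻¹ * k) '' (X : Set H))
        have h3 := Set.ncard_image_le (f := fun k => a⁻¹ * k) (Set.toFinite (X : Set H))
        have h5 : (E : Set H).ncard = Nat.card E := (Nat.card_coe_set_eq _).symm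
        have h6 : (X : Set H).ncard = Nat.card X := (Nat.card_coe_set_eq _).symm
        rw [h5] at h1
        rw [h6] at h2 h3
        omega
      have hX : RA f X := h.mono hXE
      have hcardX : Nat.card X < Nat.card E := by
        by_contra hc
        exact hXne (Subgroup.eq_of_le_of_card_ge hXE (not_lt.1 hc))
      have h1 := ih X hX (by omega)
      -- the fixed elements of `E` form a proper subgroup of those of `X`
      have hfx : 2 * Nat.card (fxR h) ≤ Nat.card (fxR hX) := by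
        have hle : fxR h ≤ fxR hX := fun x hx c hc => hx c (hXE hc)
        have hne' : fxR h ≠ fxR hX := fun e => by
          have : x₀ ∈ fxR h := by rw [e]; exact hx₀
          exact hne (this c₀ hc₀)
        obtain ⟨m, hm⟩ := AddSubgroup.card_dvd_of_le hle
        have hpos : 0 < Nat.card (fxR hX) := Nat.card_pos
        rw [hm] at hpos ⊢
        have hm1 : m ≠ 1 := by
          rintro rfl
          exact hne' (AddSubgroup.eq_of_le_of_card_ge hle (by rw [hm, mul_one]))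
        have hm0 : m ≠ 0 := by
          rintro rfl
          rw [mul_zero] at hpos
          exact lt_irrefl _ hpos
        rw [mul_comm]
        exact Nat.mul_le_mul_left _ (by omega)
      have hkr : Nat.card (kr hX) ≤ Nat.card (kr h) :=
        Subgroup.card_le_of_le (fun c hc => ⟨hXE hc.1, hc.2⟩)
      calc Nat.card E * Nat.card (fxR h) ≤ (2 * Nat.card X) * Nat.card (fxR h) := Nat.mul_le_mul_right _ hcardE
        _ = Nat.card X * (2 * Nat.card (fxR h)) := by ring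
        _ ≤ Nat.card X * Nat.card (fxR hX) := Nat.mul_le_mul_left _ hfx
        _ ≤ Nat.card (kr hX) * Nat.card R := h1
        _ ≤ Nat.card (kr h) * Nat.card R := Nat.mul_le_mul_right _ hkr

end Cfsg.Agent.Omega.OM.YThm.LemK

end

section


/-!
# LEMMA V (TCARD 5, D1)

`S` acts on `Z ≅ R` and on `V / Z ≅ R`, `R = F^k`, by the same ring automorphisms, elements of `S` trivial on `Z` act as
`v ↦ v + b · v̄`, `b ∈ R`.  For `E ≤ S` elementary abelian: `|E / C_E(V)| |Z / C_Z(E)| ≤ |V / C_V(E)|`.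
Proof: `B = {b(u) : u ∈ C_E(Z)}` and `D = image of C_V(E)` in `V / Z` are subgroups of `R^E` with `B D = 0`, so
`|B| |D| ≤ |R^E|`; then (K).
-/

set_option autoImplicit false

namespace Cfsg.Agent.Omega.OM.YThm

open Subgroup Cfsg.Agent.ZN Cfsg.Agent.ZN.ChoiceBase Cfsg.Agent.ZN.ChoiceSit
open scoped Pointwise

namespace LemVCo

variable {H : Type*} [Group H] {M : Type*} [AddCommGroup M] [DistribMulAction H M] {F : Type} [Field F]
  {S : Subgroup H} {V Z : AddSubgroup M} {k : ℕ} {e : M → Fin k → Fin 2 → F}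

/-- the coordinates in `Z` -/
def c0 (e : M → Fin k → Fin 2 → F) (v : M) : Fin k → F := fun i => e v i 0

/-- the coordinates in `V / Z` -/
def c1 (e : M → Fin k → Fin 2 → F) (v : M) : Fin k → F := fun i => e v i 1

theorem e_sub (h : Co F S V Z k e) {v w : M} (hv : v ∈ V) (hw : w ∈ V) : e (v - w) = e v - e w := by
  have := h.add (v - w) (V.sub_mem hv hw) w hw
  rw [sub_add_cancel] at this
  rw [this, add_sub_cancel_right]

theorem e_inj (h : Co F S V Z k e) {v w : M} (hv : v ∈ V) (hw : w ∈ V) (hvw : e v = e w) : v = w := by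
  have := h.inj (v - w) (V.sub_mem hv hw) (by rw [e_sub h hv hw, hvw, sub_self])
  exact sub_eq_zero.1 this

theorem ext01 (h : Co F S V Z k e) {v w : M} (hv : v ∈ V) (hw : w ∈ V) (h0 : c0 e v = c0 e w)
    (h1 : c1 e v = c1 e w) : v = w := by
  refine e_inj h hv hw (funext fun i => funext fun j => ?_)
  fin_cases j
  · exact congrFun h0 i
  · exact congrFun h1 i

theorem mem_Z (h : Co F S V Z k e) {v : M} (hv : v ∈ V) : v ∈ Z ↔ c1 e v = 0 := by
  rw [h.memZ v hv]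
  exact ⟨fun hc => funext hc, fun hc i => congrFun hc i⟩

theorem c0_add (h : Co F S V Z k e) {v w : M} (hv : v ∈ V) (hw : w ∈ V) : c0 e (v + w) = c0 e v + c0 e w := by
  funext i; simp only [c0, h.add v hv w hw, Pi.add_apply]

theorem c1_add (h : Co F S V Z k e) {v w : M} (hv : v ∈ V) (hw : w ∈ V) : c1 e (v + w) = c1 e v + c1 e w := by
  funext i; simp only [c1, h.add v hv w hw, Pi.add_apply]

theorem c0_sub (h : Co F S V Z k e) {v w : M} (hv : v ∈ V) (hw : w ∈ V) : c0 e (v - w) = c0 e v - c0 e w := by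
  funext i; simp only [c0, e_sub h hv hw, Pi.sub_apply]

theorem c1_sub (h : Co F S V Z k e) {v w : M} (hv : v ∈ V) (hw : w ∈ V) : c1 e (v - w) = c1 e v - c1 e w := by
  funext i; simp only [c1, e_sub h hv hw, Pi.sub_apply]

theorem exists_v (h : Co F S V Z k e) (x y : Fin k → F) : ∃ v ∈ V, c0 e v = x ∧ c1 e v = y := by
  obtain ⟨v, hv, hev⟩ := h.surj fun i j => if j = 0 then x i else y i
  refine ⟨v, hv, funext fun i => ?_, funext fun i => ?_⟩
  · simp [c0, hev]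
  · simp [c1, hev]

open Classical in
/-- the element of `V` with given coordinates -/
noncomputable def vv (h : Co F S V Z k e) (x y : Fin k → F) : M := (exists_v h x y).choose

theorem vv_mem (h : Co F S V Z k e) (x y : Fin k → F) : vv h x y ∈ V := (exists_v h x y).choose_spec.1

theorem c0_vv (h : Co F S V Z k e) (x y : Fin k → F) : c0 e (vv h x y) = x := (exists_v h x y).choose_spec.2.1

theorem c1_vv (h : Co F S V Z k e) (x y : Fin k → F) : c1 e (vv h x y) = y := (exists_v h x y).choose_spec.2.2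

theorem vv_Z (h : Co F S V Z k e) (x : Fin k → F) : vv h x 0 ∈ Z := (mem_Z h (vv_mem h x 0)).2 (c1_vv h x 0)

theorem vv_eq (h : Co F S V Z k e) {v : M} (hv : v ∈ V) : vv h (c0 e v) (c1 e v) = v :=
  ext01 h (vv_mem h _ _) hv (c0_vv h _ _) (c1_vv h _ _)

theorem vv_eqZ (h : Co F S V Z k e) {v : M} (hv : v ∈ Z) : vv h (c0 e v) 0 = v := by
  have := vv_eq h (h.ZV hv)
  rwa [(mem_Z h (h.ZV hv)).1 hv] at this

theorem SZ (h : Co F S V Z k e) {s : H} (hs : s ∈ S) {z : M} (hz : z ∈ Z) : s • z ∈ Z := by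
  rw [h.memZ _ (h.SV s hs z (h.ZV hz))]
  obtain ⟨π, σ, h1, -⟩ := h.act s hs
  intro i
  have := h1 z (h.ZV hz) (π.symm i)
  rw [π.apply_symm_apply, (h.memZ z (h.ZV hz)).1 hz, map_zero] at this
  exact this

/-- the action on `R = F^k` -/
noncomputable def ff (h : Co F S V Z k e) (s : H) (x : Fin k → F) : Fin k → F := c0 e (s • vv h x 0)

theorem ff_c0 (h : Co F S V Z k e) {s : H} {z : M} (hz : z ∈ Z) : ff h s (c0 e z) = c0 e (s • z) := by
  rw [ff, vv_eqZ h hz]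

theorem ff_c1 (h : Co F S V Z k e) {s : H} (hs : s ∈ S) {v : M} (hv : v ∈ V) : ff h s (c1 e v) = c1 e (s • v) := by
  obtain ⟨π, σ, h1, h2⟩ := h.act s hs
  funext j
  obtain ⟨i, rfl⟩ := π.surjective j
  have e1 := h2 _ (vv_Z h (c1 e v)) i
  have e2 := h1 v hv i
  change e (s • vv h (c1 e v) 0) (π i) 0 = e (s • v) (π i) 1
  rw [e1, e2]
  exact congrArg (σ i) (congrFun (c0_vv h (c1 e v) 0) i)

theorem ff_mul (h : Co F S V Z k e) {s : H} (hs : s ∈ S) (x y : Fin k → F) :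
    ff h s (x * y) = ff h s x * ff h s y := by
  obtain ⟨π, σ, -, h2⟩ := h.act s hs
  have key : ∀ (x : Fin k → F) (i : Fin k), ff h s x (π i) = σ i (x i) := by
    intro x i
    have e1 := h2 _ (vv_Z h x) i
    change e (s • vv h x 0) (π i) 0 = σ i (x i)
    rw [e1]
    exact congrArg (σ i) (congrFun (c0_vv h x 0) i)
  funext j
  obtain ⟨i, rfl⟩ := π.surjective j
  rw [Pi.mul_apply, key, key, key, Pi.mul_apply, map_mul]

theorem ff_one (h : Co F S V Z k e) {s : H} (hs : s ∈ S) : ff h s 1 = 1 := by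
  obtain ⟨π, σ, -, h2⟩ := h.act s hs
  funext j
  obtain ⟨i, rfl⟩ := π.surjective j
  have e1 := h2 _ (vv_Z h 1) i
  change e (s • vv h 1 0) (π i) 0 = 1
  rw [e1]
  have e2 : e (vv h 1 0) i 0 = 1 := congrFun (c0_vv h 1 0) i
  rw [e2, map_one]

theorem two_R (h : Co F S V Z k e) (two : ∀ x : M, x + x = 0) (x : Fin k → F) : x + x = 0 := by
  have h1 := c0_add h (vv_mem h x 0) (vv_mem h x 0)
  rw [two, c0_vv] at h1
  have h2 := c0_add h V.zero_mem V.zero_mem
  rw [add_zero] at h2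
  have h3 : c0 e (0 : M) = 0 := by simpa using h2
  rw [← h1, h3]

theorem red_R (x : Fin k → F) (hx : x * x = 0) : x = 0 := by
  funext i
  exact mul_self_eq_zero.1 (congrFun hx i)

theorem ra (h : Co F S V Z k e) (two : ∀ x : M, x + x = 0) {E : Subgroup H} (hES : E ≤ S) (hE : El M E) :
    LemK.RA (ff h) E where
  two := two_R h two
  one x := by rw [ff, one_smul, c0_vv]
  mul a ha b hb x := by
    rw [ff, mul_smul, ← ff_c0 h (SZ h (hES hb) (vv_Z h x))]
    rfl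
  add a ha x y := by
    have e1 : vv h (x + y) 0 = vv h x 0 + vv h y 0 := by
      refine ext01 h (vv_mem h _ _) (V.add_mem (vv_mem h _ _) (vv_mem h _ _)) ?_ ?_
      · rw [c0_vv, c0_add h (vv_mem h _ _) (vv_mem h _ _), c0_vv, c0_vv]
      · rw [c1_vv, c1_add h (vv_mem h _ _) (vv_mem h _ _), c1_vv, c1_vv, add_zero]
    rw [ff, e1, smul_add, c0_add h (h.SV a (hES ha) _ (vv_mem h _ _)) (h.SV a (hES ha) _ (vv_mem h _ _))]
    rfl
  tim a ha x y := ff_mul h (hES ha) x y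
  sq a ha x := by
    change c0 e (a • vv h (c0 e (a • vv h x 0)) 0) = x
    rw [vv_eqZ h (SZ h (hES ha) (vv_Z h x)), hE.sq a ha, c0_vv]
  comm a ha b hb x := by
    change c0 e (a • vv h (c0 e (b • vv h x 0)) 0) = c0 e (b • vv h (c0 e (a • vv h x 0)) 0)
    rw [vv_eqZ h (SZ h (hES hb) (vv_Z h x)), vv_eqZ h (SZ h (hES ha) (vv_Z h x)), hE.comm a ha b hb]

section

variable (h : Co F S V Z k e)

/-- the vector of `u ∈ C_E(Z)` -/
noncomputable def bb (u : H) : Fin k → F := c0 e (u • vv h 0 1) - c0 e (vv h 0 1)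

theorem up' {u : H} (hu : u ∈ S) (huZ : ∀ z ∈ Z, u • z = z) {v : M} (hv : v ∈ V) :
    c0 e (u • v) = c0 e v + bb h u * c1 e v ∧ c1 e (u • v) = c1 e v := by
  obtain ⟨b, hb⟩ := h.up u hu huZ
  have key : ∀ v ∈ V, c0 e (u • v) = c0 e v + b * c1 e v ∧ c1 e (u • v) = c1 e v :=
    fun v hv => ⟨funext fun i => (hb v hv i).1, funext fun i => (hb v hv i).2⟩
  have hbb : bb h u = b := by
    rw [bb, (key _ (vv_mem h 0 1)).1, c1_vv, mul_one, add_sub_cancel_left]
  rw [hbb]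
  exact key v hv

theorem bb_mul {u w : H} (hu : u ∈ S) (huZ : ∀ z ∈ Z, u • z = z) (hw : w ∈ S) (hwZ : ∀ z ∈ Z, w • z = z) :
    bb h (u * w) = bb h u + bb h w := by
  have h1 := up' h hw hwZ (vv_mem h 0 1)
  have h2 := up' h hu huZ (h.SV w hw _ (vv_mem h 0 1))
  rw [bb, mul_smul, h2.1, h1.1, h1.2, c1_vv, mul_one, mul_one]
  abel

theorem bb_fix {E : Subgroup H} (hES : E ≤ S) (hE : El M E) {u : H} (hu : u ∈ E) (huZ : ∀ z ∈ Z, u • z = z)
    {s : H} (hs : s ∈ E) : ff h s (bb h u) = bb h u := by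
  have hv := vv_mem h (0 : Fin k → F) 1
  have huv := h.SV u (hES hu) _ hv
  have hw : u • vv h 0 1 - vv h 0 1 ∈ Z := by
    rw [mem_Z h (V.sub_mem huv hv), c1_sub h huv hv, (up' h (hES hu) huZ hv).2, sub_self]
  have e1 : bb h u = c0 e (u • vv h 0 1 - vv h 0 1) := (c0_sub h huv hv).symm
  have hsv := h.SV s (hES hs) _ hv
  rw [e1, ff_c0 h hw, smul_sub, hE.comm s hs u hu, c0_sub h (h.SV u (hES hu) _ hsv) hsv,
    (up' h (hES hu) huZ hsv).1, ← ff_c1 h (hES hs) hv, c1_vv, ff_one h (hES hs), mul_one, add_sub_cancel_left, e1]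

end

end LemVCo

open LemVCo in
/-- **LEMMA V** -/
theorem Co.lemV {H : Type*} [Group H] {M : Type*} [AddCommGroup M] [DistribMulAction H M] {F : Type} [Field F]
    {S : Subgroup H} {V Z : AddSubgroup M} {k : ℕ} {e : M → Fin k → Fin 2 → F}
    [Finite H] [Finite M] [Finite F] (h : Co F S V Z k e) (two : ∀ x : M, x + x = 0) {E : Subgroup H}
    (hES : E ≤ S) (hE : El M E) :
    Nat.card E * Nat.card Z * Nat.card (fx V E) ≤ Nat.card (ct E V) * Nat.card (fx Z E) * Nat.card V := by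
  classical
  have R := ra h two hES hE
  have hneg : ∀ x : Fin k → F, -x = x := fun x => neg_eq_of_add_eq_zero_left (two_R h two x)
  -- the fixed elements
  have c1f : Nat.card (fx Z E) ≤ Nat.card (LemK.fxR R) := by
    refine Nat.card_le_card_of_injective (fun z : fx Z E => (⟨c0 e (z : M), fun a ha => ?_⟩ : LemK.fxR R)) ?_
    · rw [ff_c0 h z.2.1, z.2.2 a ha]
    · intro z w hzw
      have h1 : c0 e (z : M) = c0 e (w : M) := congrArg Subtype.val hzw
      have hz := z.2.1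
      have hw := w.2.1
      exact Subtype.ext (ext01 h (h.ZV hz) (h.ZV hw) h1 (((mem_Z h (h.ZV hz)).1 hz).trans ((mem_Z h (h.ZV hw)).1 hw).symm))
  have c2f : Nat.card (LemK.fxR R) ≤ Nat.card (fx Z E) := by
    refine Nat.card_le_card_of_injective
      (fun x : LemK.fxR R => (⟨vv h (x : Fin k → F) 0, vv_Z h _, fun a ha => ?_⟩ : fx Z E)) ?_
    · have h1 : ff h a x = x := x.2 a ha
      have hz := SZ h (hES ha) (vv_Z h (x : Fin k → F))
      rw [← vv_eqZ h hz]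
      exact congrArg (fun y => vv h y 0) h1
    · intro x y hxy
      have h1 : vv h (x : Fin k → F) 0 = vv h (y : Fin k → F) 0 := congrArg Subtype.val hxy
      have := congrArg (c0 e) h1
      rw [c0_vv, c0_vv] at this
      exact Subtype.ext this
  have c3 : Nat.card (LemK.kr R) ≤ Nat.card (ct E Z) := by
    refine Subgroup.card_le_of_le fun a ha => ⟨ha.1, fun z hz => ?_⟩
    have h1 := ha.2 (c0 e z)
    rw [ff_c0 h hz] at h1
    have hz' := SZ h (hES ha.1) hz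
    exact ext01 h (h.ZV hz') (h.ZV hz) h1 (((mem_Z h (h.ZV hz')).1 hz').trans ((mem_Z h (h.ZV hz)).1 hz).symm)
  have c4 : Nat.card (Fin k → F) ≤ Nat.card Z := by
    refine Nat.card_le_card_of_injective (fun x : Fin k → F => (⟨vv h x 0, vv_Z h x⟩ : Z)) fun x y hxy => ?_
    have h1 : vv h x 0 = vv h y 0 := congrArg Subtype.val hxy
    have := congrArg (c0 e) h1
    rwa [c0_vv, c0_vv] at this
  have hK : Nat.card E * Nat.card (fx Z E) ≤ Nat.card (ct E Z) * Nat.card Z :=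
    (Nat.mul_le_mul_left _ c1f).trans ((LemK.RA.main red_R _ E R le_rfl).trans (Nat.mul_le_mul c3 c4))
  -- `|V| = |Z|²`
  have c5 : Nat.card Z * Nat.card Z ≤ Nat.card V := by
    rw [← Nat.card_prod]
    refine Nat.card_le_card_of_injective
      (fun x : Z × Z => (⟨vv h (c0 e (x.1 : M)) (c0 e (x.2 : M)), vv_mem h _ _⟩ : V)) ?_
    rintro ⟨x, y⟩ ⟨x', y'⟩ hxy
    have h1 : vv h (c0 e (x : M)) (c0 e (y : M)) = vv h (c0 e (x' : M)) (c0 e (y' : M)) := congrArg Subtype.val hxy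
    have h2 := congrArg (c0 e) h1
    have h3 := congrArg (c1 e) h1
    rw [c0_vv, c0_vv] at h2
    rw [c1_vv, c1_vv] at h3
    have key : ∀ z w : Z, c0 e (z : M) = c0 e (w : M) → z = w := fun z w hzw =>
      Subtype.ext (ext01 h (h.ZV z.2) (h.ZV w.2) hzw
        (((mem_Z h (h.ZV z.2)).1 z.2).trans ((mem_Z h (h.ZV w.2)).1 w.2).symm))
    exact Prod.ext (key _ _ h2) (key _ _ h3)
  -- the subgroups `B` and `D` of `R^E`
  have hb0 : ∀ u ∈ ct E Z, u ∈ S ∧ ∀ z ∈ Z, u • z = z := fun u hu => ⟨hES hu.1, hu.2⟩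
  let B : AddSubgroup (Fin k → F) :=
    { carrier := {x | ∃ u ∈ ct E Z, bb h u = x}
      zero_mem' := ⟨1, (ct E Z).one_mem, by rw [bb, one_smul, sub_self]⟩
      add_mem' := by
        rintro _ _ ⟨u, hu, rfl⟩ ⟨w, hw, rfl⟩
        exact ⟨u * w, (ct E Z).mul_mem hu hw, bb_mul h (hb0 u hu).1 (hb0 u hu).2 (hb0 w hw).1 (hb0 w hw).2⟩
      neg_mem' := by
        rintro x hx
        rwa [hneg] }
  let D : AddSubgroup (Fin k → F) :=
    { carrier := {x | ∃ v ∈ fx V E, c1 e v = x}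
      zero_mem' := ⟨0, (fx V E).zero_mem, (mem_Z h V.zero_mem).1 Z.zero_mem⟩
      add_mem' := by
        rintro _ _ ⟨v, hv, rfl⟩ ⟨w, hw, rfl⟩
        exact ⟨v + w, (fx V E).add_mem hv hw, c1_add h hv.1 hw.1⟩
      neg_mem' := by
        rintro x hx
        rwa [hneg] }
  have hBD : ∀ x ∈ B, ∀ y ∈ D, x * y = 0 := by
    rintro _ ⟨u, hu, rfl⟩ _ ⟨v, hv, rfl⟩
    have h1 := (up' h (hb0 u hu).1 (hb0 u hu).2 hv.1).1
    rw [hv.2 u hu.1] at h1
    exact (left_eq_add.1 h1)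
  have hBf : ∀ x ∈ B, x ∈ LemK.fxR R := by
    rintro _ ⟨u, hu, rfl⟩ s hs
    exact bb_fix h hES hE hu.1 hu.2 hs
  have hDf : ∀ y ∈ D, y ∈ LemK.fxR R := by
    rintro _ ⟨v, hv, rfl⟩ s hs
    rw [ff_c1 h (hES hs) hv.1, hv.2 s hs]
  have d1 : Nat.card B * Nat.card D ≤ Nat.card (fx Z E) := by
    refine le_trans ?_ c2f
    rw [← Nat.card_prod]
    refine Nat.card_le_card_of_injective
      (fun x : B × D => (⟨(x.1 : Fin k → F) + x.2, (LemK.fxR R).add_mem (hBf _ x.1.2) (hDf _ x.2.2)⟩ : LemK.fxR R)) ?_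
    rintro ⟨x, y⟩ ⟨x', y'⟩ hxy
    have h1 : (x : Fin k → F) + y = x' + y' := congrArg Subtype.val hxy
    have h2 : (x : Fin k → F) - x' = y' - y := by
      rw [sub_eq_sub_iff_add_eq_add, h1, add_comm]
    have h3 : (x : Fin k → F) - x' = 0 := by
      refine red_R _ ?_
      nth_rewrite 2 [h2]
      exact hBD _ (B.sub_mem x.2 x'.2) _ (D.sub_mem y'.2 y.2)
    have h4 : (y' : Fin k → F) - y = 0 := by rw [← h2, h3]
    exact Prod.ext (Subtype.ext (sub_eq_zero.1 h3)) (Subtype.ext (sub_eq_zero.1 h4).symm)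
  have d2 : Nat.card (ct E Z) ≤ Nat.card (ct E V) * Nat.card B := by
    have key : ∀ a ∈ ct E Z, ∀ b ∈ ct E Z, bb h a = bb h b → b⁻¹ * a ∈ ct E V := by
      intro a ha b hb hab
      have hba := (ct E Z).mul_mem ((ct E Z).inv_mem hb) ha
      have h1 := bb_mul h (hb0 b hb).1 (hb0 b hb).2 (hb0 _ hba).1 (hb0 _ hba).2
      rw [mul_inv_cancel_left] at h1
      have h2 : bb h (b⁻¹ * a) = 0 := by
        rw [hab] at h1
        exact (left_eq_add.1 h1)
      refine ⟨hba.1, fun v hv => ?_⟩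
      have h3 := up' h (hb0 _ hba).1 (hb0 _ hba).2 hv
      rw [h2, zero_mul, add_zero] at h3
      exact ext01 h (h.SV _ (hb0 _ hba).1 v hv) hv h3.1 h3.2
    have hB : ∀ y : B, ∃ u, u ∈ ct E Z ∧ bb h u = y := fun y => by
      obtain ⟨u, hu, huy⟩ := y.2
      exact ⟨u, hu, huy⟩
    choose w hw hwy using hB
    let d : ct E Z → B := fun u => ⟨bb h (u : H), u, u.2, rfl⟩
    rw [← Nat.card_prod]
    refine Nat.card_le_card_of_injective
      (fun u : ct E Z => ((⟨(w (d u))⁻¹ * (u : H), key (u : H) u.2 (w (d u)) (hw (d u)) (hwy (d u)).symm⟩ : ct E V), d u)) ?_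
    intro u u' huu
    have h2 : d u = d u' := (Prod.ext_iff.1 huu).2
    have h1 : (w (d u))⁻¹ * (u : H) = (w (d u'))⁻¹ * (u' : H) := congrArg Subtype.val (Prod.ext_iff.1 huu).1
    rw [h2] at h1
    exact Subtype.ext (mul_left_cancel h1)
  have d3 : Nat.card (fx V E) ≤ Nat.card (fx Z E) * Nat.card D := by
    have hD : ∀ y : D, ∃ v, v ∈ fx V E ∧ c1 e v = y := fun y => by
      obtain ⟨v, hv, hvy⟩ := y.2
      exact ⟨v, hv, hvy⟩
    choose w hw hwy using hD
    let d : fx V E → D := fun v => ⟨c1 e (v : M), v, v.2, rfl⟩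
    rw [← Nat.card_prod]
    refine Nat.card_le_card_of_injective
      (fun v : fx V E => ((⟨(v : M) - w (d v), ?_⟩ : fx Z E), d v)) ?_
    · refine ⟨?_, ((fx V E).sub_mem v.2 (hw _)).2⟩
      rw [mem_Z h (V.sub_mem v.2.1 (hw _).1), c1_sub h v.2.1 (hw _).1, hwy]
      exact sub_self (c1 e (v : M))
    · intro v v' hvv
      have h2 : d v = d v' := (Prod.ext_iff.1 hvv).2
      have h1 : (v : M) - w (d v) = (v' : M) - w (d v') := congrArg Subtype.val (Prod.ext_iff.1 hvv).1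
      rw [h2] at h1
      exact Subtype.ext (sub_left_injective h1)
  have hpos : 0 < Nat.card (fx Z E) := Nat.card_pos
  -- combination
  have k1 : Nat.card E * Nat.card (fx V E) ≤ Nat.card (ct E V) * Nat.card Z * Nat.card (fx Z E) := by
    refine Nat.le_of_mul_le_mul_left ?_ hpos
    calc Nat.card (fx Z E) * (Nat.card E * Nat.card (fx V E))
        = (Nat.card E * Nat.card (fx Z E)) * Nat.card (fx V E) := by ring
      _ ≤ (Nat.card (ct E Z) * Nat.card Z) * (Nat.card (fx Z E) * Nat.card D) := Nat.mul_le_mul hK d3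
      _ ≤ ((Nat.card (ct E V) * Nat.card B) * Nat.card Z) * (Nat.card (fx Z E) * Nat.card D) :=
          Nat.mul_le_mul_right _ (Nat.mul_le_mul_right _ d2)
      _ = (Nat.card (ct E V) * Nat.card Z * Nat.card (fx Z E)) * (Nat.card B * Nat.card D) := by ring
      _ ≤ (Nat.card (ct E V) * Nat.card Z * Nat.card (fx Z E)) * Nat.card (fx Z E) := Nat.mul_le_mul_left _ d1
      _ = Nat.card (fx Z E) * (Nat.card (ct E V) * Nat.card Z * Nat.card (fx Z E)) := by ring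
  calc Nat.card E * Nat.card Z * Nat.card (fx V E)
      = (Nat.card E * Nat.card (fx V E)) * Nat.card Z := by ring
    _ ≤ (Nat.card (ct E V) * Nat.card Z * Nat.card (fx Z E)) * Nat.card Z := Nat.mul_le_mul_right _ k1
    _ = (Nat.card (ct E V) * Nat.card (fx Z E)) * (Nat.card Z * Nat.card Z) := by ring
    _ ≤ Nat.card (ct E V) * Nat.card (fx Z E) * Nat.card V := Nat.mul_le_mul_left _ c5

end Cfsg.Agent.Omega.OM.YThm

end

section


/-!
# THEOREM Y, piece D3: the field `YS0.odd` from the coordinates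

`Co.odd` : an odd element of the stabiliser of `Z` which stabilises the component `Z i` and fixes the `S`-fixed vectors of
`Z` (and acts semilinearly) centralises `Z i`.
-/

set_option autoImplicit false

namespace Cfsg.Agent.Omega.OM.YThm

open Subgroup Cfsg.Agent.ZN Cfsg.Agent.ZN.ChoiceBase Cfsg.Agent.ZN.ChoiceSit
open scoped Pointwise

namespace Odd3

/-- Artin: a field automorphism of odd order which fixes the fixed field of a finite 2-group is trivial. -/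
theorem artin {F : Type*} [Field F] (Γ : Subgroup (RingAut F)) [Finite Γ] (hΓ : IsPGroup 2 Γ) (σ : RingAut F)
    (hσ : ∀ c : F, (∀ τ ∈ Γ, τ c = c) → σ c = c) {n : ℕ} (hn : Odd n) (hσn : σ ^ n = 1) : σ = 1 := by
  have hmem : σ ∈ Γ := by
    let σ' : F ≃ₐ[FixedPoints.subfield Γ F] F :=
      { σ with
        commutes' := fun c => by
          show σ (c : F) = (c : F)
          exact hσ _ (fun τ hτ => c.2 ⟨τ, hτ⟩) }
    obtain ⟨γ, hγ⟩ := FixedPoints.toAlgAut_surjective Γ F σ'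
    have : (γ : RingAut F) = σ := by
      ext x
      have := congrArg (fun f : F ≃ₐ[FixedPoints.subfield Γ F] F => f x) hγ
      exact this
    rw [← this]
    exact γ.2
  obtain ⟨m, hm⟩ := hΓ ⟨σ, hmem⟩
  have hm' : σ ^ 2 ^ m = 1 := by
    have := congrArg Subtype.val hm
    simpa using this
  have h1 : orderOf σ ∣ n := orderOf_dvd_of_pow_eq_one hσn
  have h2 : orderOf σ ∣ 2 ^ m := orderOf_dvd_of_pow_eq_one hm'
  have hc : Nat.Coprime n (2 ^ m) := Nat.Coprime.pow_right _ (Nat.coprime_two_right.2 hn)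
  have h3 : orderOf σ = 1 := Nat.eq_one_of_dvd_coprimes hc h1 h2
  exact orderOf_eq_one_iff.1 h3

variable {H : Type*} [Group H] {M : Type*} [AddCommGroup M] [DistribMulAction H M] {F : Type} [Field F]
  {S : Subgroup H} {V Z : AddSubgroup M} {k : ℕ} {e : M → Fin k → Fin 2 → F}

/-- `s` maps the component `i` of `Z` to the component `j` by `τ`. -/
def Mp (Z : AddSubgroup M) (e : M → Fin k → Fin 2 → F) (s : H) (i j : Fin k) (τ : RingAut F) : Prop :=
  ∀ z ∈ Z, e (s • z) j 0 = τ (e z i 0)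

theorem SZ (h : Co F S V Z k e) {s : H} (hs : s ∈ S) {z : M} (hz : z ∈ Z) : s • z ∈ Z := by
  have hzV := h.ZV hz
  obtain ⟨π, σ, h1, _⟩ := h.act s hs
  rw [h.memZ _ (h.SV s hs z hzV)]
  intro j
  have := h1 z hzV (π.symm j)
  rw [Equiv.apply_symm_apply] at this
  rw [this, (h.memZ z hzV).1 hz, map_zero]

theorem exZ (h : Co F S V Z k e) (x : Fin k → F) : ∃ z ∈ Z, ∀ i, e z i 0 = x i := by
  obtain ⟨v, hv, hev⟩ := h.surj (fun i => ![x i, 0])
  refine ⟨v, (h.memZ v hv).2 fun i => by rw [hev]; rfl, fun i => by rw [hev]; rfl⟩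

theorem sub (h : Co F S V Z k e) {v w : M} (hv : v ∈ V) (hw : w ∈ V) : e (v - w) = e v - e w := by
  have := h.add (v - w) (V.sub_mem hv hw) w hw
  rw [sub_add_cancel] at this
  rw [this, add_sub_cancel_right]

theorem extZ (h : Co F S V Z k e) {z w : M} (hz : z ∈ Z) (hw : w ∈ Z) (he : ∀ i, e z i 0 = e w i 0) : z = w := by
  have hzV := h.ZV hz
  have hwV := h.ZV hw
  rw [← sub_eq_zero]
  apply h.inj _ (V.sub_mem hzV hwV)
  rw [sub h hzV hwV]
  funext i j
  show e z i j - e w i j = 0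
  fin_cases j
  · show e z i 0 - e w i 0 = 0
    rw [he i, sub_self]
  · show e z i 1 - e w i 1 = 0
    rw [(h.memZ z hzV).1 hz i, (h.memZ w hwV).1 hw i, sub_self]

theorem Mp.one (i : Fin k) : Mp Z e (1 : H) i i 1 := fun z _ => by rw [one_smul]; rfl

theorem Mp.mul (h : Co F S V Z k e) {s t : H} (ht : t ∈ S) {i j l : Fin k} {τ τ' : RingAut F} (h1 : Mp Z e s j l τ')
    (h2 : Mp Z e t i j τ) : Mp Z e (s * t) i l (τ' * τ) := fun z hz => by
  rw [mul_smul, h1 _ (SZ h ht hz), h2 z hz]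
  rfl

theorem Mp.inv (h : Co F S V Z k e) {s : H} (hs : s ∈ S) {i j : Fin k} {τ : RingAut F} (h1 : Mp Z e s i j τ) :
    Mp Z e s⁻¹ j i τ⁻¹ := fun z hz => by
  have := h1 _ (SZ h (S.inv_mem hs) hz)
  rw [smul_inv_smul] at this
  rw [this]
  exact (τ.symm_apply_apply _).symm

theorem exMp (h : Co F S V Z k e) {s : H} (hs : s ∈ S) :
    ∃ (π : Equiv.Perm (Fin k)) (σ : Fin k → RingAut F), ∀ i, Mp Z e s i (π i) (σ i) := by
  obtain ⟨π, σ, _, h2⟩ := h.act s hs
  exact ⟨π, σ, fun i z hz => h2 z hz i⟩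

theorem Mp.uniq (h : Co F S V Z k e) {s : H} {i j : Fin k} {τ τ' : RingAut F} (h1 : Mp Z e s i j τ)
    (h2 : Mp Z e s i j τ') : τ = τ' := by
  ext x
  obtain ⟨z, hz, hez⟩ := exZ h (fun _ => x)
  rw [← hez i, ← h1 z hz, ← h2 z hz]

/-- the image of the stabiliser of the index `i` in `Aut F` -/
def Gam (h : Co F S V Z k e) (i : Fin k) : Subgroup (RingAut F) where
  carrier := {τ | ∃ s ∈ S, Mp Z e s i i τ}
  one_mem' := ⟨1, S.one_mem, Mp.one i⟩
  mul_mem' := by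
    rintro a b ⟨s, hs, h1⟩ ⟨t, ht, h2⟩
    exact ⟨s * t, S.mul_mem hs ht, Mp.mul h ht h1 h2⟩
  inv_mem' := by
    rintro a ⟨s, hs, h1⟩
    exact ⟨s⁻¹, S.inv_mem hs, Mp.inv h hs h1⟩

theorem Mp.pow (h : Co F S V Z k e) {s : H} (hs : s ∈ S) {i : Fin k} {τ : RingAut F} (h1 : Mp Z e s i i τ) (n : ℕ) :
    Mp Z e (s ^ n) i i (τ ^ n) := by
  induction n with
  | zero => rw [pow_zero, pow_zero]; exact Mp.one i
  | succ n ih => rw [pow_succ, pow_succ]; exact Mp.mul h hs ih h1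

theorem gam2 (h : Co F S V Z k e) (hS : IsPGroup 2 S) (i : Fin k) : IsPGroup 2 (Gam h i) := by
  rintro ⟨τ, s, hs, h1⟩
  obtain ⟨m, hm⟩ := hS ⟨s, hs⟩
  have hm' : s ^ 2 ^ m = 1 := by simpa using congrArg Subtype.val hm
  refine ⟨m, Subtype.ext ?_⟩
  show τ ^ 2 ^ m = 1
  have := Mp.pow h hs h1 (2 ^ m)
  rw [hm'] at this
  exact Mp.uniq h this (Mp.one i)

/-- a fixed vector of `S` with a given coordinate -/
theorem exists_fixed (h : Co F S V Z k e) (i : Fin k) {c : F} (hc : ∀ τ ∈ Gam h i, τ c = c) :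
    ∃ z ∈ Z, (∀ s ∈ S, s • z = z) ∧ e z i 0 = c := by
  classical
  set x : Fin k → F := fun j =>
    if hj : ∃ τ : RingAut F, ∃ s ∈ S, Mp Z e s i j τ then (Classical.choose hj) c else 0 with hx
  have key : ∀ s ∈ S, ∀ j τ, Mp Z e s i j τ → x j = τ c := by
    intro s hs j τ hsj
    have hj : ∃ τ : RingAut F, ∃ s ∈ S, Mp Z e s i j τ := ⟨τ, s, hs, hsj⟩
    have h1 : x j = (Classical.choose hj) c := by
      rw [hx]
      exact dif_pos hj
    rw [h1]
    obtain ⟨t, ht, htj⟩ := Classical.choose_spec hj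
    have h2 := hc _ ⟨s⁻¹ * t, S.mul_mem (S.inv_mem hs) ht, Mp.mul h ht (Mp.inv h hs hsj) htj⟩
    have h3 : τ ((τ⁻¹ * Classical.choose hj) c) = τ c := by rw [h2]
    rw [← h3]
    exact (τ.apply_symm_apply _).symm
  have key0 : ∀ j, (¬ ∃ τ : RingAut F, ∃ s ∈ S, Mp Z e s i j τ) → x j = 0 := by
    intro j hj
    rw [hx]
    exact dif_neg hj
  obtain ⟨z, hz, hez⟩ := exZ h x
  refine ⟨z, hz, ?_, ?_⟩
  · intro s hs
    apply extZ h (SZ h hs hz) hz
    obtain ⟨π, σ, hπ⟩ := exMp h hs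
    intro j'
    obtain ⟨j, rfl⟩ := π.surjective j'
    rw [hπ j z hz, hez, hez]
    by_cases hj : ∃ τ : RingAut F, ∃ s ∈ S, Mp Z e s i j τ
    · obtain ⟨τ, t, ht, htj⟩ := hj
      rw [key t ht j τ htj, key (s * t) (S.mul_mem hs ht) (π j) (σ j * τ) (Mp.mul h ht (hπ j) htj)]
      rfl
    · rw [key0 j hj, key0 (π j), map_zero]
      rintro ⟨τ, t, ht, htj⟩
      exact hj ⟨(σ j)⁻¹ * τ, s⁻¹ * t, S.mul_mem (S.inv_mem hs) ht, Mp.mul h ht (Mp.inv h hs (hπ j)) htj⟩
  · rw [hez, key 1 S.one_mem i 1 (Mp.one i)]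
    rfl

end Odd3

open Odd3 in
/-- The field `YS0.odd`. -/
theorem Co.odd {H : Type*} [Group H] {M : Type*} [AddCommGroup M] [DistribMulAction H M] {F : Type} [Field F]
    [Finite F] {S : Subgroup H} {V Z : AddSubgroup M} {k : ℕ} {e : M → Fin k → Fin 2 → F}
    (h : Co F S V Z k e) (hS : IsPGroup 2 S) {Zi : Fin k → AddSubgroup M}
    (hZi : ∀ i z, z ∈ Zi i ↔ z ∈ Z ∧ ∀ j, j ≠ i → e z j 0 = 0)
    (hsem : ∀ g : H, g • Z = Z → ∃ (π : Equiv.Perm (Fin k)) (a : Fin k → F) (σ : Fin k → F ≃+* F),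
      ∀ z ∈ Z, ∀ i, e (g • z) (π i) 0 = a i * σ i (e z i 0))
    (hfix : ∀ g : H, g • Z = Z → ∀ z ∈ Z, (∀ s ∈ S, s • z = z) → g • z = z) :
    ∀ g : H, g • Z = Z → Odd (orderOf g) → ∀ i, g • Zi i = Zi i → ∀ z ∈ Zi i, g • z = z := by
  classical
  intro g hgZ hodd i hgi
  obtain ⟨π, a, σ, hπ⟩ := hsem g hgZ
  have hgm : ∀ z ∈ Z, g • z ∈ Z := fun z hz => by
    rw [← hgZ]
    exact AddSubgroup.smul_mem_pointwise_smul _ _ _ hz
  have hgmi : ∀ z ∈ Zi i, g • z ∈ Zi i := fun z hz => by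
    rw [← hgi]
    exact AddSubgroup.smul_mem_pointwise_smul _ _ _ hz
  -- `π i = i`
  have hπi : π i = i := by
    obtain ⟨z, hz, hez⟩ := exZ h (fun j => if j = i then (1 : F) else 0)
    have hzi : z ∈ Zi i := (hZi i z).2 ⟨hz, fun j hj => by rw [hez, if_neg hj]⟩
    by_contra hne
    have hgz := (hZi i _).1 (hgmi z hzi)
    have h0 : g • z = 0 := by
      apply extZ h (hgm z hz) Z.zero_mem
      have e0 : e 0 = 0 := by
        have := sub h (V.zero_mem) (V.zero_mem)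
        simpa using this
      intro j'
      rw [e0]
      obtain ⟨j, rfl⟩ := π.surjective j'
      show e (g • z) (π j) 0 = 0
      by_cases hj : j = i
      · subst hj
        exact hgz.2 _ hne
      · rw [hπ z hz j, hez, if_neg hj, map_zero, mul_zero]
    have hz0 : z = 0 := by
      have := congrArg (fun y => g⁻¹ • y) h0
      simpa using this
    have e0 : e 0 = 0 := by
      have := sub h (V.zero_mem) (V.zero_mem)
      simpa using this
    have h1 := hez i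
    rw [hz0, e0, if_pos rfl] at h1
    exact zero_ne_one h1
  have hfin : Finite (RingAut F) := Finite.of_injective (fun f : F ≃+* F => (f : F → F)) DFunLike.coe_injective
  have hA : ∀ c : F, (∀ τ ∈ Gam h i, τ c = c) → a i * σ i c = c := by
    intro c hc
    obtain ⟨z, hz, hzS, hzc⟩ := exists_fixed h i hc
    have h1 := hπ z hz i
    rw [hfix g hgZ z hz hzS, hπi, hzc] at h1
    exact h1.symm
  have ha : a i = 1 := by
    have := hA 1 (fun τ _ => map_one τ)
    rwa [map_one, mul_one] at this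
  have hmp : ∀ z ∈ Z, e (g • z) i 0 = σ i (e z i 0) := by
    intro z hz
    have h1 := hπ z hz i
    rwa [hπi, ha, one_mul] at h1
  have hpow : ∀ n : ℕ, ∀ z ∈ Z, g ^ n • z ∈ Z ∧ e (g ^ n • z) i 0 = ((σ i : RingAut F) ^ n) (e z i 0) := by
    intro n
    induction n with
    | zero =>
      intro z hz
      rw [pow_zero, pow_zero, one_smul]
      exact ⟨hz, rfl⟩
    | succ n ih =>
      intro z hz
      rw [pow_succ, pow_succ, mul_smul]
      obtain ⟨h1, h2⟩ := ih (g • z) (hgm z hz)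
      refine ⟨h1, ?_⟩
      rw [h2, hmp z hz]
      rfl
  have hσn : (σ i : RingAut F) ^ orderOf g = 1 := by
    ext x
    obtain ⟨z, hz, hez⟩ := exZ h (fun _ => x)
    have := (hpow (orderOf g) z hz).2
    rw [pow_orderOf_eq_one, one_smul, hez] at this
    exact this.symm
  have hσ : (σ i : RingAut F) = 1 := by
    refine artin (Gam h i) (gam2 h hS i) (σ i) (fun c hc => ?_) hodd hσn
    have := hA c hc
    rwa [ha, one_mul] at this
  intro z hz
  obtain ⟨hzZ, hz0⟩ := (hZi i z).1 hz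
  obtain ⟨_, hgz0⟩ := (hZi i _).1 (hgmi z hz)
  apply extZ h (hgm z hzZ) hzZ
  intro j
  by_cases hj : j = i
  · subst hj
    rw [hmp z hzZ, hσ]
    rfl
  · rw [hgz0 j hj, hz0 j hj]

end Cfsg.Agent.Omega.OM.YThm

end

section


/-!
# THEOREM Y, part B1 (helper801): steps (b1)-(b6) of TCARD #19947

Over `d : LD 𝒜 S Z A J₀ L Z₁` (only `quad`, `cen`, `cenJ`, `gen`, `JN`, `ne` are used):

* `UU L Z₁` : the sum of all points `l • Z₁`, `l ∈ L`; `fx (UU L Z₁) L = C_U(L)`;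
* `LD.gen2`, `LD.fix2`, `LD.fixL` (b1); `LD.split` (b2); `LD.ker` (b3); `LD.fix_all`, `LD.comm_zero` (b4);
* **`LD.ti`** (b5); `LD.kA_mem` (b6), `LD.not_le_kA`.
-/

set_option autoImplicit false

namespace Cfsg.Agent.Omega.OM.YThm

open Subgroup Cfsg.Agent.ZN Cfsg.Agent.ZN.ChoiceBase Cfsg.Agent.ZN.ChoiceSit
open scoped Pointwise

variable {H : Type*} [Group H] {M : Type*} [AddCommGroup M] [DistribMulAction H M]

/-- the sum `U` of all points `l • Z₁`, `l ∈ L` -/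
def UU (L : Subgroup H) (Z₁ : AddSubgroup M) : AddSubgroup M := ⨆ l : L, (l : H) • Z₁

theorem smul_mem_UU {L : Subgroup H} {Z₁ : AddSubgroup M} {l : H} (hl : l ∈ L) {z : M} (hz : z ∈ Z₁) :
    l • z ∈ UU L Z₁ :=
  (le_iSup (fun l : L => (l : H) • Z₁) ⟨l, hl⟩) (AddSubgroup.smul_mem_pointwise_smul z l Z₁ hz)

theorem le_UU {L : Subgroup H} {Z₁ : AddSubgroup M} : Z₁ ≤ UU L Z₁ := fun z hz => by
  have := smul_mem_UU L.one_mem hz
  rwa [one_smul] at this

theorem smul_le_UU {L : Subgroup H} {Z₁ : AddSubgroup M} {l : H} (hl : l ∈ L) : l • Z₁ ≤ UU L Z₁ :=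
  le_iSup (fun l : L => (l : H) • Z₁) ⟨l, hl⟩

theorem UU_induction {L : Subgroup H} {Z₁ : AddSubgroup M} {p : M → Prop} (h1 : ∀ l ∈ L, ∀ z ∈ Z₁, p (l • z))
    (h0 : p 0) (ha : ∀ x y, p x → p y → p (x + y)) {u : M} (hu : u ∈ UU L Z₁) : p u := by
  refine AddSubgroup.iSup_induction (C := p) (fun l : L => (l : H) • Z₁) hu ?_ h0 ha
  rintro ⟨l, hl⟩ x hx
  obtain ⟨z, hz, rfl⟩ := (AddSubgroup.mem_smul_pointwise_iff_exists x l Z₁).1 hx
  exact h1 l hl z hz

theorem smul_UU {L : Subgroup H} {Z₁ : AddSubgroup M} {l : H} (hl : l ∈ L) {u : M} (hu : u ∈ UU L Z₁) :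
    l • u ∈ UU L Z₁ := by
  refine UU_induction (p := fun u => l • u ∈ UU L Z₁) ?_ ?_ ?_ hu
  · intro m hm z hz
    rw [← mul_smul]
    exact smul_mem_UU (L.mul_mem hl hm) hz
  · rw [smul_zero]
    exact zero_mem _
  · intro x y hx hy
    rw [smul_add]
    exact add_mem hx hy

theorem cj_le_stab {A : Subgroup H} {x : H} {u : M} (h : ∀ b ∈ A, (x * b * x⁻¹) • u = u) :
    cj x A ≤ MulAction.stabilizer H u := by
  intro y hy
  rw [mem_cj] at hy
  have := h _ hy
  rw [MulAction.mem_stabilizer_iff]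
  have e : x * (x⁻¹ * y * x) * x⁻¹ = y := by group
  rwa [e] at this

variable {𝒜 : Set (Subgroup H)} {S : Subgroup H} {Z : AddSubgroup M} {A J₀ L : Subgroup H} {Z₁ : AddSubgroup M}

namespace LD

/-! ### the action on `U` -/

theorem quadU (d : LD 𝒜 S Z A J₀ L Z₁) {a b : H} (ha : a ∈ A) (hb : b ∈ A) {u : M} (hu : u ∈ UU L Z₁) :
    a • (b • u - u) = b • u - u := by
  refine UU_induction (p := fun u => a • (b • u - u) = b • u - u) ?_ ?_ ?_ hu
  · exact fun l hl z hz => d.quad a ha b hb l hl z hz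
  · simp
  · intro x y hx hy
    rw [smul_add, add_sub_add_comm, smul_add, hx, hy]

theorem quadU' (d : LD 𝒜 S Z A J₀ L Z₁) {x : H} (hx : x ∈ L) {a b : H} (ha : a ∈ A) (hb : b ∈ A) {u : M}
    (hu : u ∈ UU L Z₁) :
    (x * a * x⁻¹) • ((x * b * x⁻¹) • u - u) = (x * b * x⁻¹) • u - u := by
  have h1 := d.quadU ha hb (smul_UU (L.inv_mem hx) hu)
  have h2 : (x * b * x⁻¹) • u - u = x • (b • x⁻¹ • u - x⁻¹ • u) := by
    rw [smul_sub, smul_inv_smul, mul_smul, mul_smul]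
  rw [h2, mul_smul, mul_smul, inv_smul_smul, h1]

theorem cenJU (d : LD 𝒜 S Z A J₀ L Z₁) {j : H} (hj : j ∈ J₀) {u : M} (hu : u ∈ UU L Z₁) : j • u = u := by
  refine UU_induction (p := fun u => j • u = u) ?_ ?_ ?_ hu
  · exact fun l hl z hz => d.cenJ j hj l hl z hz
  · exact smul_zero j
  · intro x y hx hy
    rw [smul_add, hx, hy]

theorem J_le_stab (d : LD 𝒜 S Z A J₀ L Z₁) {u : M} (hu : u ∈ UU L Z₁) : J₀ ≤ MulAction.stabilizer H u :=
  fun _ hj => MulAction.mem_stabilizer_iff.2 (d.cenJU hj hu)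

/-! ### generation -/

theorem gen1 (d : LD 𝒜 S Z A J₀ L Z₁) {x : H} (hx : x ∈ L) (hx' : x • Z₁ ≠ Z₁) {K : Subgroup H} (h1 : A ≤ K)
    (h2 : cj x A ≤ K) (h3 : J₀ ≤ K) : L ≤ K := by
  rw [← d.gen x hx hx']
  exact sup_le (sup_le h1 h2) h3

theorem gen2 (d : LD 𝒜 S Z A J₀ L Z₁) {a x : H} (ha : a ∈ L) (hx : x ∈ L) (h : a • x • Z₁ ≠ x • Z₁)
    {K : Subgroup H} (h1 : cj x A ≤ K) (h2 : cj (a * x) A ≤ K) (h3 : J₀ ≤ K) : L ≤ K := by
  have hy : x⁻¹ * a * x ∈ L := L.mul_mem (L.mul_mem (L.inv_mem hx) ha) hx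
  have hy' : (x⁻¹ * a * x) • Z₁ ≠ Z₁ := by
    intro e
    apply h
    rw [mul_smul, mul_smul, inv_smul_eq_iff] at e
    exact e
  have h4 : L ≤ cj x⁻¹ K := by
    refine d.gen1 hy hy' (cj_le_iff.1 h1) ?_ ?_
    · rw [← cj_le_iff, cj_cj]
      have e : x * (x⁻¹ * a * x) = a * x := by group
      rwa [e]
    · rw [← cj_le_iff, d.JN x hx]
      exact h3
  intro l hl
  have h5 := h4 (L.mul_mem (L.mul_mem (L.inv_mem hx) hl) hx)
  rw [mem_cj] at h5
  have e : x⁻¹⁻¹ * (x⁻¹ * l * x) * x⁻¹ = l := by group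
  rwa [e] at h5

/-- `u` fixed by `A`, `xAx⁻¹` (and `J₀`) is fixed by `L` -/
theorem fix1 (d : LD 𝒜 S Z A J₀ L Z₁) {x : H} (hx : x ∈ L) (hx' : x • Z₁ ≠ Z₁) {u : M} (hu : u ∈ UU L Z₁)
    (h1 : ∀ b ∈ A, b • u = u) (h2 : ∀ b ∈ A, (x * b * x⁻¹) • u = u) : ∀ l ∈ L, l • u = u := fun _ hl =>
  MulAction.mem_stabilizer_iff.1 (d.gen1 hx hx' (fun b hb => MulAction.mem_stabilizer_iff.2 (h1 b hb))
    (cj_le_stab h2) (d.J_le_stab hu) hl)

/-- `u` fixed by `xAx⁻¹` and by an element `a` which moves the point `x • Z₁` is fixed by `L` -/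
theorem fix2 (d : LD 𝒜 S Z A J₀ L Z₁) {a x : H} (ha : a ∈ L) (hx : x ∈ L) (h : a • x • Z₁ ≠ x • Z₁) {u : M}
    (hu : u ∈ UU L Z₁) (h1 : a • u = u) (h2 : ∀ b ∈ A, (x * b * x⁻¹) • u = u) : ∀ l ∈ L, l • u = u := by
  have h3 : cj (a * x) A ≤ MulAction.stabilizer H u := by
    refine cj_le_stab fun b hb => ?_
    have e : a * x * b * (a * x)⁻¹ = a * (x * b * x⁻¹) * a⁻¹ := by group
    have h4 : a⁻¹ • u = u := by rw [inv_smul_eq_iff, h1]
    rw [e, mul_smul, mul_smul, h4, h2 b hb, h1]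
  exact fun l hl => MulAction.mem_stabilizer_iff.1 (d.gen2 ha hx h (cj_le_stab h2) h3 (d.J_le_stab hu) hl)

theorem cen_conj (d : LD 𝒜 S Z A J₀ L Z₁) {x : H} {z : M} (hz : z ∈ Z₁) :
    ∀ b ∈ A, (x * b * x⁻¹) • x • z = x • z := fun b hb => by
  rw [mul_smul, inv_smul_smul, mul_smul, d.cen b hb z hz]

/-- (b1) -/
theorem fixL (d : LD 𝒜 S Z A J₀ L Z₁) {a x : H} (ha : a ∈ A) (hx : x ∈ L) (h : a • x • Z₁ ≠ x • Z₁) {z : M}
    (hz : z ∈ Z₁) (hf : a • x • z = x • z) : ∀ l ∈ L, l • x • z = x • z :=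
  d.fix2 (d.AL ha) hx h (smul_mem_UU hx hz) hf (d.cen_conj hz)

/-- (b2) -/
theorem split (d : LD 𝒜 S Z A J₀ L Z₁) {x : H} (hx : x ∈ L) (hx' : x • Z₁ ≠ Z₁) {u : M} (hu : u ∈ UU L Z₁) :
    ∃ v ∈ UU L Z₁, ∃ w ∈ UU L Z₁, u = v + w ∧ (∀ b ∈ A, b • v = v) ∧ ∀ b ∈ A, (x * b * x⁻¹) • w = w := by
  let W : AddSubgroup M := fx (UU L Z₁) A ⊔ fx (UU L Z₁) (cj x A)
  have hWU : W ≤ UU L Z₁ := sup_le (fun y hy => hy.1) fun y hy => hy.1
  -- the stabiliser of `W` in the monoid sense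
  let K : Subgroup H :=
    { carrier := {l | (∀ w ∈ W, l • w ∈ W) ∧ ∀ w ∈ W, l⁻¹ • w ∈ W}
      one_mem' := ⟨fun w hw => by rwa [one_smul], fun w hw => by rwa [inv_one, one_smul]⟩
      mul_mem' := fun {a b} ha hb => ⟨fun w hw => by rw [mul_smul]; exact ha.1 _ (hb.1 w hw), fun w hw => by
        rw [mul_inv_rev, mul_smul]; exact hb.2 _ (ha.2 w hw)⟩
      inv_mem' := fun {a} ha => ⟨ha.2, fun w hw => by rw [inv_inv]; exact ha.1 w hw⟩ }
  have key : ∀ (l : H), (∀ w ∈ W, l • w - w ∈ W) → ∀ w ∈ W, l • w ∈ W := fun l h w hw => by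
    have := add_mem (h w hw) hw
    rwa [sub_add_cancel] at this
  have hA : ∀ b ∈ A, ∀ w ∈ W, b • w - w ∈ W := fun b hb w hw =>
    (le_sup_left : fx (UU L Z₁) A ≤ W)
      ⟨sub_mem (smul_UU (d.AL hb) (hWU hw)) (hWU hw), fun a ha => d.quadU ha hb (hWU hw)⟩
  have hx2 : ∀ b ∈ A, x * b * x⁻¹ ∈ L := fun b hb => L.mul_mem (L.mul_mem hx (d.AL hb)) (L.inv_mem hx)
  have hA' : ∀ b ∈ A, ∀ w ∈ W, (x * b * x⁻¹) • w - w ∈ W := fun b hb w hw =>
    (le_sup_right : fx (UU L Z₁) (cj x A) ≤ W)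
      ⟨sub_mem (smul_UU (hx2 b hb) (hWU hw)) (hWU hw), fun a ha => by
        rw [mem_cj] at ha
        have h1 := d.quadU' hx ha hb (hWU hw)
        have e : x * (x⁻¹ * a * x) * x⁻¹ = a := by group
        rwa [e] at h1⟩
  have hLK : L ≤ K := by
    refine d.gen1 hx hx' ?_ ?_ ?_
    · exact fun b hb => ⟨key b (hA b hb), key b⁻¹ (hA b⁻¹ (A.inv_mem hb))⟩
    · intro y hy
      rw [mem_cj] at hy
      have e : x * (x⁻¹ * y * x) * x⁻¹ = y := by group
      have e' : x * (x⁻¹ * y * x)⁻¹ * x⁻¹ = y⁻¹ := by group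
      have h1 := hA' _ hy
      have h2 := hA' _ (A.inv_mem hy)
      rw [e] at h1
      rw [e'] at h2
      exact ⟨key y h1, key y⁻¹ h2⟩
    · exact fun j hj => ⟨fun w hw => by rwa [d.cenJU hj (hWU hw)], fun w hw => by
        rwa [d.cenJU (J₀.inv_mem hj) (hWU hw)]⟩
  have hZA : Z₁ ≤ fx (UU L Z₁) A := fun z hz => ⟨le_UU hz, fun a ha => d.cen a ha z hz⟩
  have hZW : Z₁ ≤ W := hZA.trans le_sup_left
  have hUW : u ∈ W := by
    refine UU_induction (p := fun u => u ∈ W) ?_ W.zero_mem (fun _ _ h1 h2 => W.add_mem h1 h2) hu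
    exact fun l hl z hz => (hLK hl).1 z (hZW hz)
  obtain ⟨v, hv, w, hw, e⟩ := AddSubgroup.mem_sup.1 hUW
  refine ⟨v, hv.1, w, hw.1, e.symm, hv.2, fun b hb => hw.2 _ ?_⟩
  rw [mem_cj]
  have e : x⁻¹ * (x * b * x⁻¹) * x = b := by group
  rwa [e]

/-- the elements `l ∈ L` with `[u, l] ∈ C_U(L)` -/
def dd (L : Subgroup H) (Z₁ : AddSubgroup M) (u : M) : Subgroup H where
  carrier := {l | l ∈ L ∧ l • u - u ∈ fx (UU L Z₁) L}
  one_mem' := ⟨L.one_mem, by rw [one_smul, sub_self]; exact zero_mem _⟩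
  mul_mem' := fun {l m} hl hm => ⟨L.mul_mem hl.1 hm.1, by
    have e : (l * m) • u - u = l • (m • u - u) + (l • u - u) := by
      rw [smul_sub, mul_smul]
      abel
    rw [e, hm.2.2 l hl.1]
    exact add_mem hm.2 hl.2⟩
  inv_mem' := fun {l} hl => ⟨L.inv_mem hl.1, by
    have e : l⁻¹ • u - u = -(l⁻¹ • (l • u - u)) := by
      rw [smul_sub, inv_smul_smul]
      abel
    rw [e, hl.2.2 _ (L.inv_mem hl.1)]
    exact neg_mem hl.2⟩

/-- (b3) `[u, L] ≤ C_U(L)` and `u` fixed by one conjugate of `A` (and by `J₀`) ==> `u` fixed by `L` -/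
theorem ker (d : LD 𝒜 S Z A J₀ L Z₁) {u : M} (hu : u ∈ UU L Z₁) (h : L ≤ dd L Z₁ u) {x : H} (hx : x ∈ L)
    (h2 : ∀ b ∈ A, (x * b * x⁻¹) • u = u) : ∀ l ∈ L, l • u = u := by
  -- conjugation invariance of the homomorphism `l ↦ l • u - u`
  have hom : ∀ l ∈ L, ∀ m ∈ L, (l * m) • u - u = (m • u - u) + (l • u - u) := by
    intro l hl m hm
    have e : (l * m) • u - u = l • (m • u - u) + (l • u - u) := by
      rw [smul_sub, mul_smul]
      abel
    rw [e, (h hm).2.2 l hl]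
  have inv : ∀ l ∈ L, l⁻¹ • u - u = -(l • u - u) := by
    intro l hl
    have := hom l⁻¹ (L.inv_mem hl) l hl
    rw [inv_mul_cancel, one_smul, sub_self] at this
    rw [eq_neg_iff_add_eq_zero, add_comm]
    exact this.symm
  have conj : ∀ g ∈ L, ∀ l ∈ L, (g * l * g⁻¹) • u - u = l • u - u := by
    intro g hg l hl
    rw [hom _ (L.mul_mem hg hl) _ (L.inv_mem hg), hom _ hg _ hl, inv g hg]
    abel
  have hb : ∀ b ∈ A, b • u = u := by
    intro b hb
    have h1 := conj x hx b (d.AL hb)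
    rw [h2 b hb, sub_self] at h1
    exact (sub_eq_zero.1 h1.symm)
  obtain ⟨g, hg, hg'⟩ := d.ne
  refine d.fix1 hg hg' hu hb fun b hb' => ?_
  have h1 := conj g hg b (d.AL hb')
  rw [hb b hb', sub_self] at h1
  exact sub_eq_zero.1 h1

theorem not_mem_kA {a : H} (ha : a ∈ A) (h : a ∉ kA A L Z₁) : ∃ g ∈ L, a • g • Z₁ ≠ g • Z₁ := by
  by_contra hc
  push Not at hc
  exact h ⟨ha, hc⟩

theorem smul_Z (d : LD 𝒜 S Z A J₀ L Z₁) {a : H} (ha : a ∈ A) : a • Z₁ = Z₁ := by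
  ext y
  rw [AddSubgroup.mem_pointwise_smul_iff_inv_smul_mem]
  constructor
  · intro hy
    have := d.cen a ha _ hy
    rw [smul_inv_smul] at this
    rwa [this]
  · intro hy
    rwa [d.cen _ (A.inv_mem ha) y hy]

theorem ne_of_moves (d : LD 𝒜 S Z A J₀ L Z₁) {a g : H} (ha : a ∈ A) (h : a • g • Z₁ ≠ g • Z₁) : g • Z₁ ≠ Z₁ := by
  intro e
  rw [e] at h
  exact h (d.smul_Z ha)

/-- (b4), first half: `C_U(a) = C_U(A)` for `a ∈ A - kA` -/
theorem fix_all (d : LD 𝒜 S Z A J₀ L Z₁) {a : H} (ha : a ∈ A) (hk : a ∉ kA A L Z₁) {u : M} (hu : u ∈ UU L Z₁)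
    (h : a • u = u) : ∀ b ∈ A, b • u = u := by
  obtain ⟨g, hg, hm⟩ := not_mem_kA ha hk
  obtain ⟨v, hv, w, hw, rfl, h1, h2⟩ := d.split hg (d.ne_of_moves ha hm) hu
  have h3 : a • w = w := by
    rw [smul_add, h1 a ha] at h
    exact add_left_cancel h
  have h4 := d.fix2 (d.AL ha) hg hm hw h3 h2
  intro b hb
  rw [smul_add, h1 b hb, h4 b (d.AL hb)]

/-- (b4), second half: `[v, a] ∈ C_U(L)` ==> `[v, a] = 0` -/
theorem comm_zero (d : LD 𝒜 S Z A J₀ L Z₁) {a : H} (ha : a ∈ A) (hk : a ∉ kA A L Z₁) {u : M} (hu : u ∈ UU L Z₁)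
    (h : ∀ l ∈ L, l • (a • u - u) = a • u - u) : a • u = u := by
  obtain ⟨g, hg, hm⟩ := not_mem_kA ha hk
  obtain ⟨v, hv, w, hw, rfl, h1, h2⟩ := d.split hg (d.ne_of_moves ha hm) hu
  have h3 : a • (v + w) - (v + w) = a • w - w := by
    rw [smul_add, h1 a ha]
    abel
  rw [h3] at h
  have haw : a ∈ dd L Z₁ w := ⟨d.AL ha, sub_mem (smul_UU (d.AL ha) hw) hw, h⟩
  have h0 : ∀ y ∈ L, y • w = w → y ∈ dd L Z₁ w := fun y hy e => ⟨hy, by
    rw [e, sub_self]
    exact zero_mem _⟩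
  have hgL : ∀ b ∈ A, g * b * g⁻¹ ∈ L := fun b hb => L.mul_mem (L.mul_mem hg (d.AL hb)) (L.inv_mem hg)
  have h5 : cj g A ≤ dd L Z₁ w := by
    intro y hy
    rw [mem_cj] at hy
    have e : g * (g⁻¹ * y * g) * g⁻¹ = y := by group
    have h6 := h0 _ (hgL _ hy) (h2 _ hy)
    rwa [e] at h6
  have h6 : cj (a * g) A ≤ dd L Z₁ w := by
    intro y hy
    rw [mem_cj] at hy
    have e : a * (g * ((a * g)⁻¹ * y * (a * g)) * g⁻¹) * a⁻¹ = y := by group
    have h7 := (dd L Z₁ w).mul_mem ((dd L Z₁ w).mul_mem haw (h0 _ (hgL _ hy) (h2 _ hy)))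
      ((dd L Z₁ w).inv_mem haw)
    rwa [e] at h7
  have h7 : J₀ ≤ dd L Z₁ w := fun j hj => h0 j (d.JL hj) (d.cenJU hj hw)
  have h8 := d.ker hw (d.gen2 (d.AL ha) hg hm h5 h6 h7) hg h2
  have h9 : a • w = w := h8 a (d.AL ha)
  rw [smul_add, h1 a ha, h9]

/-- if all vectors of a point `x • Z₁ ≠ Z₁` are fixed by `A`: contradiction -/
theorem not_fix (d : LD 𝒜 S Z A J₀ L Z₁) {x : H} (hx : x ∈ L) (hx' : x • Z₁ ≠ Z₁) :
    ∃ z ∈ Z₁, ∃ a ∈ A, a • x • z ≠ x • z := by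
  by_contra hc
  push Not at hc
  apply hx'
  have h1 : ∀ z ∈ Z₁, x • z = z := by
    intro z hz
    have h2 := d.fix1 hx hx' (smul_mem_UU hx hz) (hc z hz) (d.cen_conj hz) x⁻¹ (L.inv_mem hx)
    rw [inv_smul_smul] at h2
    exact h2.symm
  ext y
  rw [AddSubgroup.mem_smul_pointwise_iff_exists]
  constructor
  · rintro ⟨z, hz, rfl⟩
    rwa [h1 z hz]
  · exact fun hy => ⟨y, hy, h1 y hy⟩

/-- `w ∈ x • Z₁` fixed by `A` lies in `R = C_{Z₁}(L)` -/
theorem mem_R (d : LD 𝒜 S Z A J₀ L Z₁) {x : H} (hx : x ∈ L) (hx' : x • Z₁ ≠ Z₁) {w : M} (hw : w ∈ x • Z₁)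
    (h : ∀ a ∈ A, a • w = w) : w ∈ fx Z₁ L := by
  obtain ⟨z, hz, rfl⟩ := (AddSubgroup.mem_smul_pointwise_iff_exists w x Z₁).1 hw
  have h1 := d.fix1 hx hx' (smul_mem_UU hx hz) h (d.cen_conj hz)
  have h2 := h1 x⁻¹ (L.inv_mem hx)
  rw [inv_smul_smul] at h2
  rw [← h2] at h1 ⊢
  exact ⟨hz, h1⟩

/-- **(b5)** -/
theorem ti (d : LD 𝒜 S Z A J₀ L Z₁) {a x : H} (ha : a ∈ A) (hx : x ∈ L) (hx' : x • Z₁ ≠ Z₁)
    (h : a • x • Z₁ = x • Z₁) : a ∈ kA A L Z₁ := by
  by_contra hk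
  obtain ⟨z, hz, b, hb, hne⟩ := d.not_fix hx hx'
  apply hne
  have hv : x • z ∈ UU L Z₁ := smul_mem_UU hx hz
  refine d.fix_all ha hk hv ?_ b hb
  refine d.comm_zero ha hk hv ?_
  have h1 : a • x • z - x • z ∈ x • Z₁ := by
    refine sub_mem ?_ (AddSubgroup.smul_mem_pointwise_smul z x Z₁ hz)
    have h2 : a • x • z ∈ a • x • Z₁ :=
      AddSubgroup.smul_mem_pointwise_smul _ a _ (AddSubgroup.smul_mem_pointwise_smul z x Z₁ hz)
    rwa [h] at h2
  have h2 : a • x • z - x • z ∈ UU L Z₁ := sub_mem (smul_UU (d.AL ha) hv) hv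
  have h3 := d.fix_all ha hk h2 (d.quadU ha ha hv)
  exact (d.mem_R hx hx' h1 h3).2

/-- (b6) -/
theorem kA_mem (d : LD 𝒜 S Z A J₀ L Z₁) {b x : H} (hb : b ∈ kA A L Z₁) (hx : x ∈ L) {v : M} (hv : v ∈ x • Z₁) :
    b • v - v ∈ fx Z₁ L := by
  by_cases hx' : x • Z₁ = Z₁
  · rw [hx'] at hv
    rw [d.cen b hb.1 v hv, sub_self]
    exact zero_mem _
  · have h1 : b • v ∈ x • Z₁ := by
      have := AddSubgroup.smul_mem_pointwise_smul v b _ hv
      rwa [hb.2 x hx] at this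
    exact d.mem_R hx hx' (sub_mem h1 hv) fun a ha => d.quadU ha hb.1 (smul_le_UU hx hv)

/-- `A` moves a point -/
theorem not_le_kA (d : LD 𝒜 S Z A J₀ L Z₁) : ¬ A ≤ kA A L Z₁ := by
  intro hA
  obtain ⟨x, hx, hx'⟩ := d.ne
  let K : Subgroup H := MulAction.stabilizer H Z₁
  have h1 : L ≤ K := by
    refine d.gen1 hx hx' (fun a ha => MulAction.mem_stabilizer_iff.2 (d.smul_Z ha)) ?_ ?_
    · intro y hy
      rw [mem_cj] at hy
      rw [MulAction.mem_stabilizer_iff]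
      have h2 := (hA hy).2 x⁻¹ (L.inv_mem hx)
      rw [mul_smul, mul_smul, smul_inv_smul, smul_left_cancel_iff] at h2
      exact h2
    · intro j hj
      rw [MulAction.mem_stabilizer_iff]
      ext y
      rw [AddSubgroup.mem_pointwise_smul_iff_inv_smul_mem]
      constructor
      · intro hy
        have := d.cenJU hj (le_UU hy)
        rw [smul_inv_smul] at this
        rwa [this]
      · intro hy
        rwa [d.cenJU (J₀.inv_mem hj) (le_UU hy)]
  exact hx' (MulAction.mem_stabilizer_iff.1 (h1 hx))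

end LD

end Cfsg.Agent.Omega.OM.YThm

end

section


/-!
# THEOREM Y, part C (helper566): the end

* `EndC.core`, `EndC.end_pair` : general form with a second group `ZJ ≥ Z` and `|A : kA| ≤ α` (for the `(4F)` case);
* `LD.end_of` : from the minimal subgroup `L` with `|A| = 2 |kA|` (part B) we get a hyperplane `R` of `Z` and an
  element which centralises `R` and moves `Z`.
-/

set_option autoImplicit false

namespace Cfsg.Agent.Omega.OM.YThm.EndC

open Subgroup Cfsg.Agent.ZN Cfsg.Agent.ZN.ChoiceBase Cfsg.Agent.ZN.ChoiceSit Cfsg.Agent.Omega.OM.YThm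
open scoped Pointwise

section Card

variable {N : Type*} [AddCommGroup N] [Finite N]

omit [Finite N] in
theorem card_relIndex {X Y : AddSubgroup N} (h : X ≤ Y) : Nat.card X * X.relIndex Y = Nat.card Y := by
  have := AddSubgroup.relIndex_mul_relIndex ⊥ X Y bot_le h
  rwa [AddSubgroup.relIndex_bot_left, AddSubgroup.relIndex_bot_left] at this

/-- `|X| |C| ≤ |Y| |X ∩ C|` for `X, C ≤ Y` -/
theorem card_mul_le {X Y C : AddSubgroup N} (hX : X ≤ Y) (hC : C ≤ Y) :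
    Nat.card X * Nat.card C ≤ Nat.card Y * Nat.card (X ⊓ C : AddSubgroup N) := by
  have h1 := card_relIndex hC
  have h2 := card_relIndex (inf_le_left : X ⊓ C ≤ X)
  have h3 : (X ⊓ C).relIndex X = C.relIndex X := AddSubgroup.inf_relIndex_left X C
  have h4 : C.relIndex X ≤ C.relIndex Y := by
    refine AddSubgroup.relIndex_le_of_le_right hX ?_
    intro h0
    rw [h0, mul_zero] at h1
    exact Nat.card_pos.ne' h1.symm
  rw [h3] at h2
  rw [← h2, ← h1]
  calc Nat.card (X ⊓ C : AddSubgroup N) * C.relIndex X * Nat.card C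
      ≤ Nat.card (X ⊓ C : AddSubgroup N) * C.relIndex Y * Nat.card C :=
        Nat.mul_le_mul_right _ (Nat.mul_le_mul_left _ h4)
    _ = Nat.card C * C.relIndex Y * Nat.card (X ⊓ C : AddSubgroup N) := by ring

/-- a proper subgroup of index at most 2 has index 2 -/
theorem card_eq_two_mul {X Y : AddSubgroup N} (h : X ≤ Y) (hne : X ≠ Y) (h2 : Nat.card Y ≤ 2 * Nat.card X) :
    Nat.card Y = 2 * Nat.card X := by
  have h1 := card_relIndex h
  have h3 : 0 < Nat.card X := Nat.card_pos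
  have h4 : X.relIndex Y ≠ 1 := fun h5 => hne (le_antisymm h (AddSubgroup.relIndex_eq_one.1 h5))
  have h5 : X.relIndex Y ≠ 0 := by
    intro h0
    rw [h0, mul_zero] at h1
    exact Nat.card_pos.ne' h1.symm
  have h6 : X.relIndex Y ≤ 2 := by
    rw [← h1, mul_comm] at h2
    exact Nat.le_of_mul_le_mul_right h2 h3
  have h7 : X.relIndex Y = 2 := by omega
  rw [← h1, h7, mul_comm]

end Card

variable {H : Type*} [Group H] {M : Type*} [AddCommGroup M] [DistribMulAction H M]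

theorem mem_smul {g : H} {X : AddSubgroup M} {x : M} : x ∈ g • X ↔ g⁻¹ • x ∈ X :=
  AddSubgroup.mem_pointwise_smul_iff_inv_smul_mem

theorem smul_mem {g : H} {X : AddSubgroup M} {x : M} : g • x ∈ g • X ↔ x ∈ X :=
  AddSubgroup.smul_mem_pointwise_smul_iff

theorem card_smul (g : H) (X : AddSubgroup M) : Nat.card (g • X : AddSubgroup M) = Nat.card X := by
  refine (Nat.card_congr (Equiv.ofBijective (fun x : X => (⟨g • (x : M), smul_mem.2 x.2⟩ : (g • X : AddSubgroup M)))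
    ⟨?_, ?_⟩)).symm
  · intro x y h
    have h1 : g • (x : M) = g • (y : M) := congrArg Subtype.val h
    exact Subtype.ext (smul_left_cancel g h1)
  · intro y
    exact ⟨⟨g⁻¹ • (y : M), mem_smul.1 y.2⟩, Subtype.ext (smul_inv_smul g (y : M))⟩

theorem fx_le (X : AddSubgroup M) (A : Subgroup H) : fx X A ≤ X := fun _ hx => hx.1

theorem kA_le (A L : Subgroup H) (Z₁ : AddSubgroup M) : kA A L Z₁ ≤ A := fun _ ha => ha.1

/-- `C_{gX}(gE) = g C_X(E)` -/
theorem fx_smul (g : H) (X : AddSubgroup M) (E : Subgroup H) : fx (g • X) (cj g E) = g • fx X E := by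
  ext x
  rw [mem_fx, mem_smul, mem_smul, mem_fx]
  constructor
  · rintro ⟨h1, h2⟩
    refine ⟨h1, fun a ha => ?_⟩
    have h3 := h2 (g * a * g⁻¹) (mem_cj.2 (by
      have : g⁻¹ * (g * a * g⁻¹) * g = a := by group
      rw [this]; exact ha))
    rw [mul_smul, mul_smul] at h3
    exact smul_left_cancel g (by rw [h3, smul_inv_smul])
  · rintro ⟨h1, h2⟩
    refine ⟨h1, fun a ha => ?_⟩
    have h3 := h2 _ (mem_cj.1 ha)
    rw [mul_smul, mul_smul, smul_inv_smul] at h3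
    exact smul_left_cancel _ h3

/-- `C_{gE}(gX) = g C_E(X)` -/
theorem ct_cj (g : H) (X : AddSubgroup M) (E : Subgroup H) : ct (cj g E) (g • X) = cj g (ct E X) := by
  ext a
  rw [mem_ct, mem_cj, mem_cj, mem_ct]
  constructor
  · rintro ⟨h1, h2⟩
    refine ⟨h1, fun x hx => ?_⟩
    have h3 := h2 (g • x) (smul_mem.2 hx)
    rw [mul_smul, mul_smul, h3, inv_smul_smul]
  · rintro ⟨h1, h2⟩
    refine ⟨h1, fun x hx => ?_⟩
    have h3 := h2 _ (mem_smul.1 hx)
    rw [mul_smul, mul_smul, smul_inv_smul] at h3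
    exact smul_left_cancel _ h3

theorem El.mono {A B : Subgroup H} (h : El M A) (hB : B ≤ A) : El M B :=
  ⟨h.pg.to_le hB, fun a ha b hb => h.comm a (hB ha) b (hB hb), fun a ha => h.sq a (hB ha)⟩

theorem El.cj {A : Subgroup H} (h : El M A) (g : H) : El M (ChoiceBase.cj g A) := by
  refine ⟨h.pg.map _, fun a ha b hb x => ?_, fun a ha x => ?_⟩
  · have h1 := h.comm _ (mem_cj.1 ha) _ (mem_cj.1 hb) (g⁻¹ • x)
    simp only [mul_smul, smul_inv_smul] at h1
    exact smul_left_cancel _ h1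
  · have h1 := h.sq _ (mem_cj.1 ha) (g⁻¹ • x)
    simp only [mul_smul, smul_inv_smul] at h1
    exact smul_left_cancel _ h1

/-- LEMMA V for the conjugates -/
theorem lemV' {S : Subgroup H} {Z V : AddSubgroup M}
    (lemV : ∀ E : Subgroup H, E ≤ S → El M E →
      Nat.card E * Nat.card Z * Nat.card (fx V E) ≤ Nat.card (ct E V) * Nat.card (fx Z E) * Nat.card V)
    {g : H} {E : Subgroup H} (hE : E ≤ cj g S) (el : El M E) :
    Nat.card E * Nat.card (g • Z : AddSubgroup M) * Nat.card (fx (g • V) E) ≤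
      Nat.card (ct E (g • V)) * Nat.card (fx (g • Z) E) * Nat.card (g • V : AddSubgroup M) := by
  have h1 := lemV (cj g⁻¹ E) (by
    have := cj_mono g⁻¹ hE
    rwa [cj_inv_cj] at this) (El.cj el g⁻¹)
  have e1 : E = cj g (cj g⁻¹ E) := (cj_cj_inv g E).symm
  have e2 : fx (g • V) E = g • fx V (cj g⁻¹ E) := by
    rw [← fx_smul, ← e1]
  have e3 : fx (g • Z) E = g • fx Z (cj g⁻¹ E) := by
    rw [← fx_smul, ← e1]
  have e4 : ct E (g • V) = cj g (ct (cj g⁻¹ E) V) := by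
    rw [← ct_cj, ← e1]
  rw [e2, e3, e4, card_smul, card_smul, card_smul, card_smul, card_cj]
  rwa [card_cj] at h1

/-- the sum of the `a • V`, `a ∈ A` -/
def orb (A : Subgroup H) (V : AddSubgroup M) : AddSubgroup M := ⨆ a : A, (a : H) • V

theorem le_orb (A : Subgroup H) (V : AddSubgroup M) : V ≤ orb A V := by
  have := le_iSup (fun a : A => (a : H) • V) 1
  simpa [orb] using this

theorem smul_le_orb {A : Subgroup H} {V : AddSubgroup M} {a : H} (ha : a ∈ A) : a • V ≤ orb A V :=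
  le_iSup (fun a : A => (a : H) • V) ⟨a, ha⟩

theorem orb_le {A : Subgroup H} {V X : AddSubgroup M} (h : ∀ a ∈ A, a • V ≤ X) : orb A V ≤ X :=
  iSup_le fun a => h a a.2

theorem orb_smul {A : Subgroup H} {V : AddSubgroup M} {a : H} (ha : a ∈ A) {x : M} (hx : x ∈ orb A V) :
    a • x ∈ orb A V := by
  have h1 : orb A V ≤ a⁻¹ • orb A V := by
    refine orb_le fun b hb x hx => ?_
    rw [mem_smul, inv_inv]
    refine smul_le_orb (A.mul_mem ha hb) ?_
    rw [mem_smul]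
    rw [mem_smul] at hx
    rw [mul_inv_rev, mul_smul, inv_smul_smul]
    exact hx
  have h2 := h1 hx
  rwa [mem_smul, inv_inv] at h2

section Fin

variable [Finite H]

/-- the Frattini argument: `K₀ ∩ T` is normal in `L` -/
theorem cj_inf_eq {𝒜 : Set (Subgroup H)} {S : Subgroup H} {Z : AddSubgroup M} {A J₀ L : Subgroup H}
    {Z₁ : AddSubgroup M} (d : LD 𝒜 S Z A J₀ L Z₁) {T : Subgroup H} (hT : Syl T L) (hA : A ≤ T) (hJ : J₀ ≤ T)
    {l : H} (hl : l ∈ L) : cj l (kA L L Z₁ ⊓ T) = kA L L Z₁ ⊓ T := by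
  have hK : ∀ l ∈ L, ∀ k ∈ kA L L Z₁, l⁻¹ * k * l ∈ kA L L Z₁ := by
    intro l hl k hk
    refine ⟨L.mul_mem (L.mul_mem (L.inv_mem hl) hk.1) hl, fun x hx => ?_⟩
    rw [mul_smul, mul_smul, ← mul_smul l x, hk.2 _ (L.mul_mem hl hx), mul_smul, inv_smul_smul]
  have hKc : ∀ l ∈ L, cj l (kA L L Z₁) = kA L L Z₁ := by
    intro l hl
    refine le_antisymm (fun k hk => ?_) (fun k hk => mem_cj.2 (hK l hl k hk))
    have h1 := hK _ (L.inv_mem hl) _ (mem_cj.1 hk)
    have e : l⁻¹⁻¹ * (l⁻¹ * k * l) * l⁻¹ = k := by group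
    rwa [e] at h1
  have hsyl : ∀ Q : Subgroup H, Q ≤ kA L L Z₁ → IsPGroup 2 Q → Nat.card Q ≤ Nat.card (kA L L Z₁ ⊓ T : Subgroup H) := by
    intro Q hQ h2
    obtain ⟨T', hT', hQT⟩ := exists_syl h2 (hQ.trans (kA_le _ _ _))
    obtain ⟨x, hx, rfl⟩ := syl_conj hT hT'
    have h3 : Q ≤ cj x (kA L L Z₁ ⊓ T) := by
      rw [cj_inf, hKc x hx]
      exact le_inf hQ hQT
    have h4 := Nat.card_le_card_of_injective _ (Subgroup.inclusion_injective h3)
    rwa [card_cj] at h4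
  have hS : ∀ x ∈ L, Syl (cj x (kA L L Z₁ ⊓ T)) (kA L L Z₁) := by
    intro x hx
    refine ⟨?_, ?_, ?_⟩
    · rw [cj_inf, hKc x hx]
      exact inf_le_left
    · exact (hT.2.1.to_le inf_le_right).map _
    · intro Q hQ h2 hle
      refine (Subgroup.eq_of_le_of_card_ge hle ?_).symm
      rw [card_cj]
      exact hsyl Q hQ h2
  -- `X = N_L(K₀ ∩ T)`
  set X : Subgroup H := L ⊓ normalizer ((kA L L Z₁ ⊓ T : Subgroup H) : Set H) with hX
  have hTX : T ≤ X := by
    intro t ht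
    refine mem_inf.2 ⟨hT.1 ht, ?_⟩
    rw [mem_normalizer_iff_cj, cj_inf, hKc t (hT.1 ht)]
    congr 1
    exact cj_eq_of_mem_normalizer (le_normalizer ht)
  have hXL : X = L := by
    by_contra hne
    have hlt : X < L := lt_of_le_of_ne inf_le_left hne
    have h1 := d.max X (hA.trans hTX) (hJ.trans hTX) hlt
    obtain ⟨y, hy, hy1⟩ := d.ne
    apply hy1
    have h2 := hS y hy
    have h3 := hS 1 L.one_mem
    rw [cj_one] at h3
    obtain ⟨k, hk, hk1⟩ := syl_conj h3 h2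
    have h4 : k⁻¹ * y ∈ X := by
      refine mem_inf.2 ⟨L.mul_mem (L.inv_mem hk.1) hy, ?_⟩
      rw [mem_normalizer_iff_cj, ← cj_cj, ← hk1, cj_inv_cj]
    have h5 := h1 _ h4
    have h6 : y • Z₁ = k • (k⁻¹ * y) • Z₁ := by
      rw [← mul_smul, mul_inv_cancel_left]
    rw [h6, h5]
    have h7 := hk.2 1 L.one_mem
    rwa [one_smul] at h7
  have h8 : l ∈ X := by rw [hXL]; exact hl
  exact cj_eq_of_mem_normalizer h8.2

variable [Finite M]

/-- **THEOREM Y, the end**, general form: a second group `ZJ ≥ Z` (`ZJ = Z` for THEOREM Y itself), `|A : kA| ≤ α`. -/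
theorem core {𝒜 : Set (Subgroup H)} {S : Subgroup H} {ι : Type*} [Fintype ι] {Zi : ι → AddSubgroup M}
    {Z ZJ V : AddSubgroup M} (h : YS0 𝒜 S Zi Z) {A J₀ L : Subgroup H} {Z₁ : AddSubgroup M}
    (d : LD 𝒜 S Z A J₀ L Z₁) (hZJ : Z ≤ ZJ) (ZV : ZJ ≤ V)
    (cenJ : ∀ A ∈ 𝒜, A ≤ S → ∀ a ∈ A, ∀ z ∈ ZJ, a • z = z)
    (lemV : ∀ E : Subgroup H, E ≤ S → El M E →
      Nat.card E * Nat.card ZJ * Nat.card (fx V E) ≤ Nat.card (ct E V) * Nat.card (fx ZJ E) * Nat.card V)
    (hJJ : ∀ g : H, J₀ ≤ cj g S → ∀ y ∈ L, g • Z = y • Z₁ → ∀ j ∈ J₀, ∀ z ∈ g • ZJ, j • z = z)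
    {α : ℕ} (hcard : Nat.card A ≤ α * Nat.card (kA A L Z₁)) :
    ∃ g : H, A ≤ cj g S ∧ J₀ ≤ cj g S ∧ g • Z = Z₁ ∧ ∀ y ∈ L, y • Z₁ ≠ Z₁ →
      Nat.card ((y * g) • ZJ : AddSubgroup M) ≤ α * Nat.card (fx ((y * g) • ZJ) L) := by
  have elA := h.el A d.mem
  -- a Sylow group of `L`
  have hAJ : IsPGroup 2 (A ⊔ J₀ : Subgroup H) := by
    refine IsPGroup.to_sup_of_normal_right' elA.pg d.J2 fun a ha => ?_
    rw [mem_normalizer_iff_cj]
    exact d.JN a (d.AL ha)
  obtain ⟨T, hT, hAT⟩ := exists_syl hAJ (sup_le d.AL d.JL)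
  have hA : A ≤ T := le_sup_left.trans hAT
  have hJT : J₀ ≤ T := le_sup_right.trans hAT
  obtain ⟨g, hTg, hgZ⟩ := d.syl T hA hJT hT.1 hT.2.1
  refine ⟨g, hA.trans hTg, hJT.trans hTg, hgZ, fun y hy hy1 => ?_⟩
  -- `K := kA`, `E = C_A(points)`
  set K := kA A L Z₁ with hK
  have hKA : K ≤ A := kA_le _ _ _
  have hKin : K ≤ cj (y * g) S := by
    have h1 : K ≤ kA L L Z₁ ⊓ T := fun k hk => ⟨⟨d.AL hk.1, hk.2⟩, hA hk.1⟩
    rw [← cj_inf_eq d hT hA hJT hy] at h1
    refine h1.trans ((cj_mono y (inf_le_right.trans hTg)).trans ?_)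
    rw [cj_cj]
  have elK : El M K := El.mono elA hKA
  have hV := lemV' lemV hKin elK
  set Z' : AddSubgroup M := (y * g) • ZJ with hZ'
  set V' : AddSubgroup M := (y * g) • V with hV'
  have hZ'' : y • Z₁ ≤ Z' := by
    rw [← hgZ, ← mul_smul]
    intro x hx
    rw [hZ', mem_smul]
    exact hZJ (mem_smul.1 hx)
  have hZV : Z' ≤ V' := by
    intro x hx
    rw [hV', mem_smul]
    exact ZV (mem_smul.1 hx)
  -- fixed points of `A` on `Z'`
  have hfix : ∀ x ∈ fx Z' A, ∀ l ∈ L, l • x = x := by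
    intro x hx l hl
    have h1 := d.gen y hy hy1
    rw [← h1] at hl
    have h2 : A ⊔ cj y A ⊔ J₀ ≤ MulAction.stabilizer H x := by
      refine sup_le (sup_le (fun a ha => hx.2 a ha) fun a ha => ?_) fun j hj => ?_
      · rw [MulAction.mem_stabilizer_iff]
        have h3 : (y * g)⁻¹ • x ∈ ZJ := mem_smul.1 hx.1
        have h4 : (y * g)⁻¹ * a * (y * g) ∈ cj g⁻¹ A := by
          rw [mem_cj, inv_inv]
          have := mem_cj.1 ha
          have e : g * ((y * g)⁻¹ * a * (y * g)) * g⁻¹ = y⁻¹ * a * y := by group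
          rwa [e]
        have h5 := cenJ _ (h.cjA A d.mem g⁻¹) (by
          have := cj_mono g⁻¹ (hA.trans hTg)
          rwa [cj_inv_cj] at this) _ h4 _ h3
        rw [mul_smul, mul_smul, smul_inv_smul] at h5
        exact smul_left_cancel _ h5
      · rw [MulAction.mem_stabilizer_iff]
        refine hJJ (y * g) ?_ y hy ?_ j hj x hx.1
        · have h3 := cj_mono y (hJT.trans hTg)
          rwa [d.JN y hy, cj_cj] at h3
        · rw [mul_smul, hgZ]
    exact MulAction.mem_stabilizer_iff.1 (h2 hl)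
  have hfx : fx Z' A = fx Z' L :=
    le_antisymm (fun x hx => ⟨hx.1, hfix x hx⟩) (fun x hx => ⟨hx.1, fun a ha => hx.2 a (d.AL ha)⟩)
  -- the module `Y`
  set Y := orb A V' with hY
  have hVY : V' ≤ Y := le_orb A V'
  have hff := h.ff A d.mem Y fun a ha x hx => orb_smul ha hx
  have hct : ct A Y = ct K V' := by
    ext a
    rw [mem_ct, mem_ct]
    constructor
    · rintro ⟨ha, h1⟩
      refine ⟨?_, fun x hx => h1 x (hVY hx)⟩
      refine d.ti ha hy hy1 ?_
      ext x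
      rw [mem_smul]
      have h3 : ∀ x ∈ y • Z₁, a • x = x := fun x hx => h1 x (hVY (hZV (hZ'' hx)))
      constructor
      · intro hx
        have := h3 _ hx
        rw [smul_inv_smul] at this
        rw [this]; exact hx
      · intro hx
        have := h3 _ hx
        rw [← inv_smul_eq_iff.2 this.symm] at hx
        exact hx
    · rintro ⟨ha, h1⟩
      refine ⟨hKA ha, ?_⟩
      have h2 : Y ≤ fx Y (zpowers a) := by
        rw [hY]
        refine orb_le fun b hb x hx => ?_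
        rw [mem_fx]
        refine ⟨smul_le_orb hb hx, ?_⟩
        have h3 : zpowers a ≤ MulAction.stabilizer H x := by
          rw [zpowers_le, MulAction.mem_stabilizer_iff]
          have h4 := h1 _ (mem_smul.1 hx)
          have h5 := elA.comm a (hKA ha) b hb (b⁻¹ • x)
          rw [h4, smul_inv_smul] at h5
          exact h5
        exact fun c hc => MulAction.mem_stabilizer_iff.1 (h3 hc)
      exact fun x hx => (h2 hx).2 a (mem_zpowers a)
  rw [hct] at hff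
  -- index inequalities
  have h4 : Nat.card V' * Nat.card (fx Y A) ≤ Nat.card Y * Nat.card (fx V' A) := by
    have h1 := card_mul_le hVY (fx_le Y A)
    have h2 : (V' ⊓ fx Y A : AddSubgroup M) = fx V' A := by
      ext x
      exact ⟨fun hx => ⟨hx.1, hx.2.2⟩, fun hx => ⟨hx.1, hVY hx.1, hx.2⟩⟩
    rwa [h2] at h1
  have h5 : Nat.card (fx Z' K) * Nat.card (fx V' A) ≤ Nat.card (fx V' K) * Nat.card (fx Z' A) := by
    have h1 := card_mul_le (X := fx Z' K) (Y := fx V' K) (C := fx V' A)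
      (fun x hx => ⟨hZV hx.1, hx.2⟩) (fun x hx => ⟨hx.1, fun a ha => hx.2 a (hKA ha)⟩)
    have h2 : (fx Z' K ⊓ fx V' A : AddSubgroup M) = fx Z' A := by
      ext x
      exact ⟨fun hx => ⟨hx.1.1, hx.2.2⟩, fun hx => ⟨⟨hx.1, fun a ha => hx.2 a (hKA ha)⟩, hZV hx.1, hx.2⟩⟩
    rwa [h2] at h1
  rw [← hfx]
  have p1 : 0 < Nat.card K := Nat.card_pos
  have p2 : 0 < Nat.card (fx V' K) := Nat.card_pos
  have p3 : 0 < Nat.card (fx Y A) := Nat.card_pos
  have q1 : Nat.card K * Nat.card Z' * Nat.card (fx V' K) * Nat.card (fx Y A) ≤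
      α * Nat.card K * Nat.card (fx Y A) * (Nat.card (fx V' K) * Nat.card (fx Z' A)) := by
    calc Nat.card K * Nat.card Z' * Nat.card (fx V' K) * Nat.card (fx Y A)
        ≤ Nat.card (ct K V') * Nat.card (fx Z' K) * Nat.card V' * Nat.card (fx Y A) :=
          Nat.mul_le_mul_right _ hV
      _ = Nat.card (ct K V') * Nat.card (fx Z' K) * (Nat.card V' * Nat.card (fx Y A)) := by ring
      _ ≤ Nat.card (ct K V') * Nat.card (fx Z' K) * (Nat.card Y * Nat.card (fx V' A)) :=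
          Nat.mul_le_mul_left _ h4
      _ = Nat.card Y * Nat.card (ct K V') * (Nat.card (fx Z' K) * Nat.card (fx V' A)) := by ring
      _ ≤ Nat.card A * Nat.card (fx Y A) * (Nat.card (fx V' K) * Nat.card (fx Z' A)) :=
          Nat.mul_le_mul hff h5
      _ ≤ α * Nat.card K * Nat.card (fx Y A) * (Nat.card (fx V' K) * Nat.card (fx Z' A)) :=
          Nat.mul_le_mul_right _ (Nat.mul_le_mul_right _ hcard)
  have q2 : (Nat.card K * Nat.card (fx V' K) * Nat.card (fx Y A)) * Nat.card Z' ≤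
      (Nat.card K * Nat.card (fx V' K) * Nat.card (fx Y A)) * (α * Nat.card (fx Z' A)) := by
    calc _ = Nat.card K * Nat.card Z' * Nat.card (fx V' K) * Nat.card (fx Y A) := by ring
      _ ≤ _ := q1
      _ = _ := by ring
  exact Nat.le_of_mul_le_mul_left q2 (Nat.mul_pos (Nat.mul_pos p1 p2) p3)

/-- **THEOREM Y, the end**, with a second group `ZJ ≥ Z`, conclusion for `Z` and `ZJ`. -/
theorem end_pair {𝒜 : Set (Subgroup H)} {S : Subgroup H} {ι : Type*} [Fintype ι] {Zi : ι → AddSubgroup M}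
    {Z ZJ V : AddSubgroup M} (h : YS0 𝒜 S Zi Z) {A J₀ L : Subgroup H} {Z₁ : AddSubgroup M}
    (d : LD 𝒜 S Z A J₀ L Z₁) (hZJ : Z ≤ ZJ) (ZV : ZJ ≤ V)
    (cenJ : ∀ A ∈ 𝒜, A ≤ S → ∀ a ∈ A, ∀ z ∈ ZJ, a • z = z)
    (lemV : ∀ E : Subgroup H, E ≤ S → El M E →
      Nat.card E * Nat.card ZJ * Nat.card (fx V E) ≤ Nat.card (ct E V) * Nat.card (fx ZJ E) * Nat.card V)
    (hJJ : ∀ g : H, J₀ ≤ cj g S → ∀ y ∈ L, g • Z = y • Z₁ → ∀ j ∈ J₀, ∀ z ∈ g • ZJ, j • z = z)
    {α : ℕ} (hcard : Nat.card A ≤ α * Nat.card (kA A L Z₁)) :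
    ∃ R : AddSubgroup M, R ≤ ZJ ∧ Nat.card ZJ ≤ α * Nat.card R ∧ ∃ g : H, (∀ r ∈ R, g • r = r) ∧ g • Z ≠ Z := by
  obtain ⟨g, -, -, hgZ, hg⟩ := core h d hZJ ZV cenJ lemV hJJ hcard
  obtain ⟨y, hy, hy1⟩ := d.ne
  have h1 := hg y hy hy1
  refine ⟨(y * g)⁻¹ • fx ((y * g) • ZJ) L, ?_, ?_, (y * g)⁻¹ * y⁻¹ * (y * g), ?_, ?_⟩
  · intro x hx
    rw [mem_smul, inv_inv] at hx
    have := hx.1
    rwa [smul_mem] at this
  · rwa [card_smul] at h1 ⊢
  · intro r hr
    rw [mem_smul, inv_inv] at hr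
    rw [mul_smul, mul_smul, hr.2 _ (L.inv_mem hy), inv_smul_smul]
  · intro h2
    apply hy1
    rw [mul_smul, mul_smul, inv_smul_eq_iff, mul_smul, hgZ, inv_smul_smul] at h2
    exact h2.symm

/-- **THEOREM Y, the end** -/
theorem end_of {𝒜 : Set (Subgroup H)} {S : Subgroup H} {ι : Type*} [Fintype ι] {Zi : ι → AddSubgroup M}
    {Z V : AddSubgroup M} (h : YS 𝒜 S Zi Z V) {A J₀ L : Subgroup H} {Z₁ : AddSubgroup M}
    (d : LD 𝒜 S Z A J₀ L Z₁) (hcard : Nat.card A = 2 * Nat.card (kA A L Z₁)) :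
    ∃ R : AddSubgroup M, R ≤ Z ∧ Nat.card Z = 2 * Nat.card R ∧ ∃ g : H, (∀ r ∈ R, g • r = r) ∧ g • Z ≠ Z := by
  obtain ⟨R, hR, h2, g, hg, hgZ⟩ := end_pair h.toYS0 d le_rfl h.ZV h.cen h.lemV (by
    intro g _ y hy hgy j hj z hz
    rw [hgy] at hz
    have h1 := d.cenJ j hj y hy _ (mem_smul.1 hz)
    rwa [smul_inv_smul] at h1) hcard.le
  refine ⟨R, hR, card_eq_two_mul hR ?_ h2, g, hg, hgZ⟩
  rintro rfl
  apply hgZ
  ext x
  rw [mem_smul]
  constructor
  · intro hx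
    have := hg _ hx
    rw [smul_inv_smul] at this
    rw [this]; exact hx
  · intro hx
    rw [inv_smul_eq_iff.2 (hg _ hx).symm]
    exact hx

end Fin

end Cfsg.Agent.Omega.OM.YThm.EndC

namespace Cfsg.Agent.Omega.OM.YThm

open Subgroup Cfsg.Agent.ZN Cfsg.Agent.ZN.ChoiceBase Cfsg.Agent.ZN.ChoiceSit
open scoped Pointwise

/-- **THEOREM Y, part C**: the end, from `|A| = 2 |kA|`. -/
theorem LD.end_of {H : Type*} [Group H] [Finite H] {M : Type*} [AddCommGroup M] [Finite M] [DistribMulAction H M]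
    {𝒜 : Set (Subgroup H)} {S : Subgroup H} {ι : Type*} [Fintype ι] {Zi : ι → AddSubgroup M} {Z V : AddSubgroup M}
    {A J₀ L : Subgroup H} {Z₁ : AddSubgroup M} (d : LD 𝒜 S Z A J₀ L Z₁) (h : YS 𝒜 S Zi Z V)
    (hcard : Nat.card A = 2 * Nat.card (kA A L Z₁)) :
    ∃ R : AddSubgroup M, R ≤ Z ∧ Nat.card Z = 2 * Nat.card R ∧ ∃ g : H, (∀ r ∈ R, g • r = r) ∧ g • Z ≠ Z :=
  EndC.end_of h d hcard

end Cfsg.Agent.Omega.OM.YThm

end

section


/-!
# THEOREM Y, part A: the minimal subgroup `L` (bb OMEGA #19419, TCARD #19947)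

* `JJ 𝒜 X` : the subgroup generated by the members of `𝒜` in `X`;
* `YS.exists_ld` : if `Z` is moved by `H` there is a `LD`.
-/

set_option autoImplicit false

namespace Cfsg.Agent.Omega.OM.YThm.Min

open Subgroup Cfsg.Agent.ZN Cfsg.Agent.ZN.ChoiceBase Cfsg.Agent.ZN.ChoiceSit Cfsg.Agent.Omega.OM.YThm
open scoped Pointwise

universe u

variable {H : Type u} [Group H]

/-- The subgroup generated by the members of `𝒜` which are contained in `X`. -/
def JJ (𝒜 : Set (Subgroup H)) (X : Subgroup H) : Subgroup H := sSup {A | A ∈ 𝒜 ∧ A ≤ X}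

variable {𝒜 : Set (Subgroup H)} {A X Y T D : Subgroup H}

theorem JJ_le : JJ 𝒜 X ≤ X := sSup_le fun _ hA => hA.2

theorem le_JJ (hA : A ∈ 𝒜) (hAX : A ≤ X) : A ≤ JJ 𝒜 X := le_sSup ⟨hA, hAX⟩

theorem JJ_le_iff : JJ 𝒜 X ≤ Y ↔ ∀ A ∈ 𝒜, A ≤ X → A ≤ Y :=
  ⟨fun h _ hA hAX => (le_JJ hA hAX).trans h, fun h => sSup_le fun A hA => h A hA.1 hA.2⟩

theorem JJ_mono (h : X ≤ Y) : JJ 𝒜 X ≤ JJ 𝒜 Y := JJ_le_iff.2 fun _ hA hAX => le_JJ hA (hAX.trans h)

theorem JJ_JJ (𝒜 : Set (Subgroup H)) (X : Subgroup H) : JJ 𝒜 (JJ 𝒜 X) = JJ 𝒜 X :=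
  le_antisymm JJ_le (JJ_le_iff.2 fun _ hA hAX => le_JJ hA (le_JJ hA hAX))

theorem cj_JJ (hcj : ∀ A ∈ 𝒜, ∀ g : H, cj g A ∈ 𝒜) (g : H) (X : Subgroup H) :
    cj g (JJ 𝒜 X) = JJ 𝒜 (cj g X) := by
  have key : ∀ (g : H) (X : Subgroup H), cj g (JJ 𝒜 X) ≤ JJ 𝒜 (cj g X) := by
    intro g X
    rw [cj_le_iff, JJ_le_iff]
    intro A hA hAX
    rw [← cj_le_iff]
    exact le_JJ (hcj A hA g) (cj_mono g hAX)
  refine le_antisymm (key g X) ?_
  have h1 := cj_mono g (key g⁻¹ (cj g X))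
  rwa [cj_cj, mul_inv_cancel, cj_one, cj_inv_cj] at h1

/-- normalisers grow in 2-groups -/
theorem exists_norm [Finite H] (hT : IsPGroup 2 T) (hDT : D ≤ T) (hne : D ≠ T) :
    ∃ x ∈ T, x ∉ D ∧ cj x D = D := by
  have : Fact (Nat.Prime 2) := ⟨Nat.prime_two⟩
  have hnil : Group.IsNilpotent T := hT.isNilpotent
  have hlt : D.subgroupOf T < ⊤ := by
    rw [lt_top_iff_ne_top]
    intro h1
    exact hne (le_antisymm hDT (subgroupOf_eq_top.1 h1))
  have h1 := Group.normalizerCondition_of_isNilpotent (G := T) _ hlt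
  obtain ⟨x, hx, hxD⟩ := SetLike.exists_of_lt h1
  refine ⟨x, x.2, fun h2 => hxD (mem_subgroupOf.2 h2), ?_⟩
  refine cj_eq_of_mem_normalizer (mem_normalizer_of_cj_le ?_)
  intro y hy
  rw [ChoiceBase.mem_cj] at hy
  have hyT : (x : H)⁻¹ * y * x ∈ T := hDT hy
  have h2 : (⟨(x : H)⁻¹ * y * x, hyT⟩ : T) ∈ D.subgroupOf T := mem_subgroupOf.2 hy
  have h3 := (mem_normalizer_iff.1 hx _).1 h2
  have h4 := mem_subgroupOf.1 h3
  have h5 : ((x * (⟨(x : H)⁻¹ * y * x, hyT⟩ : T) * x⁻¹ : T) : H) = y := by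
    change (x : H) * ((x : H)⁻¹ * y * x) * (x : H)⁻¹ = y
    group
  rwa [h5] at h4

/-- some member normalises `J₀` and is not contained in it -/
theorem exists_member [Finite H] (hcj : ∀ A ∈ 𝒜, ∀ g : H, cj g A ∈ 𝒜) (hT : IsPGroup 2 T) {J₀ : Subgroup H}
    (hJT : J₀ ≤ T) (hJ : JJ 𝒜 J₀ = J₀) (hne : ¬ JJ 𝒜 T ≤ J₀) :
    ∃ A ∈ 𝒜, A ≤ T ∧ A ≤ normalizer (J₀ : Set H) ∧ ¬ A ≤ J₀ := by
  by_contra hcon
  push Not at hcon
  have h1 : T ⊓ normalizer (J₀ : Set H) = T := by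
    by_contra h2
    obtain ⟨x, hx, hxD, hxc⟩ := exists_norm hT inf_le_left h2
    have h3 : JJ 𝒜 (T ⊓ normalizer (J₀ : Set H)) = J₀ := by
      refine le_antisymm (JJ_le_iff.2 fun A hA hAX => hcon A hA (hAX.trans inf_le_left) (hAX.trans inf_le_right)) ?_
      conv_lhs => rw [← hJ]
      exact JJ_mono (le_inf hJT le_normalizer)
    refine hxD ⟨hx, mem_normalizer_of_cj_le ?_⟩
    rw [← h3, cj_JJ hcj, hxc]
  refine hne (JJ_le_iff.2 fun A hA hAT => hcon A hA hAT ?_)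
  exact (hAT.trans h1.ge).trans inf_le_right

variable {M : Type*} [AddCommGroup M] [DistribMulAction H M]

theorem smul_eq_of_fix {W : AddSubgroup M} {x : H} (hx : ∀ w ∈ W, x • w = w) : x • W = W := by
  ext w
  rw [AddSubgroup.mem_smul_pointwise_iff_exists]
  constructor
  · rintro ⟨s, hs, rfl⟩
    rwa [hx s hs]
  · exact fun hw => ⟨w, hw, hx w hw⟩

/-- the pointwise stabiliser -/
def ptS (H : Type*) [Group H] {M : Type*} [AddCommGroup M] [DistribMulAction H M] (W : AddSubgroup M) :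
    Subgroup H where
  carrier := {x | ∀ w ∈ W, x • w = w}
  one_mem' := fun w _ => one_smul H w
  mul_mem' := fun {a b} ha hb w hw => by rw [mul_smul, hb w hw, ha w hw]
  inv_mem' := fun {a} ha w hw => by rw [inv_smul_eq_iff, ha w hw]

section

variable {S : Subgroup H} {ι : Type*} [Fintype ι] {Zi : ι → AddSubgroup M} {Z : AddSubgroup M}
  (h : YS0 𝒜 S Zi Z)

include h

/-- `c • Z` is determined by the members in `S^c` -/
theorem det' {c c' : H} (hsub : ∀ A ∈ 𝒜, A ≤ cj c S → A ≤ cj c' S) : c • Z = c' • Z := by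
  have h1 := h.det (c⁻¹ * c') fun A hA hAS => by
    have h2 := hsub _ (h.cjA A hA c) (cj_mono c hAS)
    rw [cj_le_iff, cj_cj] at h2
    exact h2
  rw [mul_smul, inv_smul_eq_iff] at h1
  exact h1.symm

theorem fixS {s : H} (hs : s ∈ S) : s • Z = Z := by
  refine h.det s fun A _ hAS => ?_
  rwa [cj_eq_of_mem_normalizer (le_normalizer hs)]

theorem cen' {c : H} (hA : A ∈ 𝒜) (hAc : A ≤ cj c S) {a : H} (ha : a ∈ A) {z : M} (hz : z ∈ c • Z) : a • z = z := by
  obtain ⟨w, hw, rfl⟩ := (AddSubgroup.mem_smul_pointwise_iff_exists _ _ _).1 hz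
  have h1 := h.cen (cj c⁻¹ A) (h.cjA A hA _) (by rwa [cj_le_iff, inv_inv]) (c⁻¹ * a * c)
    (by rw [ChoiceBase.mem_cj]; convert ha using 1; group) w hw
  rw [mul_smul, mul_smul, inv_smul_eq_iff] at h1
  exact h1

/-- elements of `JJ 𝒜 (S^c)` fix `c • Z` pointwise -/
theorem cenJJ {c : H} (hX : X ≤ cj c S) (hXJ : JJ 𝒜 X = X) {a : H} (ha : a ∈ X) {z : M} (hz : z ∈ c • Z) :
    a • z = z := by
  let F : Subgroup H :=
    { carrier := {a | a • z = z}
      one_mem' := one_smul H z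
      mul_mem' := fun {a b} ha hb => by
        change (a * b) • z = z
        rw [mul_smul, show b • z = z from hb, show a • z = z from ha]
      inv_mem' := fun {a} ha => by
        change a⁻¹ • z = z
        rw [inv_smul_eq_iff, show a • z = z from ha] }
  have h1 : JJ 𝒜 X ≤ F := JJ_le_iff.2 fun A hA hAX a ha => cen' h hA (hAX.trans hX) ha hz
  exact h1 (hXJ.symm ▸ ha)

theorem isPGroup_cjS (c : H) : IsPGroup 2 (cj c S) := isPGroup_cj c h.syl.2.1

variable [Finite H]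

/-- every 2-group is contained in some `S^c` -/
theorem exists_cjS (hX : IsPGroup 2 X) : ∃ c : H, X ≤ cj c S := by
  obtain ⟨T, hT, hXT⟩ := exists_syl hX (le_top : X ≤ ⊤)
  obtain ⟨c, -, hc⟩ := syl_conj h.syl hT
  exact ⟨c, hc ▸ hXT⟩

/-- **(2)** of THEOREM Y: the minimal subgroup -/
theorem exists_ld (hne : ∃ g : H, g • Z ≠ Z) :
    ∃ (A J₀ L : Subgroup H) (Z₁ : AddSubgroup M), LD 𝒜 S Z A J₀ L Z₁ ∧ JJ 𝒜 J₀ = J₀ := by
  classical
  -- the choice of `T₁`, `T₂`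
  obtain ⟨⟨c₁, c₂⟩, hc, hmax⟩ := Set.exists_max_image {p : H × H | p.1 • Z ≠ p.2 • Z}
    (fun p => Nat.card (JJ 𝒜 (cj p.1 S ⊓ cj p.2 S))) (Set.toFinite _) (by
      obtain ⟨g, hg⟩ := hne
      exact ⟨(g, 1), by simpa using hg⟩)
  have hc : c₁ • Z ≠ c₂ • Z := hc
  have hmax : ∀ d₁ d₂ : H, d₁ • Z ≠ d₂ • Z →
      Nat.card (JJ 𝒜 (cj d₁ S ⊓ cj d₂ S)) ≤ Nat.card (JJ 𝒜 (cj c₁ S ⊓ cj c₂ S)) := fun d₁ d₂ hd =>
    hmax (d₁, d₂) hd
  set J₀ := JJ 𝒜 (cj c₁ S ⊓ cj c₂ S) with hJ₀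
  have hJJ : JJ 𝒜 J₀ = J₀ := JJ_JJ _ _
  have hJ1 : J₀ ≤ cj c₁ S := JJ_le.trans inf_le_left
  have hJ2 : J₀ ≤ cj c₂ S := JJ_le.trans inf_le_right
  -- (*)
  have star : ∀ X : Subgroup H, JJ 𝒜 X = X → J₀ ≤ X → ¬ X ≤ J₀ → ∀ d d' : H, X ≤ cj d S → X ≤ cj d' S →
      d • Z = d' • Z := by
    intro X hX hJX hXJ d d' hd hd'
    by_contra hne
    have h1 := hmax d d' hne
    have h2 : X ≤ JJ 𝒜 (cj d S ⊓ cj d' S) := by
      conv_lhs => rw [← hX]
      exact JJ_mono (le_inf hd hd')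
    have h3 : Nat.card X ≤ Nat.card J₀ := (Subgroup.card_le_of_le h2).trans h1
    exact hXJ (Subgroup.eq_of_le_of_card_ge hJX h3).ge
  -- (**)
  have star2 : ∀ X : Subgroup H, JJ 𝒜 X = X → J₀ ≤ X → ¬ X ≤ J₀ → IsPGroup 2 X → ∀ d : H, X ≤ cj d S → ∀ c : H,
      (∀ x ∈ X, x • c • Z = c • Z) → d • Z = c • Z := by
    intro X hX hJX hXJ hX2 d hd c hXc
    let B : Subgroup H :=
      { carrier := {x | x • c • Z = c • Z}
        one_mem' := one_smul H _
        mul_mem' := fun {a b} ha hb => by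
          change (a * b) • c • Z = c • Z
          rw [mul_smul, show b • c • Z = c • Z from hb, show a • c • Z = c • Z from ha]
        inv_mem' := fun {a} ha => by
          change a⁻¹ • c • Z = c • Z
          rw [inv_smul_eq_iff, show a • c • Z = c • Z from ha] }
    have hSB : cj c S ≤ B := by
      intro x hx
      rw [ChoiceBase.mem_cj] at hx
      have h1 := fixS h hx
      change x • c • Z = c • Z
      rwa [mul_smul, mul_smul, inv_smul_eq_iff] at h1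
    have hsylB : Syl (cj c S) B := by
      refine ⟨hSB, isPGroup_cjS h c, fun Q _ hQ2 hSQ => ?_⟩
      have h1 := h.syl.2.2 (cj c⁻¹ Q) le_top (isPGroup_cj _ hQ2) (by rw [← cj_inv_cj c S]; exact cj_mono _ hSQ)
      rw [← h1, cj_cj_inv]
    obtain ⟨T, hT, hXT⟩ := exists_syl hX2 (show X ≤ B from hXc)
    obtain ⟨b, hb, hbT⟩ := syl_conj hsylB hT
    rw [cj_cj] at hbT
    have h1 := star X hX hJX hXJ d (b * c) hd (by rw [hbT]; exact hXT)
    rw [h1, mul_smul]
    exact hb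
  -- the members `A₁`, `A₂`
  have hn1 : ¬ JJ 𝒜 (cj c₁ S) ≤ J₀ := fun hle => hc (det' h fun A hA hAS => (le_JJ hA hAS).trans (hle.trans hJ2))
  have hn2 : ¬ JJ 𝒜 (cj c₂ S) ≤ J₀ := fun hle =>
    hc (det' h fun A hA hAS => (le_JJ hA hAS).trans (hle.trans hJ1)).symm
  obtain ⟨A₁, hA₁, hA₁S, hA₁N, hA₁J⟩ := exists_member h.cjA (isPGroup_cjS h c₁) hJ1 hJJ hn1
  obtain ⟨A₂, hA₂, hA₂S, hA₂N, hA₂J⟩ := exists_member h.cjA (isPGroup_cjS h c₂) hJ2 hJJ hn2
  -- `A J₀` is generated by members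
  have hgen : ∀ A ∈ 𝒜, JJ 𝒜 (A ⊔ J₀) = A ⊔ J₀ := by
    intro A hA
    refine le_antisymm JJ_le (sup_le (le_JJ hA le_sup_left) ?_)
    conv_lhs => rw [← hJJ]
    exact JJ_mono le_sup_right
  have hnle : ∀ A : Subgroup H, ¬ A ≤ J₀ → ¬ A ⊔ J₀ ≤ J₀ := fun A hA hle => hA (le_sup_left.trans hle)
  -- `U`
  let 𝒲 : Set (AddSubgroup M) := {W | ∃ (c : H) (A : Subgroup H), A ∈ 𝒜 ∧ A ≤ normalizer (J₀ : Set H) ∧ ¬ A ≤ J₀ ∧
    A ⊔ J₀ ≤ cj c S ∧ W = c • Z}
  set U : AddSubgroup M := sSup 𝒲 with hU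
  have hcjJ : ∀ n ∈ normalizer (J₀ : Set H), cj n J₀ = J₀ := fun n hn => cj_eq_of_mem_normalizer hn
  have hcjN : ∀ n ∈ normalizer (J₀ : Set H), ∀ A : Subgroup H, ¬ A ≤ J₀ → ¬ cj n A ≤ J₀ := by
    intro n hn A hA hle
    rw [cj_le_iff] at hle
    rw [hcjJ _ (inv_mem hn)] at hle
    exact hA hle
  have hsup : ∀ n ∈ normalizer (J₀ : Set H), ∀ A : Subgroup H, cj n A ⊔ J₀ = cj n (A ⊔ J₀) := by
    intro n hn A
    have h1 : cj n (A ⊔ J₀) = cj n A ⊔ cj n J₀ := Subgroup.map_sup _ _ _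
    rw [h1, hcjJ n hn]
  have hUn : ∀ n ∈ normalizer (J₀ : Set H), ∀ x ∈ U, n • x ∈ U := by
    intro n hn x hx
    have h1 : U ≤ U.comap (DistribSMul.toAddMonoidHom M n) := by
      refine sSup_le ?_
      rintro _ ⟨c, A, hA, hAN, hAJ, hAc, rfl⟩ y hy
      obtain ⟨z, hz, rfl⟩ := (AddSubgroup.mem_smul_pointwise_iff_exists _ _ _).1 hy
      rw [AddSubgroup.mem_comap, DistribSMul.toAddMonoidHom_apply, smul_smul]
      have h2 : (n * c) • Z ∈ 𝒲 := by
        refine ⟨n * c, cj n A, h.cjA A hA n, ?_, hcjN n hn A hAJ, ?_, rfl⟩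
        · rw [← cj_eq_of_mem_normalizer (le_normalizer hn : n ∈ normalizer ((normalizer (J₀ : Set H) : Subgroup H) : Set H))]
          exact cj_mono n hAN
        · rw [hsup n hn, ← cj_cj]
          exact cj_mono n hAc
      exact le_sSup h2 (AddSubgroup.smul_mem_pointwise_smul z (n * c) Z hz)
    exact h1 hx
  have hUJ : ∀ j ∈ J₀, ∀ x ∈ U, j • x = x := by
    intro j hj x hx
    have h1 : U ≤ fx ⊤ J₀ := by
      refine sSup_le ?_
      rintro _ ⟨c, A, hA, hAN, hAJ, hAc, rfl⟩ y hy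
      exact ⟨trivial, fun j hj => cenJJ h (le_sup_right.trans hAc) hJJ hj hy⟩
    exact (h1 hx).2 j hj
  -- `c₁ • Z ≤ U`
  have hZ1 : c₁ • Z ≤ U := le_sSup ⟨c₁, A₁, hA₁, hA₁N, hA₁J, sup_le hA₁S hJ1, rfl⟩
  have hnontriv : ∃ a ∈ A₂, ∃ x ∈ U, a • x ≠ x := by
    by_contra hcon
    push Not at hcon
    have h1 : A₂ ⊔ J₀ ≤ ptS H (c₁ • Z) := sup_le (fun a ha w hw => hcon a ha w (hZ1 hw)) fun a ha w hw =>
      hUJ a ha w (hZ1 hw)
    exact hc (star2 (A₂ ⊔ J₀) (hgen A₂ hA₂) le_sup_right (hnle A₂ hA₂J)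
      ((isPGroup_cjS h c₂).to_le (sup_le hA₂S hJ2)) c₂ (sup_le hA₂S hJ2) c₁ fun x hx => smul_eq_of_fix (h1 hx)).symm
  obtain ⟨A, hA, hAA, hAU, hquad⟩ := h.rep A₂ hA₂ U (fun a ha x hx => hUn a (hA₂N ha) x hx) hnontriv
  have hAN : A ≤ normalizer (J₀ : Set H) := hAA.trans hA₂N
  have hAS : A ≤ cj c₂ S := hAA.trans hA₂S
  have hAJ : ¬ A ≤ J₀ := by
    intro hle
    obtain ⟨a, ha, x, hx, hax⟩ := hAU
    exact hax (hUJ a (hle ha) x hx)
  -- `L`
  obtain ⟨L, ⟨hAL, hJL, hLN, hLne⟩, hLmin⟩ := Set.exists_min_image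
    {X : Subgroup H | A ≤ X ∧ J₀ ≤ X ∧ X ≤ normalizer (J₀ : Set H) ∧ ∃ x ∈ X, x • c₂ • Z ≠ c₂ • Z}
    (fun X => Nat.card X) (Set.toFinite _) (by
      refine ⟨normalizer (J₀ : Set H), hAN, le_normalizer, le_rfl, ?_⟩
      by_contra hcon
      push Not at hcon
      exact hc (star2 (A₁ ⊔ J₀) (hgen A₁ hA₁) le_sup_right (hnle A₁ hA₁J)
        ((isPGroup_cjS h c₁).to_le (sup_le hA₁S hJ1)) c₁ (sup_le hA₁S hJ1) c₂ fun x hx =>
          hcon x ((sup_le hA₁N le_normalizer : A₁ ⊔ J₀ ≤ normalizer (J₀ : Set H)) hx)))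
  have hmin : ∀ X : Subgroup H, A ≤ X → J₀ ≤ X → X ≤ L → X ≠ L → ∀ x ∈ X, x • c₂ • Z = c₂ • Z := by
    intro X hAX hJX hXL hne x hx
    by_contra hcon
    have h1 := hLmin X ⟨hAX, hJX, hXL.trans hLN, x, hx, hcon⟩
    exact hne (Subgroup.eq_of_le_of_card_ge hXL h1)
  refine ⟨A, J₀, L, c₂ • Z, ?_, hJJ⟩
  constructor
  · exact hA
  · exact hAL
  · exact hJL
  · exact fun l hl => hcjJ l (hLN hl)
  · exact hLne
  · -- gen
    intro x hx hxZ
    by_contra hne
    have hXL : A ⊔ cj x A ⊔ J₀ ≤ L := by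
      refine sup_le (sup_le hAL ?_) hJL
      rw [← cj_eq_of_mem_normalizer (le_normalizer hx : x ∈ normalizer (L : Set H))]
      exact cj_mono x hAL
    have h1 := hmin _ (le_sup_left.trans le_sup_left) le_sup_right hXL hne
    have h2 : cj x A ⊔ J₀ ≤ cj (x * c₂) S := by
      rw [hsup x (hLN hx), ← cj_cj]
      exact cj_mono x (sup_le hAS hJ2)
    have h3 := star2 (cj x A ⊔ J₀) (hgen _ (h.cjA A hA x)) le_sup_right (hnle _ (hcjN x (hLN hx) A hAJ))
      ((isPGroup_cjS h _).to_le h2) (x * c₂) h2 c₂ fun y hy =>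
        h1 y ((sup_le (le_sup_right.trans le_sup_left) le_sup_right : cj x A ⊔ J₀ ≤ A ⊔ cj x A ⊔ J₀) hy)
    rw [mul_smul] at h3
    exact hxZ h3
  · exact fun X hAX hJX hXL => hmin X hAX hJX hXL.le hXL.ne
  · exact fun a ha z hz => cen' h hA hAS ha hz
  · -- cenJ
    intro j hj l hl z hz
    have h1 : l⁻¹ * j * l ∈ J₀ := by
      rw [← ChoiceBase.mem_cj, hcjJ l (hLN hl)]
      exact hj
    have h2 := cenJJ h hJ2 hJJ h1 hz
    rw [mul_smul, mul_smul, inv_smul_eq_iff] at h2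
    exact h2
  · -- quad
    intro a ha b hb l hl z hz
    have h1 : l • z ∈ U := by
      have h2 : (l * c₂) • Z ∈ 𝒲 := by
        refine ⟨l * c₂, cj l A, h.cjA A hA l, ?_, hcjN l (hLN hl) A hAJ, ?_, rfl⟩
        · rw [← cj_eq_of_mem_normalizer (le_normalizer (hLN hl) :
            l ∈ normalizer ((normalizer (J₀ : Set H) : Subgroup H) : Set H))]
          exact cj_mono l hAN
        · rw [hsup l (hLN hl), ← cj_cj]
          exact cj_mono l (sup_le hAS hJ2)
      have h3 : l • z ∈ (l * c₂) • Z := by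
        rw [mul_smul]
        exact AddSubgroup.smul_mem_pointwise_smul z l _ hz
      exact le_sSup h2 h3
    exact hquad a ha b hb _ h1
  · -- syl
    intro T hAT hJT _ hT
    obtain ⟨g, hg⟩ := exists_cjS h hT
    exact ⟨g, hg, star (A ⊔ J₀) (hgen A hA) le_sup_right (hnle A hAJ) g c₂ ((sup_le hAT hJT).trans hg)
      (sup_le hAS hJ2)⟩
  · exact (isPGroup_cjS h c₁).to_le hJ1

end

end Cfsg.Agent.Omega.OM.YThm.Min

namespace Cfsg.Agent.Omega.OM.YThm

open Cfsg.Agent.ZN Cfsg.Agent.ZN.ChoiceBase Cfsg.Agent.ZN.ChoiceSit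
open scoped Pointwise

universe u

/-- **THEOREM Y, part A**: the minimal subgroup `L`. -/
theorem YS.exists_ld {H : Type u} [Group H] [Finite H] {M : Type*} [AddCommGroup M] [DistribMulAction H M]
    {𝒜 : Set (Subgroup H)} {S : Subgroup H} {ι : Type*} [Fintype ι] {Zi : ι → AddSubgroup M} {Z V : AddSubgroup M}
    (h : YS 𝒜 S Zi Z V) (hne : ∃ g : H, g • Z ≠ Z) :
    ∃ (A J₀ L : Subgroup H) (Z₁ : AddSubgroup M), LD 𝒜 S Z A J₀ L Z₁ := by
  obtain ⟨A, J₀, L, Z₁, h1, -⟩ := Min.exists_ld h.toYS0 hne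
  exact ⟨A, J₀, L, Z₁, h1⟩

/-- **THEOREM Y, part A** for `YS0`; moreover `J₀` is generated by members of `𝒜`. -/
theorem YS0.exists_ld_jj {H : Type u} [Group H] [Finite H] {M : Type*} [AddCommGroup M] [DistribMulAction H M]
    {𝒜 : Set (Subgroup H)} {S : Subgroup H} {ι : Type*} [Fintype ι] {Zi : ι → AddSubgroup M} {Z : AddSubgroup M}
    (h : YS0 𝒜 S Zi Z) (hne : ∃ g : H, g • Z ≠ Z) :
    ∃ (A J₀ L : Subgroup H) (Z₁ : AddSubgroup M), LD 𝒜 S Z A J₀ L Z₁ ∧ Min.JJ 𝒜 J₀ = J₀ := Min.exists_ld h hne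

/-- **THEOREM Y, part A** for `YS0`. -/
theorem YS0.exists_ld {H : Type u} [Group H] [Finite H] {M : Type*} [AddCommGroup M] [DistribMulAction H M]
    {𝒜 : Set (Subgroup H)} {S : Subgroup H} {ι : Type*} [Fintype ι] {Zi : ι → AddSubgroup M} {Z : AddSubgroup M}
    (h : YS0 𝒜 S Zi Z) (hne : ∃ g : H, g • Z ≠ Z) :
    ∃ (A J₀ L : Subgroup H) (Z₁ : AddSubgroup M), LD 𝒜 S Z A J₀ L Z₁ := by
  obtain ⟨A, J₀, L, Z₁, h1, -⟩ := Min.exists_ld h hne
  exact ⟨A, J₀, L, Z₁, h1⟩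

end Cfsg.Agent.Omega.OM.YThm

end

private theorem dce_040528d71e08 : _root_.True := by
  try have : _root_.True := by simp only [_root_.Cfsg.Agent.Omega.OM.YThm.LemVCo.c1.eq_1]
  try have : _root_.True := by simp only [_root_.Cfsg.Agent.Omega.OM.YThm.EndC.orb.eq_1]
  try have : _root_.True := by simp only [_root_.Cfsg.Agent.Omega.OM.YThm.LemVCo.ff.eq_1]
  try have : _root_.True := by simp only [_root_.Cfsg.Agent.Omega.OM.YThm.LemVCo.c0.eq_1]
  try have : _root_.True := by simp only [_root_.Cfsg.Agent.Omega.OM.YThm.LemVCo.bb.eq_1]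
  try have : _root_.True := by simp only [_root_.Cfsg.Agent.Omega.OM.YThm.UCo.eq_1]
  try have : _root_.True := by simp only [_root_.Cfsg.Agent.Omega.OM.YThm.sg.eq_1]
  exact _root_.True.intro
end

-- part: Omega/OmThm/SideBase
section
set_option linter.all false
open scoped Cfsg.Agent.FastGrp

/-!
# THEOREM OM (NO-3S): one side of the critical pair

`W`, `W'` are elementary abelian, `W ≤ X'`, `Q' = O₂(X')`, `W' = ⟨U ν⟩` is normal in `X'`, the block `U ν` is
generated by the factors `F ν i`.  (Text: helper12, bb OMEGA 15139, blueprint OMEGA-NO3S-Om-helper12.)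

* `Side`: the structure;
* `dw E = |E : C_E(W')|`, `comm_mem_of_index_two`, and the counting lemmas.
-/

set_option autoImplicit false

namespace Cfsg.Agent.Omega.OmThm.SideBase

open Subgroup Cfsg Cfsg.Agent.ZN Cfsg.Agent.ZN.ChoiceBase
open Cfsg.Agent.PLocal.ElemAbSup
open scoped Pointwise

universe u v w

variable {G : Type u} [Group G]

/-! ### Generalities -/

theorem mem_sup_comm {A B : Subgroup G} (h : ∀ a ∈ A, ∀ b ∈ B, a * b = b * a) {x : G}
    (hx : x ∈ A ⊔ B) : ∃ a ∈ A, ∃ b ∈ B, x = a * b := by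
  have hle : B ≤ centralizer (A : Set G) := fun b hb =>
    mem_centralizer_iff.2 fun a ha => h a ha b hb
  have h1 : x ∈ (A : Set G) * (B : Set G) := by
    rw [← coe_sup_of_le_centralizer hle]; exact hx
  obtain ⟨a, ha, b, hb, rfl⟩ := Set.mem_mul.1 h1
  exact ⟨a, ha, b, hb, rfl⟩

theorem card_sup_comm {A B : Subgroup G} (h : ∀ a ∈ A, ∀ b ∈ B, a * b = b * a) :
    Nat.card ↥(A ⊔ B) * Nat.card ↥(A ⊓ B) = Nat.card A * Nat.card B :=
  card_sup_mul_card_inf fun b hb => mem_centralizer_iff.2 fun a ha => h a ha b hb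

/-! ### The structure -/

/-- One side of the critical pair. -/
structure Side (W W' X' Q' : Subgroup G) {N : Type v} {I : Type w} (U : N → Subgroup G)
    (F : N → I → Subgroup G) : Prop where
  QX : Q' ≤ X'
  WX : W ≤ X'
  Wc : ∀ w ∈ W, ∀ w' ∈ W, w * w' = w' * w
  Wsq : ∀ w ∈ W, w * w = 1
  Vc : ∀ v ∈ W', ∀ v' ∈ W', v * v' = v' * v
  Vsq : ∀ v ∈ W', v * v = 1
  cm : ∀ w ∈ W, ∀ v ∈ W', w * v * w⁻¹ * v⁻¹ ∈ W
  Vn : ∀ x ∈ X', ∀ v ∈ W', x * v * x⁻¹ ∈ W'
  UW : ∀ ν, U ν ≤ W'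
  Wle : W' ≤ ⨆ ν, U ν
  FU : ∀ ν i, F ν i ≤ U ν
  Ule : ∀ ν, U ν ≤ ⨆ i, F ν i
  Qn : ∀ q ∈ Q', ∀ ν, ∀ v ∈ U ν, q * v * q⁻¹ ∈ U ν
  Qp : ∀ q ∈ Q', ∀ ν i, ∃ j, ∀ u ∈ F ν i, q * u * q⁻¹ ∈ F ν j
  TI : ∀ ν i μ j u, u ∈ F ν i → u ∈ F μ j → u ≠ 1 → F ν i = F μ j
  inj : ∀ ν i j, F ν i = F ν j → i = j
  O1 : ∀ ν i u, u ∈ F ν i → u ≠ 1 → ∀ g, g * u = u * g → ∀ v ∈ F ν i, g * v * g⁻¹ ∈ F ν i
  cent : ∀ ν i, ∀ w ∈ W, (∀ u ∈ F ν i, w * u * w⁻¹ ∈ F ν i) → ∀ u ∈ F ν i, w * u = u * w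
  mv : ∀ ν, (∀ w ∈ W, ∀ u ∈ U ν, w * u * w⁻¹ ∈ U ν) → ∀ w ∈ W, ∀ u ∈ U ν, w * u = u * w

namespace Side

variable {W W' X' Q' : Subgroup G} {N : Type v} {I : Type w} {U : N → Subgroup G}
  {F : N → I → Subgroup G}

theorem Q_conj (h : Side W W' X' Q' U F) [Finite G] {q : G} (hq : q ∈ Q') (ν : N) (v : G) :
    v ∈ U ν ↔ q * v * q⁻¹ ∈ U ν := by
  constructor
  · exact h.Qn q hq ν v
  · intro hv
    have := h.Qn q⁻¹ (inv_mem hq) ν _ hv
    have e : q⁻¹ * (q * v * q⁻¹) * q⁻¹⁻¹ = v := by group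
    rwa [e] at this

/-- a subgroup which does not centralise `W'` moves a block -/
theorem exists_block (h : Side W W' X' Q' U F) {E : Subgroup G}
    (hE : ¬ E ≤ centralizer (W' : Set G)) : ∃ ν, ∃ c ∈ E, ∃ u ∈ U ν, c * u ≠ u * c := by
  by_contra hcon
  push Not at hcon
  apply hE
  intro c hc
  have h1 : W' ≤ centralizer ({c} : Set G) := by
    refine h.Wle.trans (iSup_le fun ν => fun u hu => ?_)
    rw [mem_centralizer_iff]
    rintro y rfl
    exact hcon ν y hc u hu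
  rw [mem_centralizer_iff]
  intro v hv
  exact (mem_centralizer_iff.1 (h1 hv) c rfl).symm

/-- an element moving a block moves a factor -/
theorem exists_factor (h : Side W W' X' Q' U F) {ν : N} {c u : G}
    (hu : u ∈ U ν) (hcu : c * u ≠ u * c) : ∃ i, ∃ y ∈ F ν i, c * y ≠ y * c := by
  by_contra hcon
  push Not at hcon
  apply hcu
  have h1 : U ν ≤ centralizer ({c} : Set G) := by
    refine (h.Ule ν).trans (iSup_le fun i => fun y hy => ?_)
    rw [mem_centralizer_iff]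
    rintro x rfl
    exact hcon i y hy
  exact mem_centralizer_iff.1 (h1 hu) c rfl

end Side

end Cfsg.Agent.Omega.OmThm.SideBase
end

-- part: MinSimple/EmptyE/Trans
section
prune_inst 0x30006504050002000000000280002000600001000023000153410a00020731212d01a70142a01a014902a0202008006813dc00594018000020200200400100009022f0829308010406000f80b803180c00000000000000000000000000041000000000000
set_option linter.all false
open scoped Cfsg.Agent.FastGrp

/-!
# Theorem E: the transport of the data of `V = vv S` to `MulAut V`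

* `Tr S ι φ` : `V` a commutative group, `ι : V → G` injective with image `vv S`, `φ : N_G(vv S) → MulAut V` the
  conjugation action;
* `Tr.hyp` : the hypotheses `Small.Hyp` for a closed subgroup `H ≥ Ω₁(Z(S))` of `vv S`, `E ≤ S`.
-/

set_option autoImplicit false

namespace Cfsg.Agent.MinSimple.EmptyE.Trans

open Subgroup Cfsg Cfsg.Agent.ZN Cfsg.Agent.ZN.ChoiceBase Cfsg.Agent.ZN.ChoiceSit
open Cfsg.Agent.MinSimple.EmptyTI Cfsg.Agent.MinSimple.EmptySix
open Cfsg.Agent.MinSimple.EmptyE.Closed Cfsg.Agent.MinSimple.EmptyMod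
open Cfsg.Agent.PLocal.ThompsonJ

universe u

/-! ### Sylow subgroups -/

section Syl

theorem syl_of_not_dvd {A : Type*} [Group A] [Finite A] {T X : Subgroup A} (hTX : T ≤ X)
    (hT : IsPGroup 2 T) (h : ¬ 2 ∣ T.relIndex X) : Syl T X := by
  have hf : Fact (Nat.Prime 2) := ⟨Nat.prime_two⟩
  refine ⟨hTX, hT, fun Q hQX hQ hTQ => ?_⟩
  obtain ⟨k, hk⟩ := hQ.index (T.subgroupOf Q)
  have h1 : T.relIndex Q ∣ T.relIndex X := by
    rw [← relIndex_mul_relIndex T Q X hTQ hQX]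
    exact dvd_mul_right _ _
  have h2 : T.relIndex Q = 1 := by
    change T.relIndex Q = 2 ^ k at hk
    rcases Nat.eq_zero_or_pos k with h0 | h0
    · rw [hk, h0, pow_zero]
    · exfalso
      apply h
      refine dvd_trans ?_ h1
      rw [hk]
      exact dvd_pow_self 2 (by omega)
  exact le_antisymm (relIndex_eq_one.1 h2) hTQ

theorem syl_map {A B : Type*} [Group A] [Group B] [Finite A] [Finite B] (f : A →* B)
    {T X : Subgroup A} (h : Syl T X) : Syl (T.map f) (X.map f) := by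
  refine syl_of_not_dvd (map_mono h.1) (h.2.1.map f) fun h0 => syl_not_dvd h (h0.trans ?_)
  rw [← relIndex_comap]
  exact relIndex_dvd_of_le_left _ (le_comap_map f T)

/-- The image of a Sylow 2-subgroup of `X ≤ L`. -/
theorem syl_im {A B : Type*} [Group A] [Group B] [Finite A] [Finite B] {L : Subgroup A} (f : L →* B)
    {T X : Subgroup A} (h : Syl T X) (hX : X ≤ L) :
    Syl ((T.subgroupOf L).map f) ((X.subgroupOf L).map f) := by
  refine syl_map f ⟨fun x hx => h.1 hx, ?_, fun Q hQ hQ2 hTQ => ?_⟩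
  · exact h.2.1.comap_of_injective _ L.subtype_injective
  · have h1 := h.2.2 (Q.map L.subtype) (by
      rintro _ ⟨q, hq, rfl⟩
      exact hQ hq) (hQ2.map _) (by
      intro t ht
      exact ⟨⟨t, hX (h.1 ht)⟩, hTQ (mem_subgroupOf.2 ht), rfl⟩)
    rw [← h1]
    exact (comap_map_eq_self_of_injective L.subtype_injective Q).symm

end Syl

/-! ### The transport -/

variable {G : Type u} [Group G]

/-- The conjugation action of `N_G(vv S)` on `V ≃ vv S`. -/
structure Tr (S : Subgroup G) {V : Type u} [CommGroup V] (ι : V →* G) (φ : LL S →* MulAut V) : Prop where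
  inj : Function.Injective ι
  range : ∀ x : G, x ∈ vv S ↔ ∃ v, ι v = x
  act : ∀ (a : LL S) (v : V), ι (φ a v) = a * ι v * (a : G)⁻¹

theorem exists_tr [Finite G] (S : Sylow 2 G) : ∃ (V : Type u) (_ : CommGroup V) (ι : V →* G)
    (φ : LL (S : Subgroup G) →* MulAut V), Tr (S : Subgroup G) ι φ :=
  letI : CommGroup (vv (S : Subgroup G)) := { (inferInstance : Group (vv (S : Subgroup G))) with
      mul_comm := fun a b => Subtype.ext (vv_comm a.2 b.2) }
  ⟨vv (S : Subgroup G), inferInstance, (vv (S : Subgroup G)).subtype,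
    Lib.CoprimeHyperplane.conjHom le_rfl, (vv (S : Subgroup G)).subtype_injective,
    fun x => ⟨fun hx => ⟨⟨x, hx⟩, rfl⟩, by rintro ⟨v, rfl⟩; exact v.2⟩, fun _ _ => rfl⟩

/-- The image of a subgroup of `N_G(vv S)`. -/
def im {S : Subgroup G} {V : Type u} [CommGroup V] (φ : LL S →* MulAut V) (X : Subgroup G) :
    Subgroup (MulAut V) := (X.subgroupOf (LL S)).map φ

theorem mem_im {S : Subgroup G} {V : Type u} [CommGroup V] {φ : LL S →* MulAut V} {X : Subgroup G}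
    {f : MulAut V} : f ∈ im φ X ↔ ∃ x ∈ X, ∃ hx : x ∈ LL S, φ ⟨x, hx⟩ = f := by
  constructor
  · rintro ⟨⟨x, hx⟩, hX, rfl⟩
    exact ⟨x, hX, hx, rfl⟩
  · rintro ⟨x, hX, hx, rfl⟩
    exact ⟨⟨x, hx⟩, hX, rfl⟩

namespace Tr

variable [Finite G] {S : Sylow 2 G} {V : Type u} [CommGroup V] {ι : V →* G}
  {φ : LL (S : Subgroup G) →* MulAut V}

omit [Finite G] in
theorem mem (t : Tr (S : Subgroup G) ι φ) (v : V) : ι v ∈ vv (S : Subgroup G) :=
  (t.range _).2 ⟨v, rfl⟩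

omit [Finite G] in
theorem exists_of_mem (t : Tr (S : Subgroup G) ι φ) {x : G} (hx : x ∈ vv (S : Subgroup G)) :
    ∃ v, ι v = x := (t.range _).1 hx

theorem finite (t : Tr (S : Subgroup G) ι φ) : Finite V := Finite.of_injective ι t.inj

omit [Finite G] in
theorem map_range (t : Tr (S : Subgroup G) ι φ) : (⊤ : Subgroup V).map ι = vv (S : Subgroup G) := by
  ext x
  rw [t.range]
  constructor
  · rintro ⟨v, -, rfl⟩; exact ⟨v, rfl⟩
  · rintro ⟨v, rfl⟩; exact ⟨v, mem_top _, rfl⟩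

omit [Finite G] in
theorem card_map (t : Tr (S : Subgroup G) ι φ) (A : Subgroup V) : Nat.card (A.map ι) = Nat.card A :=
  Nat.card_congr (A.equivMapOfInjective ι t.inj).toEquiv.symm

omit [Finite G] in
theorem card_eq (t : Tr (S : Subgroup G) ι φ) : Nat.card V = Nat.card (vv (S : Subgroup G)) := by
  rw [← t.map_range, t.card_map, card_top]

omit [Finite G] in
theorem map_comap (t : Tr (S : Subgroup G) ι φ) {A : Subgroup G} (hA : A ≤ vv (S : Subgroup G)) :
    (A.comap ι).map ι = A := by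
  ext x
  constructor
  · rintro ⟨v, hv, rfl⟩; exact hv
  · intro hx
    obtain ⟨v, rfl⟩ := t.exists_of_mem (hA hx)
    exact ⟨v, hx, rfl⟩

omit [Finite G] in
theorem card_comap (t : Tr (S : Subgroup G) ι φ) {A : Subgroup G} (hA : A ≤ vv (S : Subgroup G)) :
    Nat.card (A.comap ι) = Nat.card A := by
  conv_rhs => rw [← t.map_comap hA]
  rw [t.card_map]

omit [Finite G] in
theorem fix (t : Tr (S : Subgroup G) ι φ) {a : LL (S : Subgroup G)} {v : V} :
    φ a v = v ↔ a * ι v = ι v * a := by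
  rw [← t.inj.eq_iff, t.act, mul_inv_eq_iff_eq_mul]

omit [Finite G] in
theorem ker (t : Tr (S : Subgroup G) ι φ) {a : LL (S : Subgroup G)} :
    φ a = 1 ↔ (a : G) ∈ centralizer (vv (S : Subgroup G) : Set G) := by
  rw [mem_centralizer_iff]
  constructor
  · intro h x hx
    obtain ⟨v, rfl⟩ := t.exists_of_mem hx
    have h1 : φ a v = v := by rw [h, MulAut.one_apply]
    exact (t.fix.1 h1).symm
  · intro h
    ext v
    rw [MulAut.one_apply]
    exact t.fix.2 (h _ (t.mem v)).symm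

theorem sq (t : Tr (S : Subgroup G) ι φ) (v : V) : v * v = 1 :=
  t.inj (by rw [map_mul, map_one]; exact vv_mul_self (t.mem v))

omit [Finite G] in
theorem ne_one (t : Tr (S : Subgroup G) ι φ) {v : V} (hv : v ≠ 1) : ι v ≠ 1 := fun h0 =>
  hv (t.inj (by rw [h0, map_one]))

theorem solv (_t : Tr (S : Subgroup G) ι φ) (h : ESit S) : Group.IsSolvable φ.range := by
  have : Group.IsSolvable (LL (S : Subgroup G)) := h.solv _ h.isTwoLocal_LL
  exact Group.isSolvable_of_surjective (f := φ.rangeRestrict) φ.rangeRestrict_surjective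

theorem o2_eq (t : Tr (S : Subgroup G) ι φ) (h : ESit S) : o2 φ.range = ⊥ := by
  have := t.finite
  rw [eq_bot_iff]
  have h2 : ∀ x ∈ ((o2 φ.range).comap φ).map (LL (S : Subgroup G)).subtype,
      x ∈ centralizer (vv (S : Subgroup G) : Set G) := by
    have h1 := Basic.le_centralizer_zl_of_pow (S := (S : Subgroup G)) h.le_LL S.isPGroup'
      (Basic.not_dvd_relIndex S h.le_LL)
      (D := ((o2 φ.range).comap φ).map (LL (S : Subgroup G)).subtype) (map_subtype_le _) ?_ ?_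
    · rw [h.zl_LL] at h1; exact h1
    · rintro g hg
      rw [mem_normalizer_iff]
      have key : ∀ g ∈ LL (S : Subgroup G), ∀ x ∈ ((o2 φ.range).comap φ).map (LL (S : Subgroup G)).subtype,
          g * x * g⁻¹ ∈ ((o2 φ.range).comap φ).map (LL (S : Subgroup G)).subtype := by
        rintro g hg _ ⟨x, hx, rfl⟩
        refine ⟨⟨g, hg⟩ * x * ⟨g, hg⟩⁻¹, ?_, rfl⟩
        change φ (⟨g, hg⟩ * x * ⟨g, hg⟩⁻¹) ∈ o2 φ.range
        rw [map_mul, map_mul, map_inv]
        exact (mem_normalizer_iff.1 (ZN.ChoiceSit.le_normalizer_o2 φ.range ⟨_, rfl⟩) _).1 hx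
      refine fun x => ⟨key g hg x, fun hx => ?_⟩
      have h1 := key g⁻¹ (inv_mem hg) _ hx
      have h2 : g⁻¹ * (g * x * g⁻¹) * g⁻¹⁻¹ = x := by group
      rwa [h2] at h1
    · rintro _ ⟨x, hx, rfl⟩
      have hp : Fact (Nat.Prime 2) := ⟨Nat.prime_two⟩
      obtain ⟨k, hk⟩ := VModule.o2_isPGroup φ.range ⟨φ x, hx⟩
      refine ⟨k, ?_⟩
      have h1 : φ (x ^ 2 ^ k) = 1 := by
        rw [map_pow]
        exact congrArg Subtype.val hk
      rw [h.zl_LL]
      exact t.ker.1 h1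
  intro γ hγ
  obtain ⟨x, rfl⟩ : ∃ x, φ x = γ := VModule.o2_le _ hγ
  rw [mem_bot, t.ker]
  exact h2 x ⟨x, hγ, rfl⟩

omit [Finite G] in
theorem range_eq (_t : Tr (S : Subgroup G) ι φ) : im φ (LL (S : Subgroup G)) = φ.range := by
  ext f
  rw [mem_im, MonoidHom.mem_range]
  constructor
  · rintro ⟨x, -, hx, rfl⟩; exact ⟨_, rfl⟩
  · rintro ⟨x, rfl⟩; exact ⟨x, x.2, x.2, rfl⟩

theorem syl (t : Tr (S : Subgroup G) ι φ) (h : ESit S) : Syl (im φ (S : Subgroup G)) φ.range := by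
  have := t.finite
  rw [← t.range_eq]
  exact syl_im φ (syl_of_le h.le_LL) le_rfl

omit [Finite G] in
theorem im_mono (_t : Tr (S : Subgroup G) ι φ) {X Y : Subgroup G} (h : X ≤ Y) : im φ X ≤ im φ Y := by
  intro f hf
  obtain ⟨x, hx, hxL, rfl⟩ := mem_im.1 hf
  exact mem_im.2 ⟨x, h hx, hxL, rfl⟩

omit [Finite G] in
theorem card_im (t : Tr (S : Subgroup G) ι φ) {X : Subgroup G} (hX : X ≤ LL (S : Subgroup G)) :
    Nat.card (im φ X) = (centralizer (vv (S : Subgroup G) : Set G)).relIndex X := by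
  have h1 : im φ X = (φ.comp (inclusion hX)).range := by
    ext f
    rw [mem_im, MonoidHom.mem_range]
    constructor
    · rintro ⟨x, hx, -, rfl⟩; exact ⟨⟨x, hx⟩, rfl⟩
    · rintro ⟨x, rfl⟩; exact ⟨x, x.2, hX x.2, rfl⟩
  rw [h1, ← index_ker, relIndex]
  congr 1
  ext x
  rw [MonoidHom.mem_ker, mem_subgroupOf]
  exact t.ker

omit [Finite G] in
/-- The stabilizer of `u` in `Γ` is the image of `C_L(u)`. -/
theorem im_inf_centralizer (t : Tr (S : Subgroup G) ι φ) (u : V) :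
    im φ (LL (S : Subgroup G) ⊓ centralizer ({ι u} : Set G)) = φ.range ⊓ st u := by
  ext f
  rw [mem_im, mem_inf, MonoidHom.mem_range, mem_st]
  constructor
  · rintro ⟨x, hx, hxL, rfl⟩
    exact ⟨⟨_, rfl⟩, t.fix.2 (mem_centralizer_singleton_iff.1 hx.2)⟩
  · rintro ⟨⟨x, rfl⟩, hx⟩
    exact ⟨x, ⟨x.2, mem_centralizer_singleton_iff.2 (t.fix.1 hx)⟩, x.2, rfl⟩

theorem mem_cl_of_syl (t : Tr (S : Subgroup G) ι φ) (h : ESit S) {u : V} (hu : u ≠ 1)
    {T' : Subgroup (MulAut V)} (hT : Syl T' (φ.range ⊓ st u)) {v : V} (hv : ∀ t ∈ T', t v = v) :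
    ι v ∈ cl (S : Subgroup G) (ι u) := by
  have := t.finite
  obtain ⟨T₁, hT₁, -⟩ := exists_syl (X := LL (S : Subgroup G) ⊓ centralizer ({ι u} : Set G))
    (T := ⊥) IsPGroup.of_bot bot_le
  have h1 := syl_im φ hT₁ inf_le_left
  change Syl (im φ T₁) (im φ _) at h1
  rw [t.im_inf_centralizer] at h1
  obtain ⟨γ, hγ, hγT⟩ := syl_conj h1 hT
  rw [← t.im_inf_centralizer] at hγ
  obtain ⟨c, hc, hcL, rfl⟩ := mem_im.1 hγ
  refine h.inf_centralizer_le (t.mem u) (t.ne_one hu) (syl_cj_of_mem hc hT₁) (mem_inf.2 ⟨t.mem v, ?_⟩)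
  rw [mem_centralizer_iff]
  rintro _ ⟨x, hx, rfl⟩
  have hxL : x ∈ LL (S : Subgroup G) := (hT₁.1 hx).1
  have h2 : φ ⟨c, hcL⟩ * φ ⟨x, hxL⟩ * (φ ⟨c, hcL⟩)⁻¹ ∈ T' := by
    rw [← hγT]
    exact ⟨φ ⟨x, hxL⟩, mem_im.2 ⟨x, hx, hxL, rfl⟩, rfl⟩
  have h3 := hv _ h2
  rw [← map_inv, ← map_mul, ← map_mul, t.fix] at h3
  exact h3

/-- **The hypotheses `Small.Hyp`.** -/
theorem hyp (t : Tr (S : Subgroup G) ι φ) (h : ESit S) {H E : Subgroup G}
    (hZ : zc (S : Subgroup G) ≤ H) (hHV : H ≤ vv (S : Subgroup G)) (hne : H ≠ vv (S : Subgroup G))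
    (hcl : ∀ u ∈ H, u ≠ 1 → cl (S : Subgroup G) u ≤ H) (hES : E ≤ (S : Subgroup G))
    (hEe : IsElementaryAbelian 2 E) (hEH : E ≤ centralizer (H : Set G))
    (hcard : Nat.card (vv (S : Subgroup G)) ≤ 2 * Nat.card H *
      (centralizer (vv (S : Subgroup G) : Set G)).relIndex E)
    (hEne : ¬ E ≤ centralizer (vv (S : Subgroup G) : Set G)) :
    Small.Hyp φ.range (im φ (S : Subgroup G)) (im φ E) (H.comap ι) := by
  have := t.finite
  have hEL : E ≤ LL (S : Subgroup G) := hES.trans h.le_LL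
  refine
    { sq := t.sq
      solv := t.solv h
      o2 := t.o2_eq h
      syl := t.syl h
      le := t.im_mono hES
      Esq := ?_
      Ene := ?_
      ne_top := ?_
      fixT := ?_
      fix := ?_
      index := ?_
      nofix := ?_
      closed := ?_ }
  · intro f hf
    obtain ⟨x, hx, hxL, rfl⟩ := mem_im.1 hf
    rw [← map_mul, ← map_one φ]
    refine congrArg φ (Subtype.ext ?_)
    change x * x = 1
    rw [← pow_two]
    exact (isElementaryAbelian_iff.1 hEe).2 x hx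
  · intro h0
    apply hEne
    intro x hx
    have h1 : φ ⟨x, hEL hx⟩ ∈ im φ E := mem_im.2 ⟨x, hx, hEL hx, rfl⟩
    rw [h0, mem_bot] at h1
    exact t.ker.1 h1
  · intro h0
    apply hne
    rw [← t.map_comap hHV, h0, t.map_range]
  · intro v hv
    refine hZ (h.mem_zc_of_comm (t.mem v) fun s hs => ?_)
    exact t.fix.1 (hv _ (mem_im.2 ⟨s, hs, h.le_LL hs, rfl⟩))
  · intro f hf v hv
    obtain ⟨x, hx, hxL, rfl⟩ := mem_im.1 hf
    exact t.fix.2 (mem_centralizer_iff.1 (hEH hx) _ hv).symm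
  · have h1 := card_mul_index (H.comap ι)
    rw [t.card_comap hHV, t.card_eq] at h1
    rw [t.card_im hEL]
    have h2 : 0 < Nat.card H := Nat.card_pos
    refine Nat.le_of_mul_le_mul_left (c := Nat.card H) ?_ h2
    rw [h1]
    calc _ ≤ _ := hcard
      _ = _ := by ring
  · intro v hv
    refine t.inj ?_
    rw [map_one]
    refine h.eq_one_of_comm (t.mem v) fun g hg => ?_
    exact t.fix.1 (hv _ ⟨⟨g, hg⟩, rfl⟩)
  · intro u hu hu1 T' hT' v hv
    exact hcl _ hu (t.ne_one hu1) (t.mem_cl_of_syl h hu1 hT' hv)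

end Tr

end Cfsg.Agent.MinSimple.EmptyE.Trans
end
end
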